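/-
The derived chain of a 2-group acting in characteristic two, and its behaviour on permutation
modules (helper83).

Main results (namespace `Cfsg.Agent.TwoLength`):
* ser, chainOn and their functorial properties
* exists_fixed_mod, exists_fixed: fixed vectors of 2-groups in characteristic two
* chain_perm_ne_bot, exists_functional_ne_zero: moved points give a nonzero chain
* corner: affine extensions of permutation modules
-/
import Mathlib.GroupTheory.Sylow
import Mathlib.GroupTheory.Solvable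
import Mathlib.GroupTheory.IndexNormal
import Mathlib.Algebra.CharP.Two
import Mathlib.LinearAlgebra.Dual.Lemmas

set_option autoImplicit false

open scoped commutatorElement

namespace Cfsg.Agent.TwoLength

variable {Γ : Type*} [Group Γ]

/-- The derived series of a subgroup, inside the ambient group. -/
def ser (G : Subgroup Γ) : ℕ → Subgroup Γ
  | 0 => G
  | i + 1 => ⁅ser G i, ser G i⁆

theorem ser_zero (G : Subgroup Γ) : ser G 0 = G := rfl

theorem ser_succ (G : Subgroup Γ) (i : ℕ) : ser G (i + 1) = ⁅ser G i, ser G i⁆ := rfl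

theorem commutator_mem_ser {G : Subgroup Γ} {i : ℕ} {x y : Γ} (hx : x ∈ ser G i)
    (hy : y ∈ ser G i) : ⁅x, y⁆ ∈ ser G (i + 1) :=
  Subgroup.commutator_mem_commutator hx hy

theorem ser_succ_le_self (G : Subgroup Γ) (i : ℕ) : ser G (i + 1) ≤ ser G i := by
  rw [ser_succ, Subgroup.commutator_le]
  intro a ha b hb
  rw [commutatorElement_def]
  exact mul_mem (mul_mem (mul_mem ha hb) (inv_mem ha)) (inv_mem hb)

theorem ser_antitone (G : Subgroup Γ) : Antitone (ser G) :=
  antitone_nat_of_succ_le (ser_succ_le_self G)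

theorem ser_le_self (G : Subgroup Γ) (i : ℕ) : ser G i ≤ G := ser_antitone G (Nat.zero_le i)

theorem ser_mono {G G' : Subgroup Γ} (h : G ≤ G') : ∀ i, ser G i ≤ ser G' i
  | 0 => h
  | i + 1 => Subgroup.commutator_mono (ser_mono h i) (ser_mono h i)

theorem ser_map {Γ' : Type*} [Group Γ'] (φ : Γ →* Γ') (G : Subgroup Γ) :
    ∀ i, (ser G i).map φ = ser (G.map φ) i
  | 0 => rfl
  | i + 1 => by rw [ser_succ, Subgroup.map_commutator, ser_map φ G i]; rfl

theorem ser_add (G : Subgroup Γ) (a : ℕ) : ∀ i, ser (ser G a) i = ser G (a + i)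
  | 0 => rfl
  | i + 1 => by rw [ser_succ, ser_add G a i]; rfl

theorem ser_top : ∀ i, ser (⊤ : Subgroup Γ) i = derivedSeries Γ i
  | 0 => rfl
  | i + 1 => by rw [ser_succ, ser_top i, derivedSeries_succ]

theorem derivedSeries_map_subtype (G : Subgroup Γ) (i : ℕ) :
    (derivedSeries G i).map G.subtype = ser G i := by
  rw [← ser_top, ser_map, ← MonoidHom.range_eq_map, Subgroup.range_subtype]

theorem ser_eq_bot_iff {G : Subgroup Γ} {i : ℕ} : derivedSeries G i = ⊥ ↔ ser G i = ⊥ := by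
  rw [← derivedSeries_map_subtype, Subgroup.map_eq_bot_iff_of_injective _ G.subtype_injective]

theorem conj_mem_ser {G : Subgroup Γ} {g : Γ} (hg : g ∈ Subgroup.normalizer (G : Set Γ)) :
    ∀ {i : ℕ} {x : Γ}, x ∈ ser G i → g * x * g⁻¹ ∈ ser G i := by
  intro i x hx
  have h : (ser G i).map (MulAut.conj g).toMonoidHom = ser G i := by
    rw [ser_map]
    congr 1
    ext y
    simp only [Subgroup.mem_map, MulEquiv.coe_toMonoidHom, MulAut.conj_apply]
    constructor
    · rintro ⟨z, hz, rfl⟩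
      exact (Subgroup.mem_normalizer_iff.mp hg z).mp hz
    · intro hy
      refine ⟨g⁻¹ * y * g, (Subgroup.mem_normalizer_iff.mp hg _).mpr (by simpa [mul_assoc] using hy),
        by simp [mul_assoc]⟩
  rw [← h]
  exact ⟨x, hx, by simp⟩

theorem conj_mem_ser_of_mem {G : Subgroup Γ} {g : Γ} (hg : g ∈ G) {i : ℕ} {x : Γ}
    (hx : x ∈ ser G i) : g * x * g⁻¹ ∈ ser G i :=
  conj_mem_ser (Subgroup.le_normalizer hg) hx

variable {F : Type*} [Field F] {V : Type*} [AddCommGroup V] [Module F V]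
  (ρ : Γ →* Module.End F V)

/-- `U₀ = U`, `U_{i+1}` spanned by `(g - 1) u` with `g` in the `i`-th derived term, `u ∈ U_i`. -/
def chainOn (G : Subgroup Γ) (U : Submodule F V) : ℕ → Submodule F V
  | 0 => U
  | i + 1 => ⨆ g ∈ ser G i, (chainOn G U i).map (ρ g - 1)

variable {ρ}

theorem chainOn_zero (G : Subgroup Γ) (U : Submodule F V) : chainOn ρ G U 0 = U := rfl

theorem chainOn_succ_le {G : Subgroup Γ} {U X : Submodule F V} {i : ℕ}
    (h : ∀ g ∈ ser G i, ∀ u ∈ chainOn ρ G U i, ρ g u - u ∈ X) : chainOn ρ G U (i + 1) ≤ X :=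
  iSup₂_le fun g hg => Submodule.map_le_iff_le_comap.mpr fun u hu => h g hg u hu

theorem sub_mem_chainOn {G : Subgroup Γ} {U : Submodule F V} {i : ℕ} {g : Γ} (hg : g ∈ ser G i)
    {u : V} (hu : u ∈ chainOn ρ G U i) : ρ g u - u ∈ chainOn ρ G U (i + 1) :=
  Submodule.mem_iSup_of_mem g (Submodule.mem_iSup_of_mem hg ⟨u, hu, rfl⟩)

theorem chainOn_mono {G G' : Subgroup Γ} (hG : G ≤ G') {U U' : Submodule F V} (hU : U ≤ U') :
    ∀ i, chainOn ρ G U i ≤ chainOn ρ G' U' i
  | 0 => hU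
  | i + 1 => chainOn_succ_le fun _ hg _ hu =>
      sub_mem_chainOn (ser_mono hG i hg) (chainOn_mono hG hU i hu)

theorem chainOn_add (G : Subgroup Γ) (U : Submodule F V) (a : ℕ) :
    ∀ i, chainOn ρ (ser G a) (chainOn ρ G U a) i = chainOn ρ G U (a + i)
  | 0 => rfl
  | i + 1 => by
    show (⨆ g ∈ ser (ser G a) i, _) = ⨆ g ∈ ser G (a + i), _
    rw [ser_add, chainOn_add G U a i]
    rfl

theorem rho_mul (a b : Γ) (v : V) : ρ (a * b) v = ρ a (ρ b v) := by
  rw [map_mul, Module.End.mul_apply]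

theorem rho_inv_rho (a : Γ) (v : V) : ρ a⁻¹ (ρ a v) = v := by
  rw [← rho_mul, inv_mul_cancel, map_one, Module.End.one_apply]

theorem rho_rho_inv (a : Γ) (v : V) : ρ a (ρ a⁻¹ v) = v := by
  rw [← rho_mul, mul_inv_cancel, map_one, Module.End.one_apply]

/-- The chain of an invariant subspace consists of invariant subspaces. -/
theorem chainOn_inv {G : Subgroup Γ} {U : Submodule F V} (hU : ∀ g ∈ G, ∀ u ∈ U, ρ g u ∈ U) :
    ∀ i, chainOn ρ G U i ≤ U ∧ ∀ g ∈ G, ∀ u ∈ chainOn ρ G U i, ρ g u ∈ chainOn ρ G U i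
  | 0 => ⟨le_rfl, hU⟩
  | i + 1 => by
    obtain ⟨hle, hinv⟩ := chainOn_inv hU i
    refine ⟨chainOn_succ_le fun g hg u hu =>
      U.sub_mem (hU g (ser_le_self G i hg) u (hle hu)) (hle hu), fun h hh => ?_⟩
    refine fun w hw => (chainOn_succ_le (X := (chainOn ρ G U (i + 1)).comap (ρ h))
      fun g hg u hu => ?_) hw
    rw [Submodule.mem_comap, map_sub]
    have e : ρ h (ρ g u) = ρ (h * g * h⁻¹) (ρ h u) := by
      simp only [← rho_mul, inv_mul_cancel_right]
    rw [e]
    exact sub_mem_chainOn (conj_mem_ser_of_mem hh hg) (hinv h hh u hu)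

theorem chainOn_succ_le_self {G : Subgroup Γ} {U : Submodule F V}
    (hU : ∀ g ∈ G, ∀ u ∈ U, ρ g u ∈ U) (i : ℕ) :
    chainOn ρ G U (i + 1) ≤ chainOn ρ G U i :=
  chainOn_succ_le fun g hg u hu =>
    (chainOn ρ G U i).sub_mem ((chainOn_inv hU i).2 g (ser_le_self G i hg) u hu) hu

theorem chainOn_antitone {G : Subgroup Γ} {U : Submodule F V}
    (hU : ∀ g ∈ G, ∀ u ∈ U, ρ g u ∈ U) : Antitone (chainOn ρ G U) :=
  antitone_nat_of_succ_le (chainOn_succ_le_self hU)

/-- An equivariant map carries chains onto chains. -/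
theorem map_chainOn {Γ' : Type*} [Group Γ'] {V' : Type*} [AddCommGroup V'] [Module F V']
    {ρ' : Γ' →* Module.End F V'} (φ : Γ →* Γ') {G : Subgroup Γ} {U : Submodule F V}
    (hU : ∀ g ∈ G, ∀ u ∈ U, ρ g u ∈ U) (f : V →ₗ[F] V')
    (hf : ∀ g ∈ G, ∀ u ∈ U, f (ρ g u) = ρ' (φ g) (f u)) :
    ∀ i, (chainOn ρ G U i).map f = chainOn ρ' (G.map φ) (U.map f) i
  | 0 => rfl
  | i + 1 => by
    have ih := map_chainOn φ hU f hf i
    have hle := (chainOn_inv hU i).1
    refine le_antisymm (Submodule.map_le_iff_le_comap.mpr (chainOn_succ_le fun g hg u hu => ?_))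
      (chainOn_succ_le fun g' hg' u' hu' => ?_)
    · rw [Submodule.mem_comap, map_sub, hf g (ser_le_self G i hg) u (hle hu)]
      exact sub_mem_chainOn ((ser_map φ G i).le ⟨g, hg, rfl⟩) (ih.le ⟨u, hu, rfl⟩)
    · obtain ⟨g, hg, rfl⟩ := (ser_map φ G i).ge hg'
      obtain ⟨u, hu, rfl⟩ := ih.ge hu'
      exact ⟨ρ g u - u, sub_mem_chainOn hg hu, by
        rw [map_sub, hf g (ser_le_self G i hg) u (hle hu)]⟩

/-- The chain seen from the subgroup as a group. -/
theorem chainOn_comp_subtype (G : Subgroup Γ) {U : Submodule F V}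
    (hU : ∀ g ∈ G, ∀ u ∈ U, ρ g u ∈ U) (i : ℕ) :
    chainOn (ρ.comp G.subtype) ⊤ U i = chainOn ρ G U i := by
  have h := map_chainOn (ρ := ρ.comp G.subtype) (ρ' := ρ) G.subtype (G := (⊤ : Subgroup G))
    (U := U) (fun g _ u hu => hU g g.2 u hu) LinearMap.id (fun g _ u _ => rfl) i
  rwa [Submodule.map_id, Submodule.map_id, ← MonoidHom.range_eq_map, Subgroup.range_subtype] at h

section Fixed

theorem exists_index_two {P : Subgroup Γ} [Finite Γ] (hP : IsPGroup 2 P) (h : P ≠ ⊥) :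
    ∃ P₀ : Subgroup Γ, P₀ < P ∧ ∃ z ∈ P, z ∉ P₀ ∧
      (∀ x ∈ P, x ∈ P₀ ∨ z⁻¹ * x ∈ P₀) ∧ (∀ x ∈ P, ∀ y ∈ P₀, x * y * x⁻¹ ∈ P₀) := by
  obtain ⟨n, hn⟩ := IsPGroup.iff_card.mp hP
  obtain ⟨m, rfl⟩ : ∃ m, n = m + 1 := ⟨n - 1, by
    rcases n with _ | n
    · exact absurd (Subgroup.eq_bot_of_card_eq P (by simpa using hn)) h
    · rfl⟩
  obtain ⟨H, hH⟩ := Sylow.exists_subgroup_card_pow_prime (G := P) 2 (n := m)
    (hn ▸ pow_dvd_pow 2 m.le_succ)
  have hidx : H.index = 2 := by
    have := H.card_mul_index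
    rw [hH, hn, pow_succ] at this
    exact Nat.eq_of_mul_eq_mul_left (pow_pos two_pos m) this
  have hHn : H.Normal := Subgroup.normal_of_index_eq_two hidx
  refine ⟨H.map P.subtype, lt_of_le_of_ne (Subgroup.map_subtype_le H) fun e => ?_, ?_⟩
  · have h1 : Nat.card (H.map P.subtype) = 2 ^ m := by
      rw [Subgroup.card_subtype, hH]
    rw [e, hn] at h1
    exact absurd h1 (Nat.pow_lt_pow_right one_lt_two m.lt_succ_self).ne'
  obtain ⟨z, hz⟩ : ∃ z : P, z ∉ H := by
    by_contra hc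
    push Not at hc
    have : H = ⊤ := eq_top_iff.mpr fun x _ => hc x
    rw [this, Subgroup.index_top] at hidx
    omega
  refine ⟨z, z.2, fun hzm => hz ?_, fun x hx => ?_, fun x hx y hy => ?_⟩
  · obtain ⟨w, hw, hwz⟩ := hzm
    rwa [← Subtype.ext hwz]
  · by_cases hxH : (⟨x, hx⟩ : P) ∈ H
    · exact Or.inl ⟨_, hxH, rfl⟩
    · refine Or.inr ⟨z⁻¹ * ⟨x, hx⟩, ?_, rfl⟩
      rw [SetLike.mem_coe, Subgroup.mul_mem_iff_of_index_two hidx, inv_mem_iff]
      exact iff_of_false hz hxH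
  · obtain ⟨w, hw, rfl⟩ := hy
    exact ⟨⟨x, hx⟩ * w * ⟨x, hx⟩⁻¹, hHn.conj_mem w hw _, rfl⟩

variable [Finite Γ] [CharP F 2]

theorem neg_eq_self' (F : Type*) [Field F] [CharP F 2] {V : Type*} [AddCommGroup V] [Module F V] (v : V) : -v = v := by
  rw [← neg_one_smul F v, CharTwo.neg_eq, one_smul]

theorem sub_eq_add' (F : Type*) [Field F] [CharP F 2] {V : Type*} [AddCommGroup V] [Module F V]
    (v w : V) : v - w = v + w := by rw [sub_eq_add_neg, neg_eq_self' F]

theorem exists_fixed_mod_aux : ∀ (n : ℕ) (P : Subgroup Γ), Nat.card P ≤ n → IsPGroup 2 P →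
    ∀ (W Z : Submodule F V), Z < W → (∀ g ∈ P, ∀ w ∈ W, ρ g w ∈ W) →
    (∀ g ∈ P, ∀ w ∈ Z, ρ g w ∈ Z) →
    ∃ w ∈ W, w ∉ Z ∧ ∀ g ∈ P, ρ g w - w ∈ Z := by
  intro n
  induction n with
  | zero => intro P hn; exact absurd (Nat.card_pos (α := P)) (by omega)
  | succ n ih =>
    intro P hn hP W Z hlt hW hZ
    obtain ⟨w, hw, hwZ⟩ := SetLike.exists_of_lt hlt
    by_cases hb : P = ⊥
    · refine ⟨w, hw, hwZ, fun g hg => ?_⟩
      rw [hb, Subgroup.mem_bot] at hg
      rw [hg, map_one, Module.End.one_apply, sub_self]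
      exact Z.zero_mem
    obtain ⟨P₀, hlt₀, z, hz, -, hcov, hnorm⟩ := exists_index_two hP hb
    have hcard : Nat.card P₀ ≤ n := by
      have : Nat.card P₀ < Nat.card P := Set.Finite.card_lt_card (Set.toFinite _) hlt₀
      omega
    obtain ⟨w, hw, hwZ, hfix⟩ := ih P₀ hcard (hP.to_le hlt₀.le) W Z hlt
      (fun g hg => hW g (hlt₀.le hg)) (fun g hg => hZ g (hlt₀.le hg))
    -- `P₀` fixes `w` and `z w` modulo `Z`
    have hzfix : ∀ g ∈ P₀, ρ g (ρ z w) - ρ z w ∈ Z := fun g hg => by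
      have hg' : z⁻¹ * g * z ∈ P₀ := by simpa using hnorm z⁻¹ (inv_mem hz) g hg
      have e : ρ g (ρ z w) = ρ z (ρ (z⁻¹ * g * z) w) := by
        simp only [← rho_mul, mul_assoc, mul_inv_cancel_left]
      rw [e, ← map_sub]
      exact hZ z hz _ (hfix _ hg')
    have hext : ∀ v, (∀ g ∈ P₀, ρ g v - v ∈ Z) → ρ z v - v ∈ Z →
        ∀ g ∈ P, ρ g v - v ∈ Z := by
      intro v h0 hzv g hg
      rcases hcov g hg with h | h
      · exact h0 g h
      · have e : ρ g v - v = ρ z (ρ (z⁻¹ * g) v - v) + (ρ z v - v) := by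
          rw [map_sub, ← rho_mul, mul_inv_cancel_left]
          abel
        rw [e]
        exact Z.add_mem (hZ z hz _ (h0 _ h)) hzv
    by_cases hzw : ρ z w - w ∈ Z
    · exact ⟨w, hw, hwZ, hext w hfix hzw⟩
    refine ⟨ρ z w - w, W.sub_mem (hW z hz w hw) hw, hzw, hext _ (fun g hg => ?_) ?_⟩
    · rw [map_sub, sub_sub_sub_comm]
      exact Z.sub_mem (hzfix g hg) (hfix g hg)
    · have hz2 : z * z ∈ P₀ := by
        rcases hcov (z * z) (mul_mem hz hz) with h | h
        · exact h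
        · rw [inv_mul_cancel_left] at h
          exact mul_mem h h
      have e : ρ z (ρ z w - w) - (ρ z w - w) = ρ (z * z) w - w := by
        rw [map_sub, ← rho_mul, sub_eq_add' F (ρ (z * z) w) (ρ z w), sub_eq_add' F,
          sub_eq_add' F, sub_eq_add' F]
        have h2 : ρ z w + ρ z w = 0 := by
          rw [← sub_eq_add' F, sub_self]
        calc ρ (z * z) w + ρ z w + (ρ z w + w) = ρ (z * z) w + w + (ρ z w + ρ z w) := by abel
          _ = _ := by rw [h2, add_zero]
      rw [e]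
      exact hfix _ hz2

/-- A 2-group in characteristic two fixes a nonzero class of a nonzero invariant section. -/
theorem exists_fixed_mod {P : Subgroup Γ} (hP : IsPGroup 2 P) {W Z : Submodule F V} (hlt : Z < W)
    (hW : ∀ g ∈ P, ∀ w ∈ W, ρ g w ∈ W) (hZ : ∀ g ∈ P, ∀ w ∈ Z, ρ g w ∈ Z) :
    ∃ w ∈ W, w ∉ Z ∧ ∀ g ∈ P, ρ g w - w ∈ Z :=
  exists_fixed_mod_aux _ P le_rfl hP W Z hlt hW hZ

theorem exists_fixed {P : Subgroup Γ} (hP : IsPGroup 2 P) {W : Submodule F V} (hne : W ≠ ⊥)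
    (hW : ∀ g ∈ P, ∀ w ∈ W, ρ g w ∈ W) : ∃ w ∈ W, w ≠ 0 ∧ ∀ g ∈ P, ρ g w = w := by
  obtain ⟨w, hw, hwZ, h⟩ := exists_fixed_mod hP (bot_lt_iff_ne_bot.mpr hne) hW
    (fun g _ w hw => by rw [Submodule.mem_bot] at hw ⊢; rw [hw, map_zero])
  exact ⟨w, hw, fun e => hwZ (e ▸ Submodule.zero_mem _), fun g hg =>
    sub_eq_zero.mp ((Submodule.mem_bot F).mp (h g hg))⟩

end Fixed

section Perm

variable (F) {G : Type*} [Group G]

/-- The permutation representation on functions on the cosets. -/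
def permRep (H : Subgroup G) : G →* Module.End F (G ⧸ H → F) where
  toFun g := LinearMap.funLeft F F fun q => g⁻¹ • q
  map_one' := LinearMap.ext fun f => funext fun q => by simp [LinearMap.funLeft]
  map_mul' a b := LinearMap.ext fun f => funext fun q => by
    simp [LinearMap.funLeft, mul_inv_rev, mul_smul]

variable {F}

theorem permRep_apply (H : Subgroup G) (g : G) (f : G ⧸ H → F) (q : G ⧸ H) :
    permRep F H g f q = f (g⁻¹ • q) := rfl

theorem exists_index_two_ge [Finite G] (hG : IsPGroup 2 G) {H : Subgroup G} (hH : H ≠ ⊤) :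
    ∃ H' : Subgroup G, ∃ hle : H ≤ H', ∃ t ∈ H', t ∉ H ∧
      (∀ x ∈ H', x ∈ H ∨ t⁻¹ * x ∈ H) ∧ t * t ∈ H ∧ H'.index < H.index := by
  obtain ⟨n, hn⟩ := IsPGroup.iff_card.mp (hG.to_subgroup H)
  obtain ⟨m, hm⟩ := IsPGroup.iff_card.mp hG
  have hlt : n < m := by
    rcases lt_or_ge n m with h | h
    · exact h
    · exfalso
      refine hH (Subgroup.eq_top_of_card_eq H (le_antisymm (Finite.card_subtype_le _) ?_))
      rw [hn, hm]
      exact Nat.pow_le_pow_right two_pos h
  obtain ⟨H', hc', hle⟩ := Sylow.exists_subgroup_card_pow_succ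
    (hm ▸ pow_dvd_pow 2 (Nat.succ_le_of_lt hlt)) hn
  have hri : (H.subgroupOf H').index = 2 := by
    have := (H.subgroupOf H').card_mul_index
    rw [Nat.card_congr (Subgroup.subgroupOfEquivOfLe hle).toEquiv, hn, hc', pow_succ] at this
    exact Nat.eq_of_mul_eq_mul_left (pow_pos two_pos n) this
  obtain ⟨t, ht⟩ : ∃ t : H', (t : G) ∉ H := by
    by_contra hc
    push Not at hc
    rw [Subgroup.subgroupOf_eq_top.mpr (fun x hx => hc ⟨x, hx⟩), Subgroup.index_top] at hri
    omega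
  refine ⟨H', hle, t, t.2, ht, fun x hx => ?_, ?_, ?_⟩
  · by_cases hxH : x ∈ H
    · exact Or.inl hxH
    · refine Or.inr ?_
      have h1 : (t⁻¹ * ⟨x, hx⟩ : H') ∈ H.subgroupOf H' := by
        rw [Subgroup.mul_mem_iff_of_index_two hri, inv_mem_iff]
        exact iff_of_false ht hxH
      exact h1
  · have h1 : t * t ∈ H.subgroupOf H' := Subgroup.mul_self_mem_of_index_two hri t
    exact h1
  · have h1 := H.card_mul_index
    have h2 := H'.card_mul_index
    rw [hn] at h1
    rw [hc', ← h1, pow_succ, mul_assoc] at h2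
    have h3 := Nat.eq_of_mul_eq_mul_left (pow_pos two_pos n) h2
    have := Nat.pos_of_ne_zero (Subgroup.index_ne_zero_of_finite (H := H'))
    omega

/-- The projection of cosets. -/
def cosetProj {H H' : Subgroup G} (hle : H ≤ H') : G ⧸ H → G ⧸ H' :=
  Subgroup.quotientMapOfLE hle

theorem cosetProj_mk {H H' : Subgroup G} (hle : H ≤ H') (g : G) :
    cosetProj hle (g : G ⧸ H) = (g : G ⧸ H') := rfl

theorem cosetProj_smul {H H' : Subgroup G} (hle : H ≤ H') (g : G) (q : G ⧸ H) :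
    cosetProj hle (g • q) = g • cosetProj hle q := by
  induction q using QuotientGroup.induction_on with | _ a => rfl

variable {H H' : Subgroup G} {hle : H ≤ H'} {t : G}

/-- A pair system: `H` has index two in `H'`. -/
structure Pairs (H H' : Subgroup G) (hle : H ≤ H') (t : G) : Prop where
  mem : t ∈ H'
  not_mem : t ∉ H
  cov : ∀ x ∈ H', x ∈ H ∨ t⁻¹ * x ∈ H
  sq : t * t ∈ H

theorem Pairs.proj_mul (hp : Pairs H H' hle t) (a : G) :
    cosetProj hle ((a * t : G) : G ⧸ H) = (a : G ⧸ H') := by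
  rw [cosetProj_mk, QuotientGroup.eq]
  simp [hp.mem]

theorem Pairs.mk_mul_ne (hp : Pairs H H' hle t) (a : G) :
    ((a * t : G) : G ⧸ H) ≠ (a : G ⧸ H) := by
  rw [ne_eq, QuotientGroup.eq]
  simpa using hp.not_mem

theorem Pairs.fibre (hp : Pairs H H' hle t) {q : G ⧸ H} {a : G}
    (h : cosetProj hle q = (a : G ⧸ H')) :
    q = (a : G ⧸ H) ∨ q = ((a * t : G) : G ⧸ H) := by
  induction q using QuotientGroup.induction_on with | _ b => ?_
  rw [cosetProj_mk, eq_comm, QuotientGroup.eq] at h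
  rcases hp.cov _ h with h1 | h1
  · exact Or.inl (QuotientGroup.eq.mpr h1).symm
  · refine Or.inr (QuotientGroup.eq.mpr ?_).symm
    simpa [mul_assoc] using h1

theorem Pairs.smul_cases (hp : Pairs H H' hle t) {g a : G}
    (h : g • (a : G ⧸ H') = (a : G ⧸ H')) :
    (g • (a : G ⧸ H) = (a : G ⧸ H) ∧ g • ((a * t : G) : G ⧸ H) = ((a * t : G) : G ⧸ H)) ∨
      (g • (a : G ⧸ H) = ((a * t : G) : G ⧸ H) ∧ g • ((a * t : G) : G ⧸ H) = (a : G ⧸ H)) := by
  have h1 : cosetProj hle (g • (a : G ⧸ H)) = (a : G ⧸ H') := by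
    rw [cosetProj_smul, cosetProj_mk, h]
  have h2 : cosetProj hle (g • ((a * t : G) : G ⧸ H)) = (a : G ⧸ H') := by
    rw [cosetProj_smul, hp.proj_mul, h]
  have hne := hp.mk_mul_ne a
  rcases hp.fibre h1 with e1 | e1 <;> rcases hp.fibre h2 with e2 | e2
  · exact absurd (smul_left_cancel g (e2.trans e1.symm)) hne
  · exact Or.inl ⟨e1, e2⟩
  · exact Or.inr ⟨e1, e2⟩
  · exact absurd (smul_left_cancel g (e2.trans e1.symm)) hne

theorem Pairs.commutator_fix (hp : Pairs H H' hle t) {x y : G}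
    (hx : ∀ q : G ⧸ H', x • q = q) (hy : ∀ q : G ⧸ H', y • q = q) (q : G ⧸ H) :
    ⁅x, y⁆ • q = q := by
  induction q using QuotientGroup.induction_on with | _ a => ?_
  have hcomm : ∀ b : G, x • y • (b : G ⧸ H) = y • x • (b : G ⧸ H) := by
    intro b
    rcases hp.smul_cases (hx b) with ⟨x1, x2⟩ | ⟨x1, x2⟩ <;>
      rcases hp.smul_cases (hy b) with ⟨y1, y2⟩ | ⟨y1, y2⟩ <;>
      simp only [x1, x2, y1, y2]
  have h : ∀ r : G ⧸ H, x • y • r = y • x • r := fun r => by
    induction r using QuotientGroup.induction_on with | _ b => exact hcomm b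
  rw [commutatorElement_def, mul_smul, mul_smul, mul_smul, h, smul_inv_smul, smul_inv_smul]

/-- Summing a function over the pairs. -/
noncomputable def pairSum (F : Type*) [Field F] (H' : Subgroup G) (hle : H ≤ H') (t : G) :
    (G ⧸ H → F) →ₗ[F] (G ⧸ H' → F) :=
  LinearMap.funLeft F F (fun q : G ⧸ H' => ((Quotient.out q : G) : G ⧸ H)) +
    LinearMap.funLeft F F (fun q : G ⧸ H' => ((Quotient.out q * t : G) : G ⧸ H))

theorem Pairs.pairSum_apply (hp : Pairs H H' hle t) (f : G ⧸ H → F) (a : G) :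
    pairSum F H' hle t f (a : G ⧸ H') = f (a : G ⧸ H) + f ((a * t : G) : G ⧸ H) := by
  set b := Quotient.out (a : G ⧸ H')
  have hb : (b : G ⧸ H') = (a : G ⧸ H') := QuotientGroup.out_eq' _
  have h1 : cosetProj hle (b : G ⧸ H) = (a : G ⧸ H') := by rw [cosetProj_mk, hb]
  have h2 : cosetProj hle ((b * t : G) : G ⧸ H) = (a : G ⧸ H') := by rw [hp.proj_mul, hb]
  have hne := hp.mk_mul_ne b
  show f (b : G ⧸ H) + f ((b * t : G) : G ⧸ H) = _
  rcases hp.fibre h1 with e1 | e1 <;> rcases hp.fibre h2 with e2 | e2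
  · exact absurd (e2.trans e1.symm) hne
  · rw [e1, e2]
  · rw [e1, e2, add_comm]
  · exact absurd (e2.trans e1.symm) hne

theorem Pairs.pairSum_equivariant (hp : Pairs H H' hle t) (g : G) (f : G ⧸ H → F) :
    pairSum F H' hle t (permRep F H g f) = permRep F H' g (pairSum F H' hle t f) := by
  funext q
  induction q using QuotientGroup.induction_on with | _ a => ?_
  rw [hp.pairSum_apply, permRep_apply, permRep_apply, permRep_apply,
    MulAction.Quotient.smul_coe, MulAction.Quotient.smul_coe, MulAction.Quotient.smul_coe,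
    hp.pairSum_apply, smul_eq_mul, smul_eq_mul, mul_assoc]

theorem Pairs.pairSum_surjective (hp : Pairs H H' hle t) :
    Function.Surjective (pairSum F H' hle t) := by
  classical
  intro f
  refine ⟨fun q => if ((Quotient.out (cosetProj hle q) : G) : G ⧸ H) = q
    then f (cosetProj hle q) else 0, funext fun q => ?_⟩
  show (if _ then _ else (0 : F)) + (if _ then _ else (0 : F)) = _
  rw [cosetProj_mk, hp.proj_mul, QuotientGroup.out_eq', if_pos rfl,
    if_neg (hp.mk_mul_ne _).symm, add_zero]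

theorem smul_eq_self_of_fix {g : G} (h : ∀ q : G ⧸ H, g • q = q) (q : G ⧸ H) : g⁻¹ • q = q :=
  inv_smul_eq_iff.mpr (h q).symm

variable [Finite G] [CharP F 2]

omit [Finite G] [CharP F 2] in
theorem constant_of_fixed {w : G ⧸ H → F}
    (hw : ∀ g : G, permRep F H g w = w) (q : G ⧸ H) : w q = w ((1 : G) : G ⧸ H) := by
  induction q using QuotientGroup.induction_on with | _ a => ?_
  have := congrFun (hw a) (a : G ⧸ H)
  rw [permRep_apply, MulAction.Quotient.smul_coe, smul_eq_mul, inv_mul_cancel] at this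
  exact this.symm

/-- If the `j`-th derived term moves a coset then the chain of the permutation module is nonzero
one step further. -/
theorem chain_perm_ne_bot (hG : IsPGroup 2 G) : ∀ (n : ℕ) (H : Subgroup G), H.index ≤ n →
    ∀ j, (∃ g ∈ ser (⊤ : Subgroup G) j, ∃ q : G ⧸ H, g • q ≠ q) →
    chainOn (permRep F H) ⊤ ⊤ (j + 1) ≠ ⊥ := by
  classical
  intro n
  induction n with
  | zero => intro H hn; exact absurd hn (by have := H.index_ne_zero_of_finite; omega)
  | succ n ih =>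
    intro H hn j hj
    obtain ⟨g, hg, q, hq⟩ := hj
    rcases j with _ | j
    · intro h
      have h1 := sub_mem_chainOn (ρ := permRep F H) hg
        (show (Pi.single q 1 : G ⧸ H → F) ∈ chainOn (permRep F H) ⊤ ⊤ 0 from trivial)
      rw [h, Submodule.mem_bot] at h1
      have h2 := congrFun h1 q
      rw [Pi.sub_apply, permRep_apply, Pi.single_eq_same, Pi.single_eq_of_ne
        (fun e => hq (by rw [← inv_smul_eq_iff.mp e])), Pi.zero_apply, zero_sub,
        neg_eq_zero] at h2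
      exact one_ne_zero h2
    have hH : H ≠ ⊤ := by
      rintro rfl
      exact hq (Subsingleton.elim (h := QuotientGroup.subsingleton_quotient_top) _ _)
    obtain ⟨H', hle, t, ht, htH, hcov, hsq, hidx⟩ := exists_index_two_ge hG hH
    have hp : Pairs H H' hle t := ⟨ht, htH, hcov, hsq⟩
    have ih' := ih H' (by omega)
    have hmap : ∀ i, (chainOn (permRep F H) ⊤ ⊤ i).map (pairSum F H' hle t) =
        chainOn (permRep F H') ⊤ ⊤ i := fun i => by
      have h := map_chainOn (ρ := permRep F H) (ρ' := permRep F H') (MonoidHom.id G)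
        (G := ⊤) (U := ⊤) (fun _ _ _ _ => Submodule.mem_top) (pairSum F H' hle t)
        (fun a _ f _ => hp.pairSum_equivariant a f) i
      rwa [Subgroup.map_id, Submodule.map_top, LinearMap.range_eq_top.mpr hp.pairSum_surjective]
        at h
    by_cases h1 : ∃ g ∈ ser (⊤ : Subgroup G) (j + 1), ∃ q : G ⧸ H', g • q ≠ q
    · intro h
      exact ih' _ h1 (by rw [← hmap, h, Submodule.map_bot])
    push Not at h1
    have h2 : ∃ g ∈ ser (⊤ : Subgroup G) j, ∃ q : G ⧸ H', g • q ≠ q := by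
      by_contra hc
      push Not at hc
      let S : Subgroup G :=
        { carrier := {a | ∀ r : G ⧸ H, a • r = r}
          one_mem' := fun r => one_smul G r
          mul_mem' := fun {a b} ha hb r => by rw [mul_smul, hb, ha]
          inv_mem' := fun {a} ha r => smul_eq_self_of_fix ha r }
      have hS : ser (⊤ : Subgroup G) (j + 1) ≤ S := by
        rw [ser_succ, Subgroup.commutator_le]
        exact fun x hx y hy => hp.commutator_fix (hc x hx) (hc y hy)
      exact hq (hS hg q)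
    obtain ⟨w, hw, hw0, hwfix⟩ := exists_fixed (ρ := permRep F H')
      (P := (⊤ : Subgroup G)) (hG.to_subgroup ⊤) (ih' j h2)
      (fun a ha => (chainOn_inv (fun _ _ _ _ => Submodule.mem_top) _).2 a ha)
    have hconst := constant_of_fixed (fun a => hwfix a (Subgroup.mem_top a))
    obtain ⟨u, hu, huw⟩ := (hmap (j + 1)).ge hw
    induction q using QuotientGroup.induction_on with | _ a => ?_
    rcases hp.smul_cases (h1 g hg (a : G ⧸ H')) with ⟨e1, -⟩ | ⟨e1, e2⟩
    · exact absurd e1 hq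
    intro h
    have h3 := sub_mem_chainOn (ρ := permRep F H) hg hu
    rw [h, Submodule.mem_bot] at h3
    have h4 := congrFun h3 (a : G ⧸ H)
    rw [Pi.sub_apply, permRep_apply, inv_smul_eq_iff.mpr e2.symm, Pi.zero_apply,
      sub_eq_add' F, add_comm, ← hp.pairSum_apply, huw, hconst] at h4
    exact hw0 (funext fun r => (hconst r).trans h4)

/-- A functional fixed by `H` whose translates are independent is nonzero on a chain. -/
theorem exists_functional_ne_zero (hG : IsPGroup 2 G) {V : Type*} [AddCommGroup V] [Module F V]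
    (ρ : G →* Module.End F V) (H : Subgroup G) (U : Submodule F V)
    (hU : ∀ g : G, ∀ u ∈ U, ρ g u ∈ U) (η : V →ₗ[F] F) (hη : ∀ h ∈ H, ∀ u ∈ U, η (ρ h u) = η u)
    (hsurj : ∀ f : G ⧸ H → F, ∃ u ∈ U, ∀ q : G ⧸ H, η (ρ (Quotient.out q)⁻¹ u) = f q)
    {j : ℕ} (hj : ¬ ser (⊤ : Subgroup G) j ≤ H) :
    ∃ u ∈ chainOn ρ ⊤ U (j + 1), η u ≠ 0 := by
  obtain ⟨g, hg, hgH⟩ := SetLike.not_le_iff_exists.mp hj
  have hmv : g • ((1 : G) : G ⧸ H) ≠ ((1 : G) : G ⧸ H) := by
    rw [MulAction.Quotient.smul_coe, smul_eq_mul, mul_one, ne_eq, QuotientGroup.eq, mul_one,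
      inv_mem_iff]
    exact hgH
  let f : V →ₗ[F] (G ⧸ H → F) := LinearMap.pi fun q => η.comp (ρ (Quotient.out q)⁻¹)
  have hf : ∀ a ∈ (⊤ : Subgroup G), ∀ u ∈ U, f (ρ a u) = permRep F H a (f u) := by
    intro a _ u hu
    funext q
    show η (ρ (Quotient.out q)⁻¹ (ρ a u)) = η (ρ (Quotient.out (a⁻¹ • q))⁻¹ u)
    have hmem : (Quotient.out q)⁻¹ * a * Quotient.out (a⁻¹ • q) ∈ H := by
      rw [mul_assoc, ← QuotientGroup.eq, QuotientGroup.out_eq', ← smul_eq_mul,
        ← MulAction.Quotient.smul_coe, QuotientGroup.out_eq', smul_inv_smul]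
    rw [← hη _ hmem (ρ (Quotient.out (a⁻¹ • q))⁻¹ u) (hU _ u hu)]
    simp only [← rho_mul, mul_inv_cancel_right]
  have hUf : U.map f = ⊤ := eq_top_iff.mpr fun x _ => by
    obtain ⟨u, hu, h⟩ := hsurj x
    exact ⟨u, hu, funext h⟩
  have hmap := map_chainOn (ρ := ρ) (ρ' := permRep F H) (MonoidHom.id G) (G := ⊤) (U := U)
    (fun a _ => hU a) f hf (j + 1)
  rw [Subgroup.map_id, hUf] at hmap
  have hne := chain_perm_ne_bot (F := F) hG _ H le_rfl j ⟨g, hg, _, hmv⟩
  rw [← hmap] at hne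
  obtain ⟨_, ⟨u, hu, rfl⟩, hfu⟩ := Submodule.exists_mem_ne_zero_of_ne_bot hne
  obtain ⟨q, hq⟩ := Function.ne_iff.mp hfu
  exact ⟨ρ (Quotient.out q)⁻¹ u, (chainOn_inv (fun a _ => hU a) _).2 _ (Subgroup.mem_top _) u hu, hq⟩

/-- `(g - 1) f` on a pair. -/
theorem Pairs.sub_apply (hp : Pairs H H' hle t) {g a : G}
    (h : g • (a : G ⧸ H') = (a : G ⧸ H')) (f : G ⧸ H → F) :
    (g • (a : G ⧸ H) = (a : G ⧸ H) ∧ (permRep F H g f - f) (a : G ⧸ H) = 0) ∨
      (g • (a : G ⧸ H) ≠ (a : G ⧸ H) ∧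
        (permRep F H g f - f) (a : G ⧸ H) = pairSum F H' hle t f (a : G ⧸ H')) := by
  rcases hp.smul_cases h with ⟨e1, -⟩ | ⟨e1, e2⟩
  · exact Or.inl ⟨e1, by rw [Pi.sub_apply, permRep_apply, inv_smul_eq_iff.mpr e1.symm, sub_self]⟩
  · exact Or.inr ⟨e1 ▸ hp.mk_mul_ne a, by
      rw [Pi.sub_apply, permRep_apply, inv_smul_eq_iff.mpr e2.symm, sub_eq_add' F, add_comm,
        hp.pairSum_apply]⟩

/-- An affine extension of a permutation module whose chain consists of constants is split on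
the first derived term fixing all points. -/
theorem corner (hG : IsPGroup 2 G) {V : Type*} [AddCommGroup V] [Module F V]
    (ρ : G →* Module.End F V) (K : Submodule F V) (hK : ∀ g : G, ∀ u ∈ K, ρ g u ∈ K)
    (hsub : ∀ (g : G) (x : V), ρ g x - x ∈ K) :
    ∀ (d : ℕ) (H : Subgroup G) (π : V →ₗ[F] (G ⧸ H → F)),
      (∀ g : G, ∀ u ∈ K, π (ρ g u) = permRep F H g (π u)) → K.map π = ⊤ →
      (∀ g ∈ ser (⊤ : Subgroup G) (d + 1), ∀ q : G ⧸ H, g • q = q) →
      (∃ g ∈ ser (⊤ : Subgroup G) d, ∃ q : G ⧸ H, g • q ≠ q) →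
      (∀ u ∈ chainOn ρ ⊤ ⊤ (d + 1), ∀ q r : G ⧸ H, π u q = π u r) →
      ∀ g ∈ ser (⊤ : Subgroup G) (d + 1), ∀ x, π (ρ g x - x) = 0 := by
  intro d
  induction d with
  | zero =>
    intro H π heq hsurj hfix _ hC
    let S : Subgroup G :=
      { carrier := {a | ∀ x, π (ρ a x - x) = 0}
        one_mem' := fun x => by simp
        mul_mem' := fun {a b} ha hb x => by
          have e : ρ (a * b) x - x = ρ a (ρ b x - x) + (ρ a x - x) := by
            rw [map_sub, ← rho_mul]; abel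
          rw [e, map_add, heq a _ (hsub b x), hb, map_zero, ha, add_zero]
        inv_mem' := fun {a} ha x => by
          have e : ρ a⁻¹ x - x = -(ρ a (ρ a⁻¹ x) - ρ a⁻¹ x) := by rw [rho_rho_inv, neg_sub]
          rw [e, map_neg, ha, neg_zero] }
    intro g hg
    refine (show ser (⊤ : Subgroup G) 1 ≤ S from ?_) hg
    rw [ser_succ, Subgroup.commutator_le]
    intro x hx y hy e
    set e' := ρ (x⁻¹ * y⁻¹) e with he'
    have hid : ρ ⁅x, y⁆ e - e = (ρ x (ρ y e' - e') - (ρ y e' - e')) -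
        (ρ y (ρ x e' - e') - (ρ x e' - e')) := by
      have h1 : ρ y (ρ x e') = e := by
        rw [he', ← rho_mul, ← rho_mul]; simp [mul_assoc]
      have h2 : ρ x (ρ y e') = ρ ⁅x, y⁆ e := by
        rw [he', ← rho_mul, ← rho_mul]; simp [mul_assoc, commutatorElement_def]
      rw [map_sub, map_sub, h1, h2]
      abel
    have hz : ∀ a b : G, π (ρ a (ρ b e' - e') - (ρ b e' - e')) = 0 := fun a b => by
      rw [map_sub, heq a _ (hsub b e')]
      funext q
      rw [Pi.sub_apply, permRep_apply, Pi.zero_apply, sub_eq_zero]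
      exact hC _ (sub_mem_chainOn (Subgroup.mem_top b) Submodule.mem_top) _ _
    rw [hid, map_sub, hz, hz, sub_zero]
  | succ d ih =>
    intro H π heq hsurj hfix hmov hC
    obtain ⟨g₀, hg₀, q₀, hq₀⟩ := hmov
    have hH : H ≠ ⊤ := by
      rintro rfl
      exact hq₀ (Subsingleton.elim (h := QuotientGroup.subsingleton_quotient_top) _ _)
    obtain ⟨H', hle, t, ht, htH, hcov, hsq, -⟩ := exists_index_two_ge hG hH
    have hp : Pairs H H' hle t := ⟨ht, htH, hcov, hsq⟩
    set σ := pairSum F H' hle t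
    set π' := σ.comp π
    have heq' : ∀ g : G, ∀ u ∈ K, π' (ρ g u) = permRep F H' g (π' u) := fun g u hu => by
      show σ (π (ρ g u)) = _
      rw [heq g u hu, hp.pairSum_equivariant]
      rfl
    have hsurj' : K.map π' = ⊤ := by
      rw [Submodule.map_comp, hsurj, Submodule.map_top,
        LinearMap.range_eq_top.mpr hp.pairSum_surjective]
    have hlift : ∀ i, chainOn (permRep F H') ⊤ ⊤ i ≤ (chainOn ρ ⊤ ⊤ i).map π' := fun i => by
      have h := map_chainOn (ρ := ρ) (ρ' := permRep F H') (MonoidHom.id G) (G := ⊤) (U := K)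
        (fun a _ => hK a) π' (fun a _ => heq' a) i
      rw [Subgroup.map_id, hsurj'] at h
      exact h.ge.trans (Submodule.map_mono (chainOn_mono le_rfl le_top i))
    have hfix' : ∀ g ∈ ser (⊤ : Subgroup G) (d + 1), ∀ q : G ⧸ H', g • q = q := by
      intro g hg q
      by_contra hq
      refine chain_perm_ne_bot (F := F) hG _ H' le_rfl (d + 1) ⟨g, hg, q, hq⟩
        (eq_bot_iff.mpr fun w hw => ?_)
      obtain ⟨u, hu, rfl⟩ := hlift _ hw
      refine (Submodule.mem_bot F).mpr (funext fun r => ?_)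
      induction r using QuotientGroup.induction_on with | _ b => ?_
      show σ (π u) _ = 0
      rw [hp.pairSum_apply, hC u hu _ ((b : G) : G ⧸ H), ← sub_eq_add' F, sub_eq_zero]
      exact hC u hu _ _
    have hmov' : ∃ g ∈ ser (⊤ : Subgroup G) d, ∃ q : G ⧸ H', g • q ≠ q := by
      by_contra hc
      push Not at hc
      let S : Subgroup G :=
        { carrier := {a | ∀ r : G ⧸ H, a • r = r}
          one_mem' := fun r => one_smul G r
          mul_mem' := fun {a b} ha hb r => by rw [mul_smul, hb, ha]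
          inv_mem' := fun {a} ha r => smul_eq_self_of_fix ha r }
      have hS : ser (⊤ : Subgroup G) (d + 1) ≤ S := by
        rw [ser_succ, Subgroup.commutator_le]
        exact fun x hx y hy => hp.commutator_fix (hc x hx) (hc y hy)
      exact hq₀ (hS hg₀ q₀)
    have hchainK : ∀ u ∈ chainOn ρ ⊤ ⊤ (d + 1), u ∈ K := fun u hu =>
      (chainOn_succ_le fun g _ x _ => hsub g x) hu
    -- the moving element swaps every pair
    obtain ⟨w, hw, hw0, hwfix⟩ := exists_fixed (ρ := permRep F H')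
      (P := (⊤ : Subgroup G)) (hG.to_subgroup ⊤) (chain_perm_ne_bot (F := F) hG _ H' le_rfl d hmov')
      (fun a ha => (chainOn_inv (fun _ _ _ _ => Submodule.mem_top) _).2 a ha)
    have hwc := constant_of_fixed (fun a => hwfix a (Subgroup.mem_top a))
    obtain ⟨u₀, hu₀, huw⟩ := hlift _ hw
    have hconst : ∀ u ∈ chainOn ρ ⊤ ⊤ (d + 1), ∀ q r : G ⧸ H,
        (permRep F H g₀ (π u) - π u) q = (permRep F H g₀ (π u) - π u) r := fun u hu q r => by
      rw [← heq g₀ u (hchainK u hu), ← map_sub]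
      exact hC _ (sub_mem_chainOn hg₀ hu) q r
    have hswap : ∀ b : G, g₀ • (b : G ⧸ H) ≠ (b : G ⧸ H) := by
      intro b hb
      induction q₀ using QuotientGroup.induction_on with | _ a => ?_
      have h1 := (hp.sub_apply (hfix' g₀ hg₀ (a : G ⧸ H')) (π u₀)).resolve_left fun h => hq₀ h.1
      have h2 := (hp.sub_apply (hfix' g₀ hg₀ (b : G ⧸ H')) (π u₀)).resolve_right fun h => h.1 hb
      have h3 := hconst u₀ hu₀ (a : G ⧸ H) (b : G ⧸ H)
      rw [h1.2, h2.2] at h3
      exact hw0 (funext fun r => (hwc r).trans ((hwc (a : G ⧸ H')).symm.trans (by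
        rw [← huw]; exact h3)))
    have hC' : ∀ u ∈ chainOn ρ ⊤ ⊤ (d + 1), ∀ q r : G ⧸ H', π' u q = π' u r := by
      intro u hu q r
      induction q using QuotientGroup.induction_on with | _ a => ?_
      induction r using QuotientGroup.induction_on with | _ b => ?_
      have h1 := (hp.sub_apply (hfix' g₀ hg₀ (a : G ⧸ H')) (π u)).resolve_left
        fun h => hswap a h.1
      have h2 := (hp.sub_apply (hfix' g₀ hg₀ (b : G ⧸ H')) (π u)).resolve_left
        fun h => hswap b h.1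
      have h3 := hconst u hu (a : G ⧸ H) (b : G ⧸ H)
      rwa [h1.2, h2.2] at h3
    have hind := ih H' π' heq' hsurj' hfix' hmov' hC'
    let S : Subgroup G :=
      { carrier := {a | ∀ x, π (ρ a x - x) = 0}
        one_mem' := fun x => by simp
        mul_mem' := fun {a b} ha hb x => by
          have e : ρ (a * b) x - x = ρ a (ρ b x - x) + (ρ a x - x) := by
            rw [map_sub, ← rho_mul]; abel
          rw [e, map_add, heq a _ (hsub b x), hb, map_zero, ha, add_zero]
        inv_mem' := fun {a} ha x => by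
          have e : ρ a⁻¹ x - x = -(ρ a (ρ a⁻¹ x) - ρ a⁻¹ x) := by rw [rho_rho_inv, neg_sub]
          rw [e, map_neg, ha, neg_zero] }
    intro g hg
    refine (show ser (⊤ : Subgroup G) (d + 1 + 1) ≤ S from ?_) hg
    rw [ser_succ, Subgroup.commutator_le]
    intro x hx y hy e
    set e' := ρ (x⁻¹ * y⁻¹) e with he'
    have hid : ρ ⁅x, y⁆ e - e = (ρ x (ρ y e' - e') - (ρ y e' - e')) -
        (ρ y (ρ x e' - e') - (ρ x e' - e')) := by
      have h1 : ρ y (ρ x e') = e := by
        rw [he', ← rho_mul, ← rho_mul]; simp [mul_assoc]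
      have h2 : ρ x (ρ y e') = ρ ⁅x, y⁆ e := by
        rw [he', ← rho_mul, ← rho_mul]; simp [mul_assoc, commutatorElement_def]
      rw [map_sub, map_sub, h1, h2]
      abel
    have hz : ∀ a ∈ ser (⊤ : Subgroup G) (d + 1), ∀ b ∈ ser (⊤ : Subgroup G) (d + 1),
        π (ρ a (ρ b e' - e') - (ρ b e' - e')) = 0 := fun a ha b hb => by
      rw [map_sub, heq a _ (hsub b e')]
      funext r
      induction r using QuotientGroup.induction_on with | _ c => ?_
      rcases hp.sub_apply (hfix' a ha (c : G ⧸ H')) (π (ρ b e' - e')) with h | h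
      · exact h.2
      · exact h.2.trans (congrFun (hind b hb e') _)
    rw [hid, map_sub, hz x hx y hy, hz y hy x hx, sub_zero]

end Perm

end Cfsg.Agent.TwoLength
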