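/-
Extension of scalars keeps the chain (helper83).

Main results (namespace `Cfsg.Agent.TwoLength`):
* extendRep, extendRep_injective, chain_extendRep
-/
import Cfsg.Agent.Lib.TwoLength.Chain
import Mathlib.RingTheory.Flat.Basic
import Mathlib.LinearAlgebra.TensorProduct.Tower
import Mathlib.RingTheory.TensorProduct.Finite
import Mathlib.LinearAlgebra.FreeModule.Basic

set_option autoImplicit false
set_option linter.style.haveILetI false
set_option linter.unusedSectionVars false

namespace Cfsg.Agent.TwoLength

open TensorProduct

variable {H : Type*} [Group H] {k : Type*} [Field k] (F : Type*) [Field F] [Algebra k F]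
  {V : Type*} [AddCommGroup V] [Module k V] (σ : H →* Module.End k V)

/-- The representation after extending the scalars. -/
noncomputable def extendRep : H →* Module.End F (F ⊗[k] V) :=
  (Module.End.baseChangeHom k F V : Module.End k V →* Module.End F (F ⊗[k] V)).comp σ

theorem extendRep_tmul (g : H) (v : V) :
    extendRep F σ g ((1 : F) ⊗ₜ[k] v) = (1 : F) ⊗ₜ[k] σ g v := rfl

variable {σ}

theorem extendRep_injective (hσ : Function.Injective σ) :
    Function.Injective (extendRep F σ) := fun g h e => hσ (LinearMap.ext fun v => by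
  have h1 := LinearMap.congr_fun e ((1 : F) ⊗ₜ[k] v)
  rw [extendRep_tmul, extendRep_tmul] at h1
  exact Module.Flat.tensorProduct_mk_injective (R := k) (S := F) (M := V) h1)

theorem chain_extendRep {T : Subgroup H} {n : ℕ} (h : chainOn σ T ⊤ n = ⊥) :
    chainOn (extendRep F σ) T ⊤ n = ⊥ := by
  have key : ∀ i, chainOn (extendRep F σ) T ⊤ i ≤
      Submodule.span F ((fun v : V => (1 : F) ⊗ₜ[k] v) '' (chainOn σ T ⊤ i : Set V)) := by
    intro i
    induction i with
    | zero =>
      intro u _
      induction u with
      | zero => exact zero_mem _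
      | tmul a v =>
        rw [show a ⊗ₜ[k] v = a • ((1 : F) ⊗ₜ[k] v) by
          rw [TensorProduct.smul_tmul', smul_eq_mul, mul_one]]
        exact Submodule.smul_mem _ _ (Submodule.subset_span ⟨v, Submodule.mem_top, rfl⟩)
      | add a b ha hb => exact Submodule.add_mem _ (ha Submodule.mem_top) (hb Submodule.mem_top)
    | succ i ih =>
      refine chainOn_succ_le fun g hg u hu => ?_
      refine Submodule.span_induction (p := fun u _ => extendRep F σ g u - u ∈
        Submodule.span F ((fun v : V => (1 : F) ⊗ₜ[k] v) '' (chainOn σ T ⊤ (i + 1) : Set V)))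
        ?_ ?_ ?_ ?_ (ih hu)
      · rintro _ ⟨v, hv, rfl⟩
        rw [extendRep_tmul, ← TensorProduct.tmul_sub]
        exact Submodule.subset_span ⟨_, sub_mem_chainOn hg hv, rfl⟩
      · rw [map_zero, sub_zero]; exact zero_mem _
      · intro a b _ _ ha hb
        rw [map_add, add_sub_add_comm]
        exact Submodule.add_mem _ ha hb
      · intro c a _ ha
        rw [map_smul]
        exact (smul_sub c (extendRep F σ g a) a) ▸ Submodule.smul_mem _ c ha
  refine le_bot_iff.mp ((key n).trans (Submodule.span_le.mpr ?_))
  rintro _ ⟨v, hv, rfl⟩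
  rw [h, SetLike.mem_coe, Submodule.mem_bot] at hv
  simp [hv]

end Cfsg.Agent.TwoLength
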