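/-
Heisenberg-type groups of odd order normalised by a 2-group in characteristic two (helper83).

Main results (namespace `Cfsg.Agent.TwoLength`):
* IsScal, Heis, Cen
* spanOp: the enveloping algebra acts faithfully and fully on a simple submodule
* exists_stable_simple: a simple submodule stable under the normalising 2-group
* local_two: the structure forced by a chain of length two
-/
import Cfsg.Agent.Lib.TwoLength.Chain
import Cfsg.Agent.Lib.HallHigman.Clifford
import Cfsg.Agent.Lib.PGroup.Basic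

set_option autoImplicit false
set_option linter.style.haveILetI false
set_option linter.unusedSectionVars false

open scoped commutatorElement

namespace Cfsg.Agent.TwoLength

open HallHigman

theorem exists_dual_eq_one {F : Type*} [Field F] {V : Type*} [AddCommGroup V] [Module F V] {x : V}
    (hx : x ≠ 0) : ∃ φ : V →ₗ[F] F, φ x = 1 := by
  obtain ⟨φ, hφ⟩ : ∃ φ : Module.Dual F V, φ x ≠ 0 := by
    by_contra hc
    push Not at hc
    exact hx ((Module.forall_dual_apply_eq_zero_iff F x).mp hc)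
  exact ⟨(φ x)⁻¹ • φ, by simp [hφ]⟩

variable {Γ : Type*} [Group Γ] {F : Type*} [Field F] {V : Type*} [AddCommGroup V] [Module F V]

/-- `x` acts as a scalar. -/
def IsScal (ρ : Γ →* Module.End F V) (x : Γ) : Prop := ∃ c : F, ρ x = c • 1

/-- Commutators act as scalars and central elements act as scalars. -/
structure Heis (ρ : Γ →* Module.End F V) (E : Subgroup Γ) : Prop where
  comm : ∀ a ∈ E, ∀ b ∈ E, IsScal ρ ⁅a, b⁆
  cent : ∀ a ∈ E, (∀ b ∈ E, Commute (ρ a) (ρ b)) → IsScal ρ a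

/-- The elements whose image commutes with the image of `E`. -/
def Cen (ρ : Γ →* Module.End F V) (E : Subgroup Γ) : Subgroup Γ where
  carrier := {g | ∀ e ∈ E, Commute (ρ g) (ρ e)}
  one_mem' := fun e _ => by rw [map_one]; exact Commute.one_left _
  mul_mem' := fun {a b} ha hb e he => by rw [map_mul]; exact (ha e he).mul_left (hb e he)
  inv_mem' := fun {a} ha e he => by
    have h := (ha e he).eq
    calc ρ a⁻¹ * ρ e = ρ a⁻¹ * (ρ e * ρ a) * ρ a⁻¹ := by
          rw [mul_assoc, mul_assoc, ← map_mul ρ a, mul_inv_cancel, map_one, mul_one]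
      _ = _ := by rw [← h, ← mul_assoc, ← map_mul ρ a⁻¹, inv_mul_cancel, map_one, one_mul]

variable {ρ : Γ →* Module.End F V} {E : Subgroup Γ}

theorem mem_Cen {g : Γ} : g ∈ Cen ρ E ↔ ∀ e ∈ E, Commute (ρ g) (ρ e) := Iff.rfl

theorem rho_conj (g e : Γ) : ρ (g * e * g⁻¹) = ρ g * ρ e * ρ g⁻¹ := by rw [map_mul, map_mul]

theorem commute_iff_conj (g e : Γ) : Commute (ρ g) (ρ e) ↔ ρ (g * e * g⁻¹) = ρ e := by
  constructor
  · intro h
    rw [rho_conj, h.eq, mul_assoc, ← map_mul, mul_inv_cancel, map_one, mul_one]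
  · intro h
    calc ρ g * ρ e = ρ (g * e * g⁻¹) * ρ g := by rw [← map_mul, ← map_mul, inv_mul_cancel_right]
      _ = ρ e * ρ g := by rw [h]

theorem IsScal.commute {x : Γ} (h : IsScal ρ x) (A : Module.End F V) : Commute (ρ x) A := by
  obtain ⟨c, hc⟩ := h
  rw [hc]
  exact (Commute.one_left A).smul_left c

theorem IsScal.conj {x : Γ} (h : IsScal ρ x) (g : Γ) : ρ (g * x * g⁻¹) = ρ x := by
  rw [rho_conj, ← (h.commute (ρ g)).eq, mul_assoc, ← map_mul, mul_inv_cancel, map_one, mul_one]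

theorem rho_eq_commutator_mul (a b : Γ) : ρ a * ρ b = ρ ⁅a, b⁆ * (ρ b * ρ a) := by
  rw [← map_mul, ← map_mul, ← map_mul]
  congr 1
  rw [commutatorElement_def]
  group

theorem conj_mul' (g : Γ) (X Y : Module.End F V) :
    (ρ g * X * ρ g⁻¹) * (ρ g * Y * ρ g⁻¹) = ρ g * (X * Y) * ρ g⁻¹ := by
  simp only [← mul_assoc]
  rw [mul_assoc (ρ g * X) (ρ g⁻¹) (ρ g), ← map_mul, inv_mul_cancel, map_one, mul_one]

theorem commute_inv {X : Module.End F V} {e : Γ} (h : Commute X (ρ e)) : Commute X (ρ e⁻¹) := by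
  show X * ρ e⁻¹ = ρ e⁻¹ * X
  calc X * ρ e⁻¹ = ρ e⁻¹ * (ρ e * X) * ρ e⁻¹ := by
        rw [← mul_assoc, ← map_mul, inv_mul_cancel, map_one, one_mul]
    _ = ρ e⁻¹ * X := by
        rw [← h.eq, mul_assoc, mul_assoc, ← map_mul, mul_inv_cancel, map_one, mul_one]

section Scalars

variable [CharP F 2]

theorem eq_one_of_pow_two_pow {c : F} {m : ℕ} (h : c ^ 2 ^ m = 1) : c = 1 := by
  refine sub_eq_zero.mp (pow_eq_zero_iff (n := 2 ^ m) (by positivity) |>.mp ?_)
  rw [sub_pow_char_pow, h, one_pow, sub_self]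

theorem exists_pow_eq_one {P : Subgroup Γ} (hP : IsPGroup 2 P) {g : Γ} (hg : g ∈ P) :
    ∃ m : ℕ, g ^ 2 ^ m = 1 := by
  obtain ⟨m, hm⟩ := hP ⟨g, hg⟩
  exact ⟨m, congrArg Subtype.val hm⟩

variable [Nontrivial V]

omit [CharP F 2] in
theorem smul_one_inj {a b : F} (h : a • (1 : Module.End F V) = b • 1) : a = b := by
  obtain ⟨w, hw⟩ := exists_ne (0 : V)
  have := LinearMap.congr_fun h w
  simp only [LinearMap.smul_apply, Module.End.one_apply] at this
  exact smul_left_injective F hw this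

omit [CharP F 2] in
theorem smul_rho_inj {x : Γ} {a b : F} (h : a • ρ x = b • ρ x) : a = b := by
  refine smul_one_inj (V := V) ?_
  have := congrArg (· * ρ x⁻¹) h
  simpa [smul_mul_assoc, ← map_mul] using this

theorem eq_one_of_scal {g : Γ} {m : ℕ} (hg : g ^ 2 ^ m = 1) (h : IsScal ρ g) : ρ g = 1 := by
  obtain ⟨c, hc⟩ := h
  have h1 : (c ^ 2 ^ m) • (1 : Module.End F V) = (1 : F) • 1 := by
    rw [one_smul]
    calc (c ^ 2 ^ m) • (1 : Module.End F V) = (c • (1 : Module.End F V)) ^ 2 ^ m := by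
          rw [smul_pow, one_pow]
      _ = 1 := by rw [← hc, ← map_pow, hg, map_one]
  rw [hc, eq_one_of_pow_two_pow (smul_one_inj h1), one_smul]

/-- A 2-element conjugating an invertible image to a multiple of itself fixes it. -/
theorem eq_one_of_conj_smul {g e : Γ} {m : ℕ} (hg : g ^ 2 ^ m = 1) {s : F}
    (h : ρ (g * e * g⁻¹) = s • ρ e) : s = 1 := by
  refine eq_one_of_pow_two_pow (m := m) (smul_rho_inj (ρ := ρ) (x := e) ?_)
  have key : ∀ n : ℕ, ρ (g ^ n * e * (g ^ n)⁻¹) = s ^ n • ρ e := by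
    intro n
    induction n with
    | zero => simp
    | succ n ih =>
      rw [show g ^ (n + 1) * e * (g ^ (n + 1))⁻¹ = g * (g ^ n * e * (g ^ n)⁻¹) * g⁻¹ by
        rw [pow_succ']; group, rho_conj, ih, mul_smul_comm, smul_mul_assoc, ← rho_conj, h,
        smul_smul, ← pow_succ]
  rw [← key, hg, one_smul]
  simp

end Scalars

section Span

/-- The image of `E`. -/
def Alg (ρ : Γ →* Module.End F V) (E : Subgroup Γ) : Submodule F (Module.End F V) :=
  Submodule.span F (ρ '' (E : Set Γ))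

theorem rho_mem_Alg {e : Γ} (he : e ∈ E) : ρ e ∈ Alg ρ E := Submodule.subset_span ⟨e, he, rfl⟩

theorem one_mem_Alg : (1 : Module.End F V) ∈ Alg ρ E := map_one ρ ▸ rho_mem_Alg (one_mem E)

theorem mul_mem_Alg {X Y : Module.End F V} (hX : X ∈ Alg ρ E) (hY : Y ∈ Alg ρ E) :
    X * Y ∈ Alg ρ E := by
  have h1 : ∀ a ∈ E, ∀ Y ∈ Alg ρ E, ρ a * Y ∈ Alg ρ E := by
    intro a ha Y hY
    refine (Submodule.span_le (p := (Alg ρ E).comap (LinearMap.mulLeft F (ρ a)))).mpr ?_ hY
    rintro _ ⟨b, hb, rfl⟩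
    show ρ a * ρ b ∈ Alg ρ E
    rw [← map_mul]
    exact rho_mem_Alg (mul_mem ha hb)
  refine (Submodule.span_le (p := (Alg ρ E).comap (LinearMap.mulRight F Y))).mpr ?_ hX
  rintro _ ⟨a, ha, rfl⟩
  exact h1 a ha Y hY

theorem commute_Alg {A : Module.End F V} (h : ∀ e ∈ E, Commute A (ρ e)) {X : Module.End F V}
    (hX : X ∈ Alg ρ E) : Commute A X := by
  induction hX using Submodule.span_induction with
  | mem x hx => obtain ⟨e, he, rfl⟩ := hx; exact h e he
  | zero => exact Commute.zero_right A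
  | add a b _ _ ha hb => exact ha.add_right hb
  | smul c a _ ha => exact ha.smul_right c

theorem conj_mem_Alg {g : Γ} {E' : Subgroup Γ} (hg : ∀ e ∈ E, g * e * g⁻¹ ∈ E')
    {X : Module.End F V} (hX : X ∈ Alg ρ E) : ρ g * X * ρ g⁻¹ ∈ Alg ρ E' := by
  have h : Alg ρ E ≤ (Alg ρ E').comap
      ((LinearMap.mulLeft F (ρ g)).comp (LinearMap.mulRight F (ρ g⁻¹))) := by
    refine Submodule.span_le.mpr ?_
    rintro _ ⟨e, he, rfl⟩
    show ρ g * (ρ e * ρ g⁻¹) ∈ Alg ρ E'
    rw [← mul_assoc, ← rho_conj]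
    exact rho_mem_Alg (hg e he)
  rw [mul_assoc]
  exact h hX

theorem apply_mem_of_isInv {S : Submodule F V} (hS : IsInv ρ E S) {X : Module.End F V}
    (hX : X ∈ Alg ρ E) {u : V} (hu : u ∈ S) : X u ∈ S := by
  induction hX using Submodule.span_induction generalizing u with
  | mem x hx => obtain ⟨e, he, rfl⟩ := hx; exact hS e he u hu
  | zero => rw [LinearMap.zero_apply]; exact S.zero_mem
  | add a b _ _ ha hb => rw [LinearMap.add_apply]; exact S.add_mem (ha hu) (hb hu)
  | smul c a _ ha => rw [LinearMap.smul_apply]; exact S.smul_mem c (ha hu)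

theorem equivariant_Alg {S : Submodule F V} (hS : IsInv ρ E S) {f : S →ₗ[F] V}
    (hf : IsEquivariant ρ E S f) {X : Module.End F V} (hX : X ∈ Alg ρ E) :
    ∀ w w' : S, (w' : V) = X w → f w' = X (f w) := by
  induction hX using Submodule.span_induction with
  | mem x hx => obtain ⟨e, he, rfl⟩ := hx; exact hf e he
  | zero =>
    intro w w' h
    rw [LinearMap.zero_apply] at h ⊢
    rw [show w' = 0 from Subtype.ext h, map_zero]
  | add a b ha' hb' ha hb =>
    intro w w' h
    have e : w' = (⟨a w, apply_mem_of_isInv hS ha' w.2⟩ : S) + ⟨b w, apply_mem_of_isInv hS hb' w.2⟩ :=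
      Subtype.ext (by rw [h]; rfl)
    rw [e, map_add, ha w ⟨a w, apply_mem_of_isInv hS ha' w.2⟩ rfl,
      hb w ⟨b w, apply_mem_of_isInv hS hb' w.2⟩ rfl, LinearMap.add_apply]
  | smul c a ha' ha =>
    intro w w' h
    have e : w' = c • (⟨a w, apply_mem_of_isInv hS ha' w.2⟩ : S) := Subtype.ext (by rw [h]; rfl)
    rw [e, map_smul, ha w ⟨a w, apply_mem_of_isInv hS ha' w.2⟩ rfl, LinearMap.smul_apply]

variable {S : Submodule F V}

/-- Scalars on a simple submodule are scalars. -/
theorem isScal_of_restrict (hH : Heis ρ E) (hne : S ≠ ⊥) (hinv : IsInv ρ E S) {x : Γ} (hx : x ∈ E)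
    {c : F} (hc : ∀ u ∈ S, ρ x u = c • u) : ρ x = c • 1 := by
  obtain ⟨u, hu, hu0⟩ := Submodule.exists_mem_ne_zero_of_ne_bot hne
  obtain ⟨c', hc'⟩ := hH.cent x hx fun b hb => by
    obtain ⟨s, hs⟩ := hH.comm x hx b hb
    have h1 := LinearMap.congr_fun (rho_eq_commutator_mul (ρ := ρ) x b) u
    simp only [hs, Module.End.mul_apply, LinearMap.smul_apply, Module.End.one_apply] at h1
    rw [hc _ (hinv b hb u hu), hc u hu, map_smul] at h1
    have hs1 : s = 1 := by
      have h2 : ρ b u ≠ 0 := fun h0 => hu0 (by rw [← rho_inv_apply (ρ := ρ) b u, h0, map_zero])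
      have hc0 : c ≠ 0 := fun h0 => hu0 (by
        rw [← rho_inv_apply (ρ := ρ) x u, hc u hu, h0, zero_smul, map_zero])
      have h3 : (c - s * c) • ρ b u = 0 := by rw [sub_smul, mul_smul, ← h1, sub_self]
      have h4 := (smul_eq_zero.mp h3).resolve_right h2
      exact ((mul_left_eq_self₀).mp (sub_eq_zero.mp h4).symm).resolve_right hc0
    rw [hs1, one_smul] at hs
    show ρ x * ρ b = ρ b * ρ x
    rw [rho_eq_commutator_mul, hs, one_mul]
  rw [hc']
  congr 1
  have h1 := hc u hu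
  rw [hc', LinearMap.smul_apply, Module.End.one_apply] at h1
  exact smul_left_injective F hu0 h1

theorem rho_eq_one_of_restrict (hH : Heis ρ E) (hne : S ≠ ⊥) (hinv : IsInv ρ E S) {x : Γ}
    (hx : x ∈ E) (hc : ∀ u ∈ S, ρ x u = u) : ρ x = 1 := by
  rw [isScal_of_restrict hH hne hinv hx (c := 1) (fun u hu => by rw [one_smul, hc u hu]), one_smul]

variable [Finite Γ] [IsAlgClosed F] [FiniteDimensional F V]

theorem nontrivial_of_simple (hS : IsSimpleInv ρ E S) : Nontrivial S :=
  Submodule.nontrivial_iff_ne_bot.mpr hS.1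

theorem le_stab (hS : IsInv ρ E S) : E ≤ stabSub ρ S := fun g hg => mem_stabSub.mpr (hS g hg)

theorem isIrred_restrict (hS : IsSimpleInv ρ E S) :
    IsIrred (restrictHom ρ S) (E.subgroupOf (stabSub ρ S)) := by
  intro U hU
  rcases hS.2.2 (U.map S.subtype) (Submodule.map_subtype_le _ _) (by
    rintro g hg _ ⟨u, hu, rfl⟩
    exact ⟨restrictHom ρ S ⟨g, le_stab hS.2.1 hg⟩ u, hU _ hg u hu, rfl⟩) with h | h
  · exact Or.inl (Submodule.map_injective_of_injective S.subtype_injective
      (h.trans (Submodule.map_bot _).symm))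
  · refine Or.inr (eq_top_iff.mpr fun u _ => ?_)
    obtain ⟨v, hv, hvu⟩ := h.ge u.2
    rwa [← Subtype.ext hvu]

/-- Dimension count and the restriction of the enveloping algebra to a simple submodule. -/
theorem span_facts (hH : Heis ρ E) (hS : IsSimpleInv ρ E S) :
    (∀ X ∈ Alg ρ E, (∀ u ∈ S, X u = 0) → X = 0) ∧
    (∀ Y : Module.End F S, ∃ X ∈ Alg ρ E, ∀ u : S, X u = Y u) ∧
    Module.finrank F S * Module.finrank F S ∣ Nat.card E := by
  classical
  haveI := nontrivial_of_simple hS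
  set Q := E.subgroupOf (stabSub ρ S)
  set K := scalarSubgroup (restrictHom ρ S) Q
  have hcomm : ∀ a ∈ Q, ∀ b ∈ Q, ∃ c : F, restrictHom ρ S ⁅a, b⁆ = c • 1 := by
    intro a ha b hb
    obtain ⟨c, hc⟩ := hH.comm a ha b hb
    refine ⟨c, LinearMap.ext fun u => Subtype.ext ?_⟩
    rw [restrictHom_apply]
    show ρ ⁅(a : Γ), (b : Γ)⁆ u = c • (u : V)
    rw [hc, LinearMap.smul_apply, Module.End.one_apply]
  let r : Q ⧸ K → Γ := fun q => ((q.out : Q) : stabSub ρ S)
  have hrE : ∀ q, r q ∈ E := fun q => (q.out).2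
  obtain ⟨hli, hspan⟩ := basis_of_scalar_commutators (isIrred_restrict hS) hcomm
    (fun q => restrictHom ρ S ((q.out : Q) : stabSub ρ S))
    (fun q => ⟨q.out, 1, QuotientGroup.out_eq' q, one_ne_zero, (one_smul _ _).symm⟩)
  have : Fintype (Q ⧸ K) := Fintype.ofFinite _
  have hgen : Alg ρ E ≤ Submodule.span F (Set.range fun q => ρ (r q)) := by
    refine Submodule.span_le.mpr ?_
    rintro _ ⟨e, he, rfl⟩
    set x : Q := ⟨⟨e, le_stab hS.2.1 he⟩, he⟩
    obtain ⟨c, hc⟩ : (x : Q ⧸ K).out⁻¹ * x ∈ K :=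
      QuotientGroup.eq.mp (QuotientGroup.out_eq' _)
    have hd : ρ ((r (x : Q ⧸ K))⁻¹ * e) = c • 1 :=
      isScal_of_restrict hH hS.1 hS.2.1 (mul_mem (inv_mem (hrE _)) he) fun u hu =>
        congrArg Subtype.val (LinearMap.congr_fun hc ⟨u, hu⟩)
    have : ρ e = c • ρ (r (x : Q ⧸ K)) := by
      conv_lhs => rw [show e = r (x : Q ⧸ K) * ((r (x : Q ⧸ K))⁻¹ * e) by group]
      rw [map_mul, hd, mul_smul_comm, mul_one]
    rw [SetLike.mem_coe, this]
    exact Submodule.smul_mem _ _ (Submodule.subset_span ⟨_, rfl⟩)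
  refine ⟨fun X hX h0 => ?_, fun Y => ?_, ?_⟩
  · obtain ⟨c, rfl⟩ := (Submodule.mem_span_range_iff_exists_fun F).mp (hgen hX)
    have h1 : ∑ q, c q • restrictHom ρ S ((q.out : Q) : stabSub ρ S) = 0 := by
      refine LinearMap.ext fun u => Subtype.ext ?_
      simp only [LinearMap.sum_apply, LinearMap.smul_apply, AddSubmonoidClass.coe_finsetSum,
        Submodule.coe_smul, restrictHom_apply, LinearMap.zero_apply, ZeroMemClass.coe_zero]
      rw [← h0 u u.2]
      simp only [LinearMap.sum_apply, LinearMap.smul_apply]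
      rfl
    exact Finset.sum_eq_zero fun q _ => by
      rw [Fintype.linearIndependent_iff.mp hli c h1 q, zero_smul]
  · obtain ⟨c, hc⟩ := (Submodule.mem_span_range_iff_exists_fun F).mp (hspan.ge (Submodule.mem_top (x := Y)))
    refine ⟨∑ q, c q • ρ (r q), Submodule.sum_mem _ fun q _ =>
      Submodule.smul_mem _ _ (rho_mem_Alg (hrE q)), fun u => ?_⟩
    simp only [← hc, LinearMap.sum_apply, LinearMap.smul_apply, AddSubmonoidClass.coe_finsetSum,
      Submodule.coe_smul, restrictHom_apply]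
    rfl
  · rw [← card_quotient_scalar (isIrred_restrict hS) hcomm]
    exact (Subgroup.card_quotient_dvd_card K).trans
      (dvd_of_eq (Nat.card_congr (Subgroup.subgroupOfEquivOfLe (le_stab hS.2.1)).toEquiv))

/-- The element of the enveloping algebra with a given restriction to a simple submodule. -/
noncomputable def spanOp (hH : Heis ρ E) (hS : IsSimpleInv ρ E S) :
    Module.End F S →ₗ[F] Module.End F V where
  toFun Y := ((span_facts hH hS).2.1 Y).choose
  map_add' Y Z := by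
    obtain ⟨hi, hs, -⟩ := span_facts hH hS
    obtain ⟨h1, h1'⟩ := (hs (Y + Z)).choose_spec
    obtain ⟨h2, h2'⟩ := (hs Y).choose_spec
    obtain ⟨h3, h3'⟩ := (hs Z).choose_spec
    exact sub_eq_zero.mp (hi _ (Submodule.sub_mem _ h1 (Submodule.add_mem _ h2 h3)) fun u hu => by
      rw [LinearMap.sub_apply, LinearMap.add_apply, h1' ⟨u, hu⟩, h2' ⟨u, hu⟩, h3' ⟨u, hu⟩,
        LinearMap.add_apply, Submodule.coe_add, sub_self])
  map_smul' c Y := by
    obtain ⟨hi, hs, -⟩ := span_facts hH hS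
    obtain ⟨h1, h1'⟩ := (hs (c • Y)).choose_spec
    obtain ⟨h2, h2'⟩ := (hs Y).choose_spec
    exact sub_eq_zero.mp (hi _ (Submodule.sub_mem _ h1 (Submodule.smul_mem _ _ h2)) fun u hu => by
      rw [LinearMap.sub_apply, RingHom.id_apply, LinearMap.smul_apply, h1' ⟨u, hu⟩, h2' ⟨u, hu⟩,
        LinearMap.smul_apply, Submodule.coe_smul, sub_self])

variable (hH : Heis ρ E) (hS : IsSimpleInv ρ E S)

theorem spanOp_mem (Y : Module.End F S) : spanOp hH hS Y ∈ Alg ρ E :=
  ((span_facts hH hS).2.1 Y).choose_spec.1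

theorem spanOp_apply (Y : Module.End F S) (u : S) : spanOp hH hS Y u = Y u :=
  ((span_facts hH hS).2.1 Y).choose_spec.2 u

theorem spanOp_unique {Y : Module.End F S} {X : Module.End F V} (hX : X ∈ Alg ρ E)
    (h : ∀ u : S, X u = Y u) : spanOp hH hS Y = X :=
  sub_eq_zero.mp ((span_facts hH hS).1 _ (Submodule.sub_mem _ (spanOp_mem hH hS Y) hX) fun u hu => by
    rw [LinearMap.sub_apply, spanOp_apply hH hS Y ⟨u, hu⟩, h ⟨u, hu⟩, sub_self])

theorem spanOp_one : spanOp hH hS 1 = 1 := spanOp_unique hH hS one_mem_Alg fun _ => rfl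

theorem spanOp_mul (Y Z : Module.End F S) :
    spanOp hH hS (Y * Z) = spanOp hH hS Y * spanOp hH hS Z :=
  spanOp_unique hH hS (mul_mem_Alg (spanOp_mem hH hS Y) (spanOp_mem hH hS Z)) fun u => by
    rw [Module.End.mul_apply, spanOp_apply, spanOp_apply, Module.End.mul_apply]

include hH hS in
/-- A nonzero vector of a simple submodule generates it. -/
theorem exists_Alg_apply {u v : V} (hu : u ∈ S) (hu0 : u ≠ 0) (hv : v ∈ S) :
    ∃ X ∈ Alg ρ E, X u = v := by
  haveI := nontrivial_of_simple hS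
  obtain ⟨φ, hφ⟩ := exists_dual_eq_one (F := F) (V := S) (x := ⟨u, hu⟩)
    fun h => hu0 (congrArg Subtype.val h)
  exact ⟨_, spanOp_mem hH hS (LinearMap.smulRight φ ⟨v, hv⟩), by
    rw [spanOp_apply hH hS _ ⟨u, hu⟩, LinearMap.smulRight_apply, hφ, one_smul]⟩

include hH hS in
/-- All simple submodules are isomorphic and the isomorphism is unique up to scalars. -/
theorem exists_iso {S' : Submodule F V} (hS' : IsSimpleInv ρ E S') :
    ∃ f : S →ₗ[F] V, Function.Injective f ∧ LinearMap.range f = S' ∧ IsEquivariant ρ E S f ∧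
      ∀ g : S →ₗ[F] V, IsEquivariant ρ E S g → (∀ w, g w ∈ S') → ∃ c : F, g = c • f := by
  haveI := nontrivial_of_simple hS
  obtain ⟨x, hx⟩ := exists_ne (0 : S)
  obtain ⟨h, hhx⟩ := exists_dual_eq_one (F := F) hx
  set a := spanOp hH hS (LinearMap.smulRight h x) with ha
  have hax : a x = x := by rw [ha, spanOp_apply, LinearMap.smulRight_apply, hhx, one_smul]
  obtain ⟨s', hs', hs'0⟩ : ∃ s' ∈ S', a s' ≠ 0 := by
    by_contra hc
    push Not at hc
    have := (span_facts hH hS').1 a (spanOp_mem hH hS _) hc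
    rw [this, LinearMap.zero_apply] at hax
    exact hx (Subtype.ext hax.symm)
  set y := a s' with hy
  have hyS : y ∈ S' := apply_mem_of_isInv hS'.2.1 (spanOp_mem hH hS _) hs'
  let f : S →ₗ[F] V :=
    ((LinearMap.applyₗ y).comp (spanOp hH hS)).comp (LinearMap.smulRightₗ h)
  have hf : ∀ s, f s = spanOp hH hS (LinearMap.smulRight h s) y := fun _ => rfl
  have haa : a * a = a := by
    rw [ha, ← spanOp_mul]
    congr 1
    refine LinearMap.ext fun u => ?_
    simp [hhx]
  have hfx : f x = y := by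
    rw [hf, ← ha, hy, ← Module.End.mul_apply, haa]
  have hfe : IsEquivariant ρ E S f := by
    intro e he w w' hw
    rw [hf, hf, ← Module.End.mul_apply]
    refine LinearMap.congr_fun (spanOp_unique hH hS
      (mul_mem_Alg (rho_mem_Alg he) (spanOp_mem hH hS _)) fun u => ?_) y
    rw [Module.End.mul_apply, spanOp_apply, LinearMap.smulRight_apply, LinearMap.smulRight_apply,
      Submodule.coe_smul, Submodule.coe_smul, map_smul, hw]
  have hfinj : Function.Injective f := by
    rw [injective_iff_map_eq_zero]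
    intro w hw
    by_contra hw0
    obtain ⟨X, hX, hXw⟩ := exists_Alg_apply hH hS (u := (w : V)) w.2
      (fun h => hw0 (Subtype.ext h)) x.2
    have := equivariant_Alg hS.2.1 hfe hX w x hXw.symm
    rw [hfx, hw, map_zero] at this
    exact hs'0 this
  refine ⟨f, hfinj, ?_, hfe, fun g hg hgS => ?_⟩
  · refine (hS'.2.2 _ ?_ ?_).resolve_left ?_
    · rintro _ ⟨w, rfl⟩
      rw [hf]
      exact apply_mem_of_isInv hS'.2.1 (spanOp_mem hH hS _) hyS
    · rintro e he _ ⟨w, rfl⟩
      exact ⟨⟨ρ e w, hS.2.1 e he w w.2⟩, hfe e he w _ rfl⟩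
    · intro h0
      have : f x ∈ LinearMap.range f := ⟨x, rfl⟩
      rw [h0, Submodule.mem_bot, hfx] at this
      exact hs'0 this
  · obtain ⟨X, hX, hXy⟩ := exists_Alg_apply hH hS' hyS hs'0 (hgS x)
    -- `a X a` is a multiple of `a`
    obtain ⟨c, hc⟩ : ∃ c : F, a * X * a = c • a := by
      let Y : Module.End F S := (X.restrict (fun u hu => apply_mem_of_isInv hS.2.1 hX hu))
      have hY : spanOp hH hS Y = X := spanOp_unique hH hS hX fun _ => rfl
      refine ⟨h (Y x), ?_⟩
      rw [ha, ← hY, ← spanOp_mul, ← spanOp_mul, ← map_smul]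
      congr 1
      refine LinearMap.ext fun u => ?_
      simp [smul_smul, mul_comm]
    refine ⟨c, LinearMap.ext fun w => ?_⟩
    have hgx : g x = c • y := by
      have h1 := equivariant_Alg hS.2.1 hg (spanOp_mem hH hS (LinearMap.smulRight h x)) x x hax.symm
      rw [h1, ← ha, ← hXy]
      show a (X y) = c • y
      have h2 := LinearMap.congr_fun hc s'
      rw [Module.End.mul_apply, Module.End.mul_apply, LinearMap.smul_apply] at h2
      exact h2
    have hw := equivariant_Alg hS.2.1 hg (spanOp_mem hH hS (LinearMap.smulRight h w)) x w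
      (by rw [spanOp_apply, LinearMap.smulRight_apply, hhx, one_smul])
    rw [hw, hgx, map_smul, LinearMap.smul_apply, hf]

end Span

end Cfsg.Agent.TwoLength
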