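/-
Stable simple submodules and the case of a chain of length two (helper83).

Main results (namespace `Cfsg.Agent.TwoLength`):
* exists_stable_simple, the transfer lemmas to a simple submodule
* local_two
-/
import Cfsg.Agent.Lib.TwoLength.Local
import Cfsg.Agent.Lib.Coprime.Basic

set_option autoImplicit false
set_option linter.style.haveILetI false
set_option linter.unusedSectionVars false

open scoped commutatorElement

namespace Cfsg.Agent.TwoLength

open HallHigman

variable {Γ : Type*} [Group Γ] [Finite Γ] {F : Type*} [Field F] [IsAlgClosed F] [CharP F 2]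
  {V : Type*} [AddCommGroup V] [Module F V] [FiniteDimensional F V]
  {ρ : Γ →* Module.End F V} {E G : Subgroup Γ}

theorem exists_stable_simple_aux [Nontrivial V] (hH : Heis ρ E) :
    ∀ (n : ℕ) (P : Subgroup Γ), Nat.card P ≤ n → IsPGroup 2 P →
      (∀ g ∈ P, ∀ e ∈ E, g * e * g⁻¹ ∈ E) →
      ∃ S, IsSimpleInv ρ E S ∧ ∀ g ∈ P, ∀ u ∈ S, ρ g u ∈ S := by
  intro n
  induction n with
  | zero => intro P hn; exact absurd (Nat.card_pos (α := P)) (by omega)
  | succ n ih =>
    intro P hn hP hnorm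
    by_cases hb : P = ⊥
    · obtain ⟨S, -, hS⟩ := exists_simple_le (ρ := ρ) (Q := E) (U := ⊤) top_ne_bot
        (fun g _ u _ => Submodule.mem_top)
      refine ⟨S, hS, fun g hg u hu => ?_⟩
      rw [hb, Subgroup.mem_bot] at hg
      rwa [hg, map_one, Module.End.one_apply]
    obtain ⟨P₀, hlt, z, hz, -, hcov, hconj⟩ := exists_index_two hP hb
    obtain ⟨S, hS, hSP⟩ := ih P₀
      (by
        have : Nat.card P₀ < Nat.card P := Set.Finite.card_lt_card (Set.toFinite _) hlt
        omega)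
      (hP.to_le hlt.le) (fun g hg => hnorm g (hlt.le hg))
    set Q := E ⊔ P₀ with hQ
    have hQle : ∀ {U : Submodule F V}, IsInv ρ E U → (∀ g ∈ P₀, ∀ u ∈ U, ρ g u ∈ U) →
        IsInv ρ Q U := fun {U} h1 h2 g hg =>
      mem_stabSub.mp ((sup_le (fun x hx => mem_stabSub.mpr (h1 x hx))
        (fun x hx => mem_stabSub.mpr (h2 x hx)) : Q ≤ stabSub ρ U) hg)
    have hSQ : IsSimpleInv ρ Q S := ⟨hS.1, hQle hS.2.1 hSP, fun U' hle hinv =>
      hS.2.2 U' hle fun g hg => hinv g (Subgroup.mem_sup_left hg)⟩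
    have hzE : z ∈ Subgroup.normalizer (E : Set Γ) :=
      Coprime.mem_normalizer_of_forall fun e he => hnorm z hz e he
    have hzQ : z ∈ Subgroup.normalizer (Q : Set Γ) :=
      Coprime.mem_normalizer_of_forall fun x hx => by
        have h : Q ≤ Q.comap (MulAut.conj z).toMonoidHom :=
          sup_le (fun e he => Subgroup.mem_sup_left (hnorm z hz e he))
            (fun p hp => Subgroup.mem_sup_right (hconj z hz p hp))
        exact h hx
    obtain ⟨f, hfi, hfr, hfe, huniq⟩ := exists_iso hH hS (hS.map hzE)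
    have hfS' : ∀ w, f w ∈ S.map (ρ z) := fun w => hfr ▸ ⟨w, rfl⟩
    have hzP : ∀ g ∈ P₀, ∀ u ∈ S.map (ρ z), ρ g u ∈ S.map (ρ z) := by
      rintro g hg _ ⟨u, hu, rfl⟩
      refine ⟨ρ (z⁻¹ * g * z) u, hSP _ (by simpa using hconj z⁻¹ (inv_mem hz) g hg) u hu, ?_⟩
      simp only [← rho_mul, mul_assoc, mul_inv_cancel_left]
    have hfP : ∀ g ∈ P₀, ∀ w w' : S, (w' : V) = ρ g w → f w' = ρ g (f w) := by
      intro g hg
      let fg : S →ₗ[F] V :=
        (ρ g⁻¹).comp (f.comp (((ρ g).domRestrict S).codRestrict S fun w => hSP g hg w w.2))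
      have hfg : IsEquivariant ρ E S fg := by
        intro e he w w' hw
        have h1 := hfe (g * e * g⁻¹) (hnorm g (hlt.le hg) e he)
          ⟨ρ g w, hSP g hg w w.2⟩ ⟨ρ g w', hSP g hg w' w'.2⟩ (by
            show ρ g w' = ρ (g * e * g⁻¹) (ρ g w)
            rw [hw, ← rho_mul, ← rho_mul, inv_mul_cancel_right])
        show ρ g⁻¹ (f ⟨ρ g w', _⟩) = ρ e (ρ g⁻¹ (f ⟨ρ g w, _⟩))
        rw [h1, ← rho_mul, ← rho_mul]
        congr 2
        group
      obtain ⟨c, hc⟩ := huniq fg hfg fun w => hzP g⁻¹ (inv_mem hg) _ (hfS' _)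
      have hstep : ∀ w : S, f ⟨ρ g w, hSP g hg w w.2⟩ = c • ρ g (f w) := fun w => by
        have h1 := congrArg (ρ g) (LinearMap.congr_fun hc w)
        rw [LinearMap.smul_apply, map_smul] at h1
        show f ⟨ρ g w, _⟩ = _
        rw [← h1]
        exact (rho_rho_inv g _).symm
      obtain ⟨m, hm⟩ := exists_pow_eq_one (hP.to_le hlt.le) hg
      have hiter : ∀ (j : ℕ) (w w' : S), (w' : V) = ρ (g ^ j) w → f w' = c ^ j • ρ (g ^ j) (f w) := by
        intro j
        induction j with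
        | zero =>
          intro w w' h
          rw [pow_zero, map_one, Module.End.one_apply] at h
          rw [pow_zero, one_smul, pow_zero, map_one, Module.End.one_apply, Subtype.ext h]
        | succ j ihj =>
          intro w w' h
          have e : w' = ⟨ρ g (ρ (g ^ j) w), hSP g hg _ (hSP (g ^ j) (pow_mem hg j) w w.2)⟩ :=
            Subtype.ext (by rw [h, pow_succ', rho_mul])
          rw [e, hstep ⟨ρ (g ^ j) w, hSP (g ^ j) (pow_mem hg j) w w.2⟩,
            ihj w ⟨ρ (g ^ j) w, hSP (g ^ j) (pow_mem hg j) w w.2⟩ rfl, map_smul, smul_smul,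
            ← pow_succ', ← rho_mul, ← pow_succ']
      have hc1 : c = 1 := by
        refine eq_one_of_pow_two_pow (m := m) ?_
        haveI := nontrivial_of_simple hS
        obtain ⟨w, hw⟩ := exists_ne (0 : S)
        have h1 := hiter (2 ^ m) w w (by rw [hm, map_one, Module.End.one_apply])
        rw [hm, map_one, Module.End.one_apply] at h1
        have h2 : (c ^ 2 ^ m - 1) • f w = 0 := by rw [sub_smul, one_smul, ← h1, sub_self]
        exact sub_eq_zero.mp ((smul_eq_zero.mp h2).resolve_right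
          fun h0 => hw (hfi (h0.trans (map_zero f).symm)))
      intro w w' hw
      have h1 := hstep w
      rw [hc1, one_smul] at h1
      rw [← h1]
      exact congrArg f (Subtype.ext hw)
    have hfQ : IsEquivariant ρ Q S f := by
      have key : Q ≤
          ({ carrier := {g | (∀ u ∈ S, ρ g u ∈ S) ∧
                ∀ w w' : S, (w' : V) = ρ g w → f w' = ρ g (f w)}
             one_mem' := ⟨fun u hu => by simpa using hu, fun w w' h => by
              rw [map_one, Module.End.one_apply] at h ⊢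
              rw [Subtype.ext h]⟩
             mul_mem' := fun {a b} ha hb => ⟨fun u hu => by
                rw [rho_mul]; exact ha.1 _ (hb.1 u hu), fun w w' h => by
                rw [rho_mul] at h ⊢
                rw [ha.2 ⟨ρ b w, hb.1 w w.2⟩ w' h, hb.2 w ⟨ρ b w, hb.1 w w.2⟩ rfl]⟩ } :
            Submonoid Γ).carrier := by
        intro g hg
        refine Subgroup.closure_induction (k := Set.univ ∩ ((E : Set Γ) ∪ (P₀ : Set Γ)))
          (p := fun g _ => g ∈ stabSub ρ S ∧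
            ∀ w w' : S, (w' : V) = ρ g w → f w' = ρ g (f w)) ?_ ?_ ?_ ?_ ?_
        · rintro x ⟨-, hx | hx⟩
          · exact ⟨mem_stabSub.mpr (hS.2.1 x hx), hfe x hx⟩
          · exact ⟨mem_stabSub.mpr (hSP x hx), hfP x hx⟩
        · exact ⟨one_mem _, fun w w' h => by
            rw [map_one, Module.End.one_apply] at h ⊢
            rw [Subtype.ext h]⟩
        · intro a b _ _ ha hb
          refine ⟨mul_mem ha.1 hb.1, fun w w' h => ?_⟩
          rw [rho_mul] at h ⊢
          rw [ha.2 ⟨ρ b w, mem_stabSub.mp hb.1 w w.2⟩ w' h,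
            hb.2 w ⟨ρ b w, mem_stabSub.mp hb.1 w w.2⟩ rfl]
        · intro a _ ha
          refine ⟨inv_mem ha.1, fun w w' h => ?_⟩
          rw [ha.2 w' w (by rw [h, rho_rho_inv]), rho_inv_rho]
        · simpa [Subgroup.closure_union, hQ] using hg
      intro g hg w w' hw
      exact (key hg).2 w w' hw
    obtain ⟨S', hS', ⟨f', hf'i, hf'r, hf'e⟩, hz'⟩ :=
      exists_invariant_translate hSQ hzQ ⟨f, hfi, hfr, hfQ⟩
    refine ⟨S', ⟨hS'.1, fun g hg => hS'.2.1 g (Subgroup.mem_sup_left hg), fun U' hle hinv => ?_⟩,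
      fun g hg u hu => ?_⟩
    · have hU : IsInv ρ E ((U'.comap f').map S.subtype) := by
        rintro e he _ ⟨w, hw, rfl⟩
        refine ⟨⟨ρ e w, hS.2.1 e he w w.2⟩, ?_, rfl⟩
        rw [SetLike.mem_coe, Submodule.mem_comap,
          hf'e e (Subgroup.mem_sup_left he) w ⟨ρ e w, hS.2.1 e he w w.2⟩ rfl]
        exact hinv e he _ hw
      rcases hS.2.2 _ (Submodule.map_subtype_le _ _) hU with h1 | h1
      · refine Or.inl ?_
        rw [← Submodule.map_comap_eq_of_le (hle.trans hf'r.ge)]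
        rw [show U'.comap f' = ⊥ from Submodule.map_injective_of_injective S.subtype_injective
          (h1.trans (Submodule.map_bot _).symm), Submodule.map_bot]
      · refine Or.inr (le_antisymm hle ?_)
        rw [← hf'r]
        rintro _ ⟨w, rfl⟩
        obtain ⟨w', hw', hww⟩ := h1.ge w.2
        rw [← Subtype.ext hww]
        exact hw'
    · rcases hcov g hg with h | h
      · exact hS'.2.1 g (Subgroup.mem_sup_right h) u hu
      · rw [show g = z * (z⁻¹ * g) by group, rho_mul]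
        exact hz' _ (hS'.2.1 _ (Subgroup.mem_sup_right h) u hu)

/-- A 2-group normalising `E` stabilises some simple submodule. -/
theorem exists_stable_simple [Nontrivial V] (hH : Heis ρ E) (hG : IsPGroup 2 G)
    (hnorm : ∀ g ∈ G, ∀ e ∈ E, g * e * g⁻¹ ∈ E) :
    ∃ S, IsSimpleInv ρ E S ∧ ∀ g ∈ G, ∀ u ∈ S, ρ g u ∈ S :=
  exists_stable_simple_aux hH _ G le_rfl hG hnorm

section Transfer

variable {S : Submodule F V}

theorem restrict_eq_one_iff (hH : Heis ρ E) (hS : IsSimpleInv ρ E S) (x : stabSub ρ S)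
    (hx : (x : Γ) ∈ E) : restrictHom ρ S x = 1 ↔ ρ (x : Γ) = 1 := by
  constructor
  · intro h
    exact rho_eq_one_of_restrict hH hS.1 hS.2.1 hx fun u hu =>
      congrArg Subtype.val (LinearMap.congr_fun h ⟨u, hu⟩)
  · intro h
    refine LinearMap.ext fun u => Subtype.ext ?_
    rw [restrictHom_apply, h]
    rfl

theorem restrict_isScal_iff (hH : Heis ρ E) (hS : IsSimpleInv ρ E S) (x : stabSub ρ S)
    (hx : (x : Γ) ∈ E) : IsScal (restrictHom ρ S) x ↔ IsScal ρ (x : Γ) := by
  constructor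
  · rintro ⟨c, hc⟩
    exact ⟨c, isScal_of_restrict hH hS.1 hS.2.1 hx fun u hu =>
      congrArg Subtype.val (LinearMap.congr_fun hc ⟨u, hu⟩)⟩
  · rintro ⟨c, hc⟩
    refine ⟨c, LinearMap.ext fun u => Subtype.ext ?_⟩
    rw [restrictHom_apply, hc]
    rfl

theorem restrict_eq_iff (hH : Heis ρ E) (hS : IsSimpleInv ρ E S) (x y : stabSub ρ S)
    (hx : (x : Γ) ∈ E) (hy : (y : Γ) ∈ E) :
    restrictHom ρ S x = restrictHom ρ S y ↔ ρ (x : Γ) = ρ (y : Γ) := by
  refine ⟨fun h => ?_, fun h => LinearMap.ext fun u => Subtype.ext (by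
    rw [restrictHom_apply, restrictHom_apply, h])⟩
  have h1 : restrictHom ρ S (y⁻¹ * x) = 1 := by
    rw [map_mul, h, ← map_mul, inv_mul_cancel, map_one]
  have h2 := (restrict_eq_one_iff hH hS _ (mul_mem (inv_mem hy) hx)).mp h1
  rw [Subgroup.coe_mul, Subgroup.coe_inv, map_mul] at h2
  calc ρ (x : Γ) = ρ (y : Γ) * (ρ (y : Γ)⁻¹ * ρ (x : Γ)) := by
        rw [← mul_assoc, ← map_mul, mul_inv_cancel, map_one, one_mul]
    _ = ρ (y : Γ) := by rw [h2, mul_one]

theorem heis_restrict (hH : Heis ρ E) (hS : IsSimpleInv ρ E S) :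
    Heis (restrictHom ρ S) (E.subgroupOf (stabSub ρ S)) where
  comm a ha b hb := by
    refine (restrict_isScal_iff hH hS _ ?_).mpr (hH.comm _ ha _ hb)
    rw [commutatorElement_def]
    exact mul_mem (mul_mem (mul_mem ha hb) (inv_mem ha)) (inv_mem hb)
  cent a ha h := (restrict_isScal_iff hH hS a ha).mpr (hH.cent a ha fun b hb => by
    have h1 := h ⟨b, le_stab hS.2.1 hb⟩ hb
    rw [commute_iff_conj] at h1 ⊢
    exact (restrict_eq_iff hH hS _ _ (mul_mem (mul_mem ha hb) (inv_mem ha)) hb).mp h1)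

theorem mem_Cen_restrict_iff (hH : Heis ρ E) (hS : IsSimpleInv ρ E S) (g : stabSub ρ S)
    (hg : ∀ e ∈ E, (g : Γ) * e * (g : Γ)⁻¹ ∈ E) :
    g ∈ Cen (restrictHom ρ S) (E.subgroupOf (stabSub ρ S)) ↔ (g : Γ) ∈ Cen ρ E := by
  rw [mem_Cen, mem_Cen]
  constructor
  · intro h e he
    have h1 := h ⟨e, le_stab hS.2.1 he⟩ he
    rw [commute_iff_conj] at h1 ⊢
    exact (restrict_eq_iff hH hS _ _ (hg e he) he).mp h1
  · intro h e he
    have h1 := h (e : Γ) he
    rw [commute_iff_conj] at h1 ⊢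
    exact (restrict_eq_iff hH hS _ _ (hg _ he) he).mpr h1

theorem mem_ser_restrict_iff (hGS : G ≤ stabSub ρ S) {i : ℕ} (x : stabSub ρ S) :
    x ∈ ser (G.subgroupOf (stabSub ρ S)) i ↔ (x : Γ) ∈ ser G i := by
  have h := ser_map (stabSub ρ S).subtype (G.subgroupOf (stabSub ρ S)) i
  rw [Subgroup.map_subgroupOf_eq_of_le hGS] at h
  rw [← h]
  exact ⟨fun hx => ⟨x, hx, rfl⟩, fun ⟨y, hy, e⟩ => by rwa [← Subtype.ext e]⟩

theorem chain_restrict_eq_bot (hGS : G ≤ stabSub ρ S) {k : ℕ} (h : chainOn ρ G ⊤ k = ⊥) :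
    chainOn (restrictHom ρ S) (G.subgroupOf (stabSub ρ S)) ⊤ k = ⊥ := by
  have h1 := map_chainOn (ρ := restrictHom ρ S) (ρ' := ρ) (stabSub ρ S).subtype
    (G := G.subgroupOf (stabSub ρ S)) (U := ⊤) (fun _ _ _ _ => Submodule.mem_top) S.subtype
    (fun g _ u _ => restrictHom_apply g u) k
  rw [Subgroup.map_subgroupOf_eq_of_le hGS, Submodule.map_subtype_top] at h1
  have h2 : (chainOn (restrictHom ρ S) (G.subgroupOf (stabSub ρ S)) ⊤ k).map S.subtype ≤ ⊥ :=
    h1.le.trans ((chainOn_mono le_rfl le_top k).trans h.le)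
  exact Submodule.map_injective_of_injective S.subtype_injective
    ((le_bot_iff.mp h2).trans (Submodule.map_bot _).symm)

end Transfer

/-- An element of 2-power order centralising an irreducible `E` acts trivially. -/
theorem rho_eq_one_of_mem_Cen [Nontrivial V] (hirr : IsIrred ρ E) (hG : IsPGroup 2 G) {g : Γ}
    (hg : g ∈ G) (h : g ∈ Cen ρ E) : ρ g = 1 := by
  obtain ⟨m, hm⟩ := exists_pow_eq_one hG hg
  exact eq_one_of_scal hm (mem_scalar_of_commute hirr _ h)

section Unique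

variable {P : Type*} [Group P] {c : P}

theorem mem_zpowers_of_unique [Finite P] (huniq : ∀ g : P, g * g = 1 → g = 1 ∨ g = c) {a : P} :
    ∀ (n : ℕ) (b : P), Commute a b → b ^ 2 ^ n = 1 → 2 ^ n ∣ orderOf a →
      b ∈ Subgroup.zpowers a := by
  intro n
  induction n with
  | zero => intro b _ hb _; rw [pow_zero, pow_one] at hb; rw [hb]; exact one_mem _
  | succ n ih =>
    intro b hab hb hdvd
    obtain ⟨i, hi⟩ := ih (b * b) (hab.mul_right hab)
      (by rw [← pow_two, ← pow_mul, ← pow_succ']; exact hb) ((pow_dvd_pow 2 n.le_succ).trans hdvd)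
    simp only at hi
    have h2 : (2 : ℤ) ∣ i := by
      have h1 : a ^ (i * 2 ^ n) = 1 := by
        rw [zpow_mul, hi, show ((2 : ℤ) ^ n) = ((2 ^ n : ℕ) : ℤ) by push_cast; rfl, zpow_natCast,
          ← pow_two, ← pow_mul, ← pow_succ']
        exact hb
      have h3 : ((2 ^ (n + 1) : ℕ) : ℤ) ∣ i * 2 ^ n :=
        (Int.natCast_dvd_natCast.mpr hdvd).trans (orderOf_dvd_iff_zpow_eq_one.mpr h1)
      push_cast at h3
      rw [pow_succ'] at h3
      exact Int.dvd_of_mul_dvd_mul_right (by positivity) h3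
    obtain ⟨j, rfl⟩ := h2
    have h4 : (b * a ^ (-j)) * (b * a ^ (-j)) = 1 := by
      rw [mul_assoc, ← mul_assoc (a ^ (-j)), (hab.zpow_left (-j)).eq, mul_assoc b, ← mul_assoc b b,
        ← hi, ← zpow_add, ← zpow_add, show 2 * j + (-j + -j) = 0 by ring, zpow_zero]
    have hc : c ∈ Subgroup.zpowers a := by
      obtain ⟨r, hr⟩ := (dvd_pow_self 2 n.succ_ne_zero).trans hdvd
      have hne : a ^ r ≠ 1 := fun h => by
        have h0 := orderOf_dvd_of_pow_eq_one h
        rw [hr] at h0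
        have := orderOf_pos a
        rcases Nat.eq_zero_or_pos r with rfl | hr0
        · omega
        · exact absurd (Nat.le_of_dvd hr0 h0) (by omega)
      exact ⟨r, (huniq (a ^ r) (by rw [← pow_add, ← two_mul, ← hr, pow_orderOf_eq_one])).resolve_left
        hne ▸ zpow_natCast a r⟩
    have hb' : b = b * a ^ (-j) * a ^ j := by group
    rw [hb']
    refine mul_mem ?_ (zpow_mem (Subgroup.mem_zpowers a) j)
    rcases huniq _ h4 with h | h <;> rw [h]
    · exact one_mem _
    · exact hc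

theorem odd_of_claim (huniq : ∀ g : P, g * g = 1 → g = 1 ∨ g = c) (hc2 : c * c = 1)
    (hcc : ∀ g : P, Commute c g) {x y : P} (hxy : ⁅x, y⁆ = c) (hc1 : c ≠ 1)
    (hyy : y * y ∈ Subgroup.zpowers (x * x)) :
    ∃ (z : P) (i : ℤ), ⁅x, z⁆ = c ∧ z * z = c ∧ Odd i ∧ (x * x) ^ i = y * y := by
  obtain ⟨i, hi⟩ := hyy
  simp only at hi
  set z := y * x ^ (-i) with hz
  have hxz : ⁅x, z⁆ = c := by
    rw [hz, commutatorElement_def, mul_inv_rev, ← zpow_neg, neg_neg]
    calc x * (y * x ^ (-i)) * x⁻¹ * (x ^ i * y⁻¹)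
        = x * y * (x ^ (-i) * x⁻¹ * x ^ i) * y⁻¹ := by simp only [mul_assoc]
      _ = c := by
        rw [show x ^ (-i) * x⁻¹ * x ^ i = x⁻¹ by group]
        exact hxy
  have hyxy : y⁻¹ * x * y = c * x := by
    have h1 : x * y = c * y * x := by
      rw [← hxy, commutatorElement_def]; group
    rw [mul_assoc, h1, ← mul_assoc, ← mul_assoc, ← (hcc y⁻¹).eq, mul_assoc c, inv_mul_cancel, mul_one]
  have hzz : z * z = c ^ (-i) := by
    have h1 : y⁻¹ * x ^ (-i) * y = c ^ (-i) * x ^ (-i) := by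
      rw [← (hcc x).mul_zpow, ← hyxy]
      conv_lhs => rw [show y⁻¹ * x ^ (-i) * y = y⁻¹ * x ^ (-i) * y⁻¹⁻¹ by rw [inv_inv]]
      rw [← conj_zpow, inv_inv]
    calc z * z = y * y * (y⁻¹ * x ^ (-i) * y) * x ^ (-i) := by rw [hz]; group
      _ = c ^ (-i) * ((x * x) ^ i * (x ^ (-i) * x ^ (-i))) := by
          rw [h1, ← hi, ← mul_assoc, ((hcc ((x * x) ^ i)).zpow_left (-i)).symm.eq]
          simp only [mul_assoc]
      _ = c ^ (-i) := by
          rw [(Commute.refl x).mul_zpow]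
          group
  have hodd : Odd i := by
    rw [← Int.not_even_iff_odd]
    rintro ⟨j, rfl⟩
    rw [show -(j + j) = -j + -j by ring, zpow_add, ← (Commute.refl c).mul_zpow, hc2, one_zpow] at hzz
    rcases huniq z hzz with h | h <;> rw [h] at hxz
    · exact hc1 (by rw [← hxz]; simp)
    · exact hc1 (by rw [← hxz, commutatorElement_eq_one_iff_commute.mpr (hcc x).symm])
  refine ⟨z, i, hxz, ?_, hodd, hi⟩
  rw [hzz]
  obtain ⟨j, rfl⟩ := hodd
  rw [show -(2 * j + 1) = -j + -j + -1 by ring, zpow_add, zpow_add, ← (Commute.refl c).mul_zpow,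
    hc2, one_zpow, one_mul, zpow_neg_one, inv_eq_of_mul_eq_one_left hc2]

/-- In a 2-group with one involution `c`, commutator `c` forces square `c`. -/
theorem sq_eq_of_unique [Finite P] (hP : IsPGroup 2 P)
    (huniq : ∀ g : P, g * g = 1 → g = 1 ∨ g = c) (hc2 : c * c = 1) (hcc : ∀ g : P, Commute c g)
    (hc1 : c ≠ 1) {x y : P} (hxy : ⁅x, y⁆ = c) : x * x = c := by
  have main : ∀ {x y : P}, ⁅x, y⁆ = c → y * y ∈ Subgroup.zpowers (x * x) → x * x = c := by
    intro x y hxy hyy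
    have hx1 : x * x ≠ 1 := fun h => by
      rcases huniq x h with e | e <;> rw [e] at hxy
      · exact hc1 (by rw [← hxy]; simp)
      · exact hc1 (by rw [← hxy, commutatorElement_eq_one_iff_commute.mpr (hcc y)])
    obtain ⟨z, -, hxz, hzz, -, -⟩ := odd_of_claim huniq hc2 hcc hxy hc1 hyy
    have hcm : c ∈ Subgroup.zpowers (x * x) := by
      obtain ⟨k, hk⟩ := IsPGroup.iff_orderOf.mp hP (x * x)
      refine mem_zpowers_of_unique huniq 1 c (hcc _).symm (by rw [pow_one, pow_two]; exact hc2) ?_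
      rcases k with _ | k
      · exact absurd (orderOf_eq_one_iff.mp hk) hx1
      · rw [hk]; exact pow_dvd_pow 2 (by omega)
    obtain ⟨-, i, -, -, hodd, hi⟩ := odd_of_claim huniq hc2 hcc hxz hc1 (by rw [hzz]; exact hcm)
    rw [hzz] at hi
    have h2 : orderOf (x * x) ∣ 2 := by
      obtain ⟨k, hk⟩ := IsPGroup.iff_orderOf.mp hP (x * x)
      have h3 : (x * x) ^ (i * 2) = 1 := by rw [zpow_mul, hi, zpow_ofNat, pow_two, hc2]
      rw [← orderOf_dvd_iff_zpow_eq_one, hk] at h3
      rw [hk, ← Int.natCast_dvd_natCast]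
      refine Int.dvd_of_dvd_mul_right_of_gcd_one h3 ?_
      rw [Int.gcd, Int.natAbs_natCast]
      exact Nat.Coprime.pow_left k (Nat.coprime_two_left.mpr (Int.natAbs_odd.mpr hodd))
    have h4 : x * x * (x * x) = 1 := by
      rw [← pow_two]; exact orderOf_dvd_iff_pow_eq_one.mp h2
    exact (huniq _ h4).resolve_left hx1
  have hcxy : x * x * (y * y) = y * y * (x * x) := by
    have h1 : x * y * x⁻¹ = c * y := by rw [← hxy, commutatorElement_def]; group
    have h2 : x * x * y * (x * x)⁻¹ = y := by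
      calc x * x * y * (x * x)⁻¹ = x * (x * y * x⁻¹) * x⁻¹ := by group
        _ = c * (x * y * x⁻¹) := by rw [h1, ← mul_assoc x, ← (hcc x).eq, ← h1]; simp only [mul_assoc]
        _ = y := by rw [h1, ← mul_assoc, hc2, one_mul]
    exact ((show Commute (x * x) y from mul_inv_eq_iff_eq_mul.mp h2).mul_right
      (mul_inv_eq_iff_eq_mul.mp h2)).eq
  obtain ⟨k, hk⟩ := IsPGroup.iff_orderOf.mp hP (x * x)
  obtain ⟨l, hl⟩ := IsPGroup.iff_orderOf.mp hP (y * y)
  rcases le_total l k with hlk | hkl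
  · exact main hxy (mem_zpowers_of_unique huniq l _ hcxy (hl ▸ pow_orderOf_eq_one _)
      (hk ▸ pow_dvd_pow 2 hlk))
  · have hyx : ⁅y, x⁆ = c := by
      rw [← commutatorElement_inv x y, hxy, inv_eq_of_mul_eq_one_left hc2]
    have hmem := mem_zpowers_of_unique huniq k _ (show Commute (y * y) (x * x) from hcxy.symm)
      (hk ▸ pow_orderOf_eq_one _) (hl ▸ pow_dvd_pow 2 hkl)
    have hy := main hyx hmem
    obtain ⟨-, i, -, -, ⟨j, rfl⟩, hi⟩ := odd_of_claim huniq hc2 hcc hyx hc1 hmem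
    rw [hy, zpow_add, zpow_mul, zpow_ofNat, pow_two, hc2, one_zpow, one_mul, zpow_one] at hi
    exact hi.symm

end Unique

section Two

variable [Nontrivial V]

theorem hconj_mul {C : Module.End F V} (h : C * C = 1) (X Y : Module.End F V) :
    (C * X * C) * (C * Y * C) = C * (X * Y) * C := by
  simp only [← mul_assoc]
  rw [mul_assoc (C * X) C C, h, mul_one]

theorem conj_scal {A : Γ} {s : F} {a : Γ} (h : ρ a = s • 1) : ρ A * ρ a = s • ρ A := by
  rw [h, mul_smul_comm, mul_one]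

/-- A chain of length two: one involution modulo the centraliser, and squares are commutators. -/
theorem local_two (hE : Odd (Nat.card E)) (hnorm : ∀ g ∈ G, ∀ e ∈ E, g * e * g⁻¹ ∈ E)
    (hG : IsPGroup 2 G) (hH : Heis ρ E) (hirr : IsIrred ρ E)
    (hchain : chainOn ρ G ⊤ 2 = ⊥) {w : Γ} (hw : w ∈ ser G 1) (hwC : w ∉ Cen ρ E) :
    (∀ w' ∈ ser G 1, w' ∉ Cen ρ E → w'⁻¹ * w ∈ Cen ρ E) ∧
      ∀ x ∈ G, ∀ y ∈ G, ⁅x, y⁆ ∉ Cen ρ E → ⁅x, y⁆ * (x * x)⁻¹ ∈ Cen ρ E := by
  classical
  have hrel : ∀ a ∈ ser G 1, ∀ g ∈ G, (ρ a - 1) * (ρ g - 1) = 0 := fun a ha g hg =>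
    LinearMap.ext fun v => by
      have h1 := sub_mem_chainOn (ρ := ρ) ha (sub_mem_chainOn (ρ := ρ) (G := G) (i := 0) hg
        (Submodule.mem_top (x := v)))
      rw [hchain, Submodule.mem_bot] at h1
      exact h1
  have hsq : ∀ a ∈ ser G 1, ρ (a * a) = 1 := fun a ha => by
    have h1 := hrel a ha a (ser_le_self G 1 ha)
    rw [sub_mul, mul_sub, mul_sub, one_mul, one_mul, mul_one, ← map_mul] at h1
    refine LinearMap.ext fun v => ?_
    have h2 := LinearMap.congr_fun h1 v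
    simp only [LinearMap.sub_apply, Module.End.one_apply, LinearMap.zero_apply] at h2
    rw [Module.End.one_apply]
    rw [sub_eq_add' F (ρ a v) v, sub_eq_add' F (ρ (a * a) v) (ρ a v), sub_eq_add' F _ (ρ a v + v),
      show ρ (a * a) v + ρ a v + (ρ a v + v) = ρ (a * a) v + v + (ρ a v + ρ a v) by abel,
      ← sub_eq_add' F (ρ a v) (ρ a v), sub_self, add_zero, ← sub_eq_add' F, sub_eq_zero] at h2
    exact h2
  -- the image group
  let u : G →* (Module.End F V)ˣ := ρ.toHomUnits.comp G.subtype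
  have hu : ∀ g : G, (u g : Module.End F V) = ρ (g : Γ) := fun g => rfl
  have hPp : IsPGroup 2 u.range := hG.of_surjective u.rangeRestrict u.rangeRestrict_surjective
  have hfin : Finite u.range := Finite.of_surjective _ u.rangeRestrict_surjective
  have heq : ∀ a b : G, u.rangeRestrict a = u.rangeRestrict b ↔ ρ (a : Γ) = ρ (b : Γ) :=
    fun a b => ⟨fun h => congrArg (fun t : u.range => ((t : (Module.End F V)ˣ) : Module.End F V)) h,
      fun h => Subtype.ext (Units.ext h)⟩
  have hsub : ∀ a : Γ, a ∈ ser G 1 → ∀ b : G, (b : Γ) = a → b ∈ derivedSeries G 1 := by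
    intro a ha b hb
    obtain ⟨b', hb', e⟩ := (derivedSeries_map_subtype G 1).ge ha
    rwa [Subtype.ext (hb.trans e.symm)]
  set N := (derivedSeries G 1).map u.rangeRestrict
  have hNn : N.Normal := (derivedSeries_normal G 1).map _ u.rangeRestrict_surjective
  have hN : N ≠ ⊥ := by
    intro h
    have h1 : u.rangeRestrict ⟨w, ser_le_self G 1 hw⟩ ∈ N :=
      ⟨_, hsub w hw _ rfl, rfl⟩
    rw [h, Subgroup.mem_bot, ← map_one u.rangeRestrict, heq] at h1
    refine hwC fun e _ => ?_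
    rw [show ρ w = ρ (1 : Γ) from h1, map_one]
    exact Commute.one_left _
  obtain ⟨⟨z, hz⟩, hz1'⟩ :=
    (Subgroup.ne_bot_iff_exists_ne_one).mp (PGroup.inf_center_ne_bot hPp hN)
  have hz1 : z ≠ 1 := fun h => hz1' (Subtype.ext h)
  obtain ⟨c, hc, hcz⟩ := (Subgroup.mem_inf.mp hz).1
  obtain ⟨m, hm⟩ := exists_pow_eq_one hG c.2
  have hcs : (c : Γ) ∈ ser G 1 := (derivedSeries_map_subtype G 1).le ⟨c, hc, rfl⟩
  set C := ρ (c : Γ) with hC
  have hC2 : C * C = 1 := by rw [hC, ← map_mul]; exact hsq _ hcs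
  have hCG : ∀ g ∈ G, Commute C (ρ g) := fun g hg => by
    have h1 := Subgroup.mem_center_iff.mp (Subgroup.mem_inf.mp hz).2 (u.rangeRestrict ⟨g, hg⟩)
    rw [← hcz, ← map_mul, ← map_mul, heq] at h1
    exact (map_mul ρ _ _).symm.trans ((h1.symm).trans (map_mul ρ _ _))
  have hC1 : C ≠ 1 := fun h => hz1 (by
    rw [← hcz, ← map_one u.rangeRestrict, heq]; rw [Subgroup.coe_one, map_one]; exact h)
  have hCi : ρ (c : Γ)⁻¹ = C := by
    calc ρ (c : Γ)⁻¹ = ρ (c : Γ)⁻¹ * (C * C) := by rw [hC2, mul_one]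
      _ = C := by rw [hC, ← mul_assoc, ← map_mul, inv_mul_cancel, map_one, one_mul]
  have hconj : ∀ e, ρ ((c : Γ) * e * (c : Γ)⁻¹) = C * ρ e * C := fun e => by
    rw [rho_conj, hCi]
  -- the parts of an element of `E`
  have hsplit : ∀ f ∈ E, ∃ a ∈ E, ∃ b ∈ E, Commute C (ρ a) ∧ C * ρ b * C = ρ b⁻¹ ∧
      f * f = a * b := by
    intro f hf
    set f' := (c : Γ) * f * (c : Γ)⁻¹ with hf'
    have hf'E : f' ∈ E := hnorm _ c.2 f hf
    refine ⟨f * f', mul_mem hf hf'E, f'⁻¹ * f, mul_mem (inv_mem hf'E) hf, ?_, ?_, by group⟩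
    · obtain ⟨s, hs⟩ := hH.comm f' hf'E f hf
      have hCC : ρ ((c : Γ) * f' * (c : Γ)⁻¹) = ρ f := by
        rw [hconj, hf', hconj]
        simp only [← mul_assoc, hC2, one_mul]
        rw [mul_assoc, hC2, mul_one]
      have h1 : ρ ((c : Γ) * (f * f') * (c : Γ)⁻¹) = s • ρ (f * f') := by
        calc ρ ((c : Γ) * (f * f') * (c : Γ)⁻¹) = ρ (f' * ((c : Γ) * f' * (c : Γ)⁻¹)) := by
              congr 1; rw [hf']; group
          _ = ρ ⁅f', f⁆ * (ρ f * ρ f') := by rw [map_mul ρ f', hCC, rho_eq_commutator_mul]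
          _ = s • ρ (f * f') := by rw [hs, smul_one_mul, ← map_mul ρ f f']
      rw [eq_one_of_conj_smul hm h1, one_smul, ← commute_iff_conj] at h1
      exact h1
    · have hinv : ρ f'⁻¹ = C * ρ f⁻¹ * C := by
        rw [← hconj, hf']
        congr 1
        group
      have hf2 : C * ρ f * C = ρ f' := (hconj f).symm
      calc C * ρ (f'⁻¹ * f) * C = C * (C * ρ f⁻¹ * C * ρ f) * C := by rw [map_mul, hinv]
        _ = ρ f⁻¹ * (C * ρ f * C) := by simp only [← mul_assoc, hC2, one_mul]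
        _ = ρ (f'⁻¹ * f)⁻¹ := by rw [hf2, ← map_mul, mul_inv_rev, inv_inv]
  have hodd : ∀ f ∈ E, ∀ X : Module.End F V, Commute X (ρ (f * f)) → Commute X (ρ f) := by
    intro f hf X hX
    obtain ⟨j, hj⟩ : ∃ j : ℕ, (f * f) ^ j = f := by
      obtain ⟨r, hr⟩ := hE
      refine ⟨r + 1, ?_⟩
      have h1 : f ^ Nat.card E = 1 := orderOf_dvd_iff_pow_eq_one.mp (Subgroup.orderOf_dvd_natCard E hf)
      rw [← pow_two, ← pow_mul, show 2 * (r + 1) = Nat.card E + 1 by omega, pow_succ, h1, one_mul]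
    rw [← hj, map_pow]
    exact hX.pow_right j
  have hCpos : ∀ g ∈ G, (C - 1) * ρ g = C - 1 := fun g hg => by
    have h1 := hrel _ hcs g hg
    rw [mul_sub, mul_one, sub_eq_zero] at h1
    exact h1
  -- everything fixes the fixed part
  have hplus : ∀ g ∈ G, ∀ e ∈ E, Commute C (ρ e) → ρ (g * e * g⁻¹) = ρ e := by
    intro g hg e he hCe
    obtain ⟨mg, hmg⟩ := exists_pow_eq_one hG hg
    set e' := g * e * g⁻¹ with he'
    have he'E : e' ∈ E := hnorm g hg e he
    set δ := e⁻¹ * e' with hδ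
    have hδE : δ ∈ E := mul_mem (inv_mem he) he'E
    have hCe1 : Commute (C - 1) (ρ e) := hCe.sub_left (Commute.one_left _)
    have h1 : (C - 1) * ρ e' = (C - 1) * ρ e := by
      rw [he', rho_conj, ← mul_assoc, ← mul_assoc, hCpos g hg, hCe1.eq, mul_assoc,
        hCpos g⁻¹ (inv_mem hg)]
    have h2 : (C - 1) * ρ δ = C - 1 := by
      have h3 : ρ e * ((C - 1) * ρ δ) = ρ e * (C - 1) := by
        rw [← mul_assoc, ← hCe1.eq, mul_assoc, ← map_mul, hδ, mul_inv_cancel_left, h1]
      have h4 := congrArg (ρ e⁻¹ * ·) h3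
      simpa only [← mul_assoc, ← map_mul, inv_mul_cancel, map_one, one_mul] using h4
    have hCd : Commute C (ρ δ) := by
      have hCe' : Commute C (ρ e') := by
        rw [he', rho_conj]
        exact ((hCG g hg).mul_right hCe).mul_right (hCG g⁻¹ (inv_mem hg))
      rw [hδ, map_mul]
      refine Commute.mul_right ?_ hCe'
      exact commute_inv hCe
    have hscal : IsScal ρ δ := by
      refine hH.cent δ hδE fun f hf => hodd f hf _ ?_
      obtain ⟨a, ha, b, hb, hCa, hCb, hab⟩ := hsplit f hf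
      rw [hab, map_mul ρ a b]
      refine Commute.mul_right ?_ ?_
      · obtain ⟨s, hs⟩ := hH.comm a ha δ hδE
        have h3 : ρ a * ρ δ = s • (ρ δ * ρ a) := by
          rw [rho_eq_commutator_mul, hs, smul_one_mul]
        have hs1 : s = 1 := by
          have hCa1 : Commute (C - 1) (ρ a) := hCa.sub_left (Commute.one_left _)
          have h5 := congrArg (fun X => (C - 1) * X) h3
          simp only [mul_smul_comm, ← mul_assoc, h2, hCa1.eq] at h5
          rw [mul_assoc, h2] at h5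
          by_contra hne
          have h6 : (1 - s) • ((C - 1) * ρ a) = 0 := by
            rw [sub_smul, one_smul, hCa1.eq, ← h5, sub_self]
          have h7 := (smul_eq_zero.mp h6).resolve_left (sub_ne_zero.mpr (Ne.symm hne))
          have h8 := congrArg (· * ρ a⁻¹) h7
          simp only [zero_mul, mul_assoc, ← map_mul, mul_inv_cancel, map_one, mul_one] at h8
          exact hC1 (sub_eq_zero.mp h8)
        rw [hs1, one_smul] at h3
        exact h3.symm
      · obtain ⟨s, hs⟩ := hH.comm b hb δ hδE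
        have h3 : ρ b * ρ δ = s • (ρ δ * ρ b) := by
          rw [rho_eq_commutator_mul, hs, smul_one_mul]
        have h4 : ρ b⁻¹ * ρ δ = s • (ρ δ * ρ b⁻¹) := by
          have h5 := congrArg (fun X => C * X * C) h3
          simp only [mul_smul_comm, smul_mul_assoc] at h5
          rw [show C * (ρ b * ρ δ) * C = C * ρ b * C * ρ δ by
              rw [mul_assoc (C * ρ b), hCd.eq]; simp only [mul_assoc],
            show C * (ρ δ * ρ b) * C = ρ δ * (C * ρ b * C) by
              rw [← mul_assoc C, hCd.eq]; simp only [mul_assoc], hCb] at h5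
          exact h5
        have hs2 : (1 : F) = s * s := by
          refine smul_rho_inj (ρ := ρ) (x := δ) ?_
          calc (1 : F) • ρ δ = ρ b⁻¹ * (ρ b * ρ δ) := by
                rw [one_smul, ← mul_assoc, ← map_mul, inv_mul_cancel, map_one, one_mul]
            _ = s • (ρ b⁻¹ * ρ δ * ρ b) := by rw [h3, mul_smul_comm, mul_assoc]
            _ = (s * s) • ρ δ := by
                rw [h4, smul_mul_assoc, smul_smul, mul_assoc, ← map_mul ρ b⁻¹, inv_mul_cancel,
                  map_one, mul_one]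
        rw [eq_one_of_pow_two_pow (c := s) (m := 1) (by rw [pow_one, pow_two, ← hs2]),
          one_smul] at h3
        exact h3.symm
    obtain ⟨s, hs⟩ := hscal
    have h3 : ρ e' = s • ρ e := by
      rw [← conj_scal (A := e) hs, ← map_mul, hδ, mul_inv_cancel_left]
    rw [h3, eq_one_of_conj_smul hmg h3, one_smul]
  -- the only involution
  have huniq : ∀ g ∈ G, ρ (g * g) = 1 → ρ g = 1 ∨ ρ g = C := by
    intro g hg hg2
    by_contra hcon
    push Not at hcon
    obtain ⟨mg, hmg⟩ := exists_pow_eq_one hG hg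
    obtain ⟨mgc, hmgc⟩ := exists_pow_eq_one hG (mul_mem hg c.2)
    have hgi : ρ g⁻¹ = ρ g := by
      calc ρ g⁻¹ = ρ g⁻¹ * ρ (g * g) := by rw [hg2, mul_one]
        _ = ρ g := by rw [← map_mul, inv_mul_cancel_left]
    have hgg : ∀ e, ρ (g * (g * e * g⁻¹) * g⁻¹) = ρ e := fun e => by
      rw [show g * (g * e * g⁻¹) * g⁻¹ = (g * g) * e * (g * g)⁻¹ by group, map_mul, map_mul, hg2,
        one_mul]
      calc ρ e * ρ (g * g)⁻¹ = ρ e * (ρ (g * g) * ρ (g * g)⁻¹) := by rw [hg2, one_mul]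
        _ = ρ e := by rw [← map_mul ρ (g * g), mul_inv_cancel, map_one, mul_one]
    have hsq' : ∀ h ∈ G, (∀ b ∈ E, C * ρ b * C = ρ b⁻¹ → ρ (h * b * h⁻¹) = ρ b) →
        (∀ a ∈ E, Commute C (ρ a) → ρ (h * a * h⁻¹) = ρ a) → ρ h = 1 := fun h hh hb ha =>
      rho_eq_one_of_mem_Cen hirr hG hh (fun f hf => hodd f hf _ (by
        obtain ⟨a, haE, b, hbE, hCa, hCb, hab⟩ := hsplit f hf
        rw [hab, map_mul]
        exact ((commute_iff_conj _ _).mpr (ha a haE hCa)).mul_right
          ((commute_iff_conj _ _).mpr (hb b hbE hCb))))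
    -- `g b g⁻¹` for an inverted `b`
    have himg : ∀ b ∈ E, C * ρ b * C = ρ b⁻¹ →
        C * ρ (g * b * g⁻¹) * C = ρ (g * b * g⁻¹)⁻¹ := fun b _ hb => by
      rw [show (g * b * g⁻¹)⁻¹ = g * b⁻¹ * g⁻¹ by group, rho_conj, rho_conj, ← hb,
        ← mul_assoc C, ← mul_assoc C, (hCG g hg).eq, mul_assoc (ρ g * C * ρ b),
        ← (hCG g⁻¹ (inv_mem hg)).eq]
      simp only [mul_assoc]
    -- some element not inverted, some element not fixed
    obtain ⟨b₀, hb₀, hb₀C, hb₀n⟩ : ∃ b ∈ E, C * ρ b * C = ρ b⁻¹ ∧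
        ¬ IsScal ρ (g * b * g⁻¹ * b) := by
      by_contra hc'
      push Not at hc'
      refine hcon.2 ?_
      have h1 : ρ (g * (c : Γ)) = 1 := by
        refine hsq' _ (mul_mem hg c.2) (fun b hb hbC => ?_) (fun a ha haC => ?_)
        · obtain ⟨s, hs⟩ := hc' b⁻¹ (inv_mem hb) (by
            rw [inv_inv, ← hbC]
            simp only [← mul_assoc, hC2, one_mul]
            rw [mul_assoc, hC2, mul_one])
          have h2 : ρ (g * (c : Γ) * b * (g * (c : Γ))⁻¹) = s • ρ b := by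
            rw [show g * (c : Γ) * b * (g * (c : Γ))⁻¹ = g * ((c : Γ) * b * (c : Γ)⁻¹) * g⁻¹ by group, rho_conj g, hconj,
              hbC, ← rho_conj, show g * b⁻¹ * g⁻¹ = g * b⁻¹ * g⁻¹ * b⁻¹ * b by group, map_mul, hs,
              smul_one_mul]
          rw [h2, eq_one_of_conj_smul hmgc h2, one_smul]
        · rw [show g * (c : Γ) * a * (g * (c : Γ))⁻¹ = g * ((c : Γ) * a * (c : Γ)⁻¹) * g⁻¹ by group, rho_conj g,
            (commute_iff_conj _ _).mp haC, ← rho_conj]
          exact hplus g hg a ha haC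
      rw [map_mul] at h1
      calc ρ g = ρ g * (C * C) := by rw [hC2, mul_one]
        _ = C := by rw [← mul_assoc, h1, one_mul]
    obtain ⟨b₁, hb₁, hb₁C, hb₁n⟩ : ∃ b ∈ E, C * ρ b * C = ρ b⁻¹ ∧
        ¬ IsScal ρ (b * (g * b * g⁻¹)⁻¹) := by
      by_contra hc'
      push Not at hc'
      refine hcon.1 (hsq' g hg (fun b hb hbC => ?_) (fun a ha haC => hplus g hg a ha haC))
      obtain ⟨s, hs⟩ := hc' b hb hbC
      have h2 : ρ b = s • ρ (g * b * g⁻¹) := by
        rw [← smul_one_mul s, ← hs, ← map_mul, inv_mul_cancel_right]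
      have h3 : ρ (g * b * g⁻¹) = s • ρ b := by
        conv_lhs => rw [rho_conj, h2, mul_smul_comm, smul_mul_assoc, ← rho_conj, hgg]
      rw [h3, eq_one_of_conj_smul hmg h3, one_smul]
    -- the canonical lifts
    set a := b₀ * (g * b₀ * g⁻¹)
    set b := b₁ * (g * b₁ * g⁻¹)⁻¹
    have hgE : ∀ x ∈ E, g * x * g⁻¹ ∈ E := hnorm g hg
    have haE : a ∈ E := mul_mem hb₀ (hgE _ hb₀)
    have hbE : b ∈ E := mul_mem hb₁ (inv_mem (hgE _ hb₁))
    have hCinv : ∀ x y, x ∈ E → y ∈ E → C * ρ x * C = ρ x⁻¹ → C * ρ y * C = ρ y⁻¹ →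
        ∃ s : F, C * ρ (x * y) * C = s • ρ (x * y)⁻¹ := by
      intro x y hx hy hxC hyC
      obtain ⟨s, hs⟩ := hH.comm x⁻¹ (inv_mem hx) y⁻¹ (inv_mem hy)
      refine ⟨s, ?_⟩
      calc C * ρ (x * y) * C = (C * ρ x * C) * (C * ρ y * C) := by
            rw [map_mul]; simp only [← mul_assoc]; rw [mul_assoc (C * ρ x) C C, hC2, mul_one]
        _ = _ := by rw [hxC, hyC, rho_eq_commutator_mul, hs, smul_one_mul, mul_inv_rev, map_mul]
    obtain ⟨sa, hsa⟩ := hCinv b₀ _ hb₀ (hgE _ hb₀) hb₀C (himg b₀ hb₀ hb₀C)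
    obtain ⟨sb, hsb⟩ := hCinv b₁ _ hb₁ (inv_mem (hgE _ hb₁)) hb₁C (by
      have h1 := himg b₁ hb₁ hb₁C
      rw [inv_inv]
      calc C * ρ (g * b₁ * g⁻¹)⁻¹ * C = C * (C * ρ (g * b₁ * g⁻¹) * C) * C := by rw [h1]
        _ = ρ (g * b₁ * g⁻¹) := by
            simp only [← mul_assoc, hC2, one_mul]; rw [mul_assoc, hC2, mul_one])
    have hga : ρ (g * a * g⁻¹) = ρ a := by
      obtain ⟨s, hs⟩ := hH.comm (g * b₀ * g⁻¹) (hgE _ hb₀) b₀ hb₀
      have h1 : ρ (g * a * g⁻¹) = s • ρ a := by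
        rw [show g * a * g⁻¹ = g * b₀ * g⁻¹ * (g * (g * b₀ * g⁻¹) * g⁻¹) by
          simp only [a]; group, map_mul ρ (g * b₀ * g⁻¹), hgg, rho_eq_commutator_mul, hs,
          smul_one_mul, ← map_mul ρ b₀]
      rw [h1, eq_one_of_conj_smul hmg h1, one_smul]
    obtain ⟨ub, hgb⟩ : ∃ s : F, ρ (g * b * g⁻¹) = s • ρ b⁻¹ := by
      refine ⟨1, ?_⟩
      rw [one_smul, show g * b * g⁻¹ = g * b₁ * g⁻¹ * (g * (g * b₁ * g⁻¹) * g⁻¹)⁻¹ by
        simp only [b]; group, map_mul]
      have h1 : ρ (g * (g * b₁ * g⁻¹) * g⁻¹)⁻¹ = ρ b₁⁻¹ := by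
        calc ρ (g * (g * b₁ * g⁻¹) * g⁻¹)⁻¹
            = ρ (g * (g * b₁ * g⁻¹) * g⁻¹)⁻¹ * (ρ (g * (g * b₁ * g⁻¹) * g⁻¹) * ρ b₁⁻¹) := by
              rw [hgg, ← map_mul ρ b₁, mul_inv_cancel, map_one, mul_one]
          _ = ρ b₁⁻¹ := by rw [← mul_assoc, ← map_mul, inv_mul_cancel, map_one, one_mul]
      rw [h1, ← map_mul]
      congr 1
      simp only [b]; group
    have hx0 : ∀ x : Γ, C * ρ x * C ≠ 0 := fun x h => by
      have h1 : ρ (x * x⁻¹) = 0 := by
        calc ρ (x * x⁻¹) = (C * C) * ρ x * (C * C) * ρ x⁻¹ := by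
              rw [hC2, one_mul, mul_one, map_mul]
          _ = C * (C * ρ x * C) * C * ρ x⁻¹ := by simp only [mul_assoc]
          _ = 0 := by rw [h]; simp
      rw [mul_inv_cancel, map_one] at h1
      exact one_ne_zero (α := Module.End F V) h1
    have hsb0 : sb ≠ 0 := fun h => hx0 _ (by rw [hsb, h, zero_smul])
    have hsa0 : sa ≠ 0 := fun h => hx0 _ (by rw [hsa, h, zero_smul])
    obtain ⟨ta, hta⟩ := IsAlgClosed.exists_pow_nat_eq sa⁻¹ two_pos
    obtain ⟨tb, htb⟩ := IsAlgClosed.exists_pow_nat_eq sb⁻¹ two_pos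
    have hta0 : ta ≠ 0 := fun h => inv_ne_zero hsa0 (by rw [← hta, h, zero_pow two_ne_zero])
    have htb0 : tb ≠ 0 := fun h => inv_ne_zero hsb0 (by rw [← htb, h, zero_pow two_ne_zero])
    obtain ⟨A, hA⟩ : ∃ X : Module.End F V, X = ta • ρ a := ⟨_, rfl⟩
    obtain ⟨A', hA'⟩ : ∃ X : Module.End F V, X = ta⁻¹ • ρ a⁻¹ := ⟨_, rfl⟩
    obtain ⟨B, hB⟩ : ∃ X : Module.End F V, X = tb • ρ b := ⟨_, rfl⟩
    obtain ⟨B', hB'⟩ : ∃ X : Module.End F V, X = tb⁻¹ • ρ b⁻¹ := ⟨_, rfl⟩
    have hAA : A' * A = 1 := by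
      rw [hA, hA', smul_mul_smul_comm, inv_mul_cancel₀ hta0, ← map_mul, inv_mul_cancel, map_one, one_smul]
    have hBB : B' * B = 1 := by
      rw [hB, hB', smul_mul_smul_comm, inv_mul_cancel₀ htb0, ← map_mul, inv_mul_cancel, map_one, one_smul]
    have hBB2 : B * B' = 1 := by
      rw [hB, hB', smul_mul_smul_comm, mul_inv_cancel₀ htb0, ← map_mul, mul_inv_cancel, map_one, one_smul]
    have hAA2 : A * A' = 1 := by
      rw [hA, hA', smul_mul_smul_comm, mul_inv_cancel₀ hta0, ← map_mul, mul_inv_cancel, map_one, one_smul]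
    have hCA : C * A * C = A' := by
      rw [hA, hA', mul_smul_comm, smul_mul_assoc, hsa, smul_smul]
      congr 1
      rw [pow_two] at hta
      field_simp at hta ⊢
      linear_combination hta
    have hCB : C * B * C = B' := by
      rw [hB, hB', mul_smul_comm, smul_mul_assoc, hsb, smul_smul]
      congr 1
      rw [pow_two] at htb
      field_simp at htb ⊢
      linear_combination htb
    have hCB' : C * B' * C = B := by
      rw [← hCB]; simp only [← mul_assoc, hC2, one_mul]; rw [mul_assoc, hC2, mul_one]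
    have hCA' : C * A' * C = A := by
      rw [← hCA]; simp only [← mul_assoc, hC2, one_mul]; rw [mul_assoc, hC2, mul_one]
    have hgA : ρ g * A * ρ g⁻¹ = A := by
      rw [hA, mul_smul_comm, smul_mul_assoc, ← rho_conj, hga]
    have hgA' : ρ g * A' * ρ g⁻¹ = A' := by
      rw [← hCA]
      calc ρ g * (C * A * C) * ρ g⁻¹ = C * (ρ g * A * ρ g⁻¹) * C := by
            simp only [← mul_assoc]
            rw [← (hCG g hg).eq, mul_assoc (C * ρ g * A), (hCG g⁻¹ (inv_mem hg)).eq]
            simp only [mul_assoc]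
        _ = _ := by rw [hgA]
    have hgB : ρ g * B * ρ g⁻¹ = B' := by
      have h1 : ρ g * B * ρ g⁻¹ = (tb * tb * ub) • B' := by
        rw [hB, hB', mul_smul_comm, smul_mul_assoc, ← rho_conj, hgb, smul_smul, smul_smul]
        congr 1
        field_simp
      set μ := tb * tb * ub
      have h2 : ρ g * B' * ρ g⁻¹ = μ • B := by
        calc ρ g * B' * ρ g⁻¹ = C * (ρ g * B * ρ g⁻¹) * C := by
              rw [← hCB]
              simp only [← mul_assoc]
              rw [← (hCG g hg).eq, mul_assoc (C * ρ g * B), (hCG g⁻¹ (inv_mem hg)).eq]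
              simp only [mul_assoc]
          _ = μ • B := by rw [h1, mul_smul_comm, smul_mul_assoc, hCB']
      have h4 : (ρ g * B * ρ g⁻¹) * (ρ g * B' * ρ g⁻¹) = 1 := by
        simp only [← mul_assoc]
        rw [mul_assoc (ρ g * B) (ρ g⁻¹) (ρ g), ← map_mul ρ g⁻¹, inv_mul_cancel, map_one, mul_one,
          mul_assoc (ρ g), hBB2, mul_one, ← map_mul, mul_inv_cancel, map_one]
      rw [h1, h2, smul_mul_smul_comm, hBB] at h4
      have h5 : μ = 1 := eq_one_of_pow_two_pow (m := 1) (smul_one_inj (V := V) (by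
        rw [pow_one, pow_two, h4, one_smul]))
      rw [h1, h5, one_smul]
    have hgB' : ρ g * B' * ρ g⁻¹ = B := by
      rw [← hgB]
      simp only [← mul_assoc]
      rw [← map_mul, mul_assoc (ρ (g * g) * B), ← map_mul, hg2, one_mul]
      rw [show ρ (g⁻¹ * g⁻¹) = 1 by rw [map_mul, hgi, ← map_mul, hg2], mul_one]
    -- they commute
    have hcm : A * B = B * A := by
      obtain ⟨s, hs⟩ := hH.comm a haE b hbE
      have h1 : A * B = s • (B * A) := by
        rw [hA, hB, smul_mul_smul_comm, smul_mul_smul_comm, rho_eq_commutator_mul, hs, smul_one_mul,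
          smul_smul, smul_smul]
        congr 1
        ring
      have h2 : A * B' = s • (B' * A) := by
        have h := congrArg (fun X => ρ g * X * ρ g⁻¹) h1
        simp only [mul_smul_comm, smul_mul_assoc] at h
        rwa [← conj_mul' g, ← conj_mul' g, hgA, hgB] at h
      have h3 : (s * s) • (B * A) = (1 : F) • (B * A) := by
        rw [one_smul]
        calc (s * s) • (B * A) = s • (A * B) := by rw [h1, smul_smul]
          _ = B * (s • (B' * A)) * B := by
              rw [mul_smul_comm, smul_mul_assoc, ← mul_assoc B, hBB2, one_mul]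
          _ = B * A := by rw [← h2, mul_assoc, mul_assoc A, hBB, mul_one]
      have hne : B * A ≠ 0 := fun h0 => zero_ne_one (α := Module.End F V) (by
        calc (0 : Module.End F V) = A' * (B' * (B * A)) := by rw [h0, mul_zero, mul_zero]
          _ = 1 := by rw [← mul_assoc B', hBB, one_mul, hAA])
      have hs1 : s = 1 := eq_one_of_pow_two_pow (m := 1) (by
        rw [pow_one, pow_two]; exact smul_left_injective F hne h3)
      rw [h1, hs1, one_smul]
    -- the key relation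
    have hkey : (C - 1) * ((A - A') * (B - B')) = 0 := by
      set D := A * B + A' * B' with hD
      have hCD : Commute C D := by
        show C * D = D * C
        have h1 : C * D * C = D := by
          rw [hD, mul_add, add_mul, ← hconj_mul hC2, ← hconj_mul hC2, hCA, hCB, hCA', hCB', add_comm]
        calc C * D = C * D * (C * C) := by rw [hC2, mul_one]
          _ = D * C := by rw [← mul_assoc, h1]
      have h1 : ρ g * D * ρ g⁻¹ = A * B' + A' * B := by
        rw [hD, mul_add, add_mul, ← conj_mul' g, ← conj_mul' g, hgA, hgB, hgA', hgB']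
      have h2 : (C - 1) * (ρ g * D * ρ g⁻¹) = (C - 1) * D := by
        rw [← mul_assoc, ← mul_assoc, hCpos g hg, (hCD.sub_left (Commute.one_left D)).eq, mul_assoc,
          hCpos g⁻¹ (inv_mem hg)]
      have h3 : (A - A') * (B - B') = D - ρ g * D * ρ g⁻¹ := by
        rw [h1, hD, sub_mul, mul_sub, mul_sub]; abel
      rw [h3, mul_sub, h2, sub_self]
    -- a joint eigenvector
    obtain ⟨α, hα⟩ := Module.End.exists_eigenvalue A
    have hmaps : ∀ x ∈ A.eigenspace α, B x ∈ A.eigenspace α := fun x hx => by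
      rw [Module.End.mem_eigenspace_iff] at hx ⊢
      rw [← Module.End.mul_apply, hcm, Module.End.mul_apply, hx, map_smul]
    haveI : Nontrivial (A.eigenspace α) := Submodule.nontrivial_iff_ne_bot.mpr hα
    obtain ⟨β, hβ⟩ := Module.End.exists_eigenvalue (B.restrict hmaps)
    obtain ⟨⟨v, hv⟩, hvβ, hv0⟩ := hβ.exists_hasEigenvector
    rw [Module.End.mem_eigenspace_iff] at hvβ hv
    have hBv : B v = β • v := congrArg Subtype.val hvβ
    have hv0' : v ≠ 0 := fun h => hv0 (Subtype.ext h)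
    -- shifting
    have hshift : ∀ x : Γ, ρ x * ρ x⁻¹ = 1 := fun x => by rw [← map_mul, mul_inv_cancel, map_one]
    have hexA : ∃ e ∈ E, ∃ s : F, s ≠ 1 ∧ ρ e * A = s • (A * ρ e) := by
      by_contra hc'
      push Not at hc'
      refine hb₀n ?_
      have h1 : IsScal ρ a := hH.cent a haE fun e he => by
        obtain ⟨s, hs⟩ := hH.comm e he a haE
        have h2 : ρ e * A = s • (A * ρ e) := by
          rw [hA, mul_smul_comm, smul_mul_assoc, rho_eq_commutator_mul, hs, smul_one_mul, smul_comm]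
        have hs1 : s = 1 := by by_contra hne; exact hc' e he s hne h2
        show ρ a * ρ e = ρ e * ρ a
        rw [rho_eq_commutator_mul e a, hs, hs1, one_smul, one_mul]
      obtain ⟨k, hk⟩ := h1
      refine ⟨k, ?_⟩
      have h4 : ρ (g * a * g⁻¹) = ρ (g * b₀ * g⁻¹ * b₀) := by
        rw [show g * a * g⁻¹ = g * b₀ * g⁻¹ * (g * (g * b₀ * g⁻¹) * g⁻¹) by
          simp only [a]; group, map_mul, hgg, ← map_mul]
      rw [← h4, hga, hk]
    have hexB : ∃ e ∈ E, ∃ s : F, s ≠ 1 ∧ ρ e * B = s • (B * ρ e) := by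
      by_contra hc'
      push Not at hc'
      refine hb₁n (hH.cent b hbE fun e he => ?_)
      obtain ⟨s, hs⟩ := hH.comm e he b hbE
      have h2 : ρ e * B = s • (B * ρ e) := by
        rw [hB, mul_smul_comm, smul_mul_assoc, rho_eq_commutator_mul, hs, smul_one_mul, smul_comm]
      have hs1 : s = 1 := by by_contra hne; exact hc' e he s hne h2
      show ρ b * ρ e = ρ e * ρ b
      rw [rho_eq_commutator_mul e b, hs, hs1, one_smul, one_mul]
    have hsolo : ∀ e ∈ E, ∀ s t : F, ρ e * A = s • (A * ρ e) → ρ e * B = t • (B * ρ e) →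
        ρ (g * e * g⁻¹) * A = s • (A * ρ (g * e * g⁻¹)) ∧
          t • (ρ (g * e * g⁻¹) * B) = B * ρ (g * e * g⁻¹) := by
      intro e he s t hs ht
      have h1 := congrArg (fun X => ρ g * X * ρ g⁻¹) hs
      have h2 := congrArg (fun X => ρ g * X * ρ g⁻¹) ht
      simp only [mul_smul_comm, smul_mul_assoc] at h1 h2
      rw [← conj_mul' g, ← conj_mul' g, hgA, ← rho_conj] at h1
      rw [← conj_mul' g, ← conj_mul' g, hgB, ← rho_conj] at h2
      refine ⟨h1, ?_⟩
      have h3 := congrArg (fun X => B * X * B) h2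
      simp only [mul_smul_comm, smul_mul_assoc] at h3
      rw [mul_assoc B, mul_assoc _ B' B, hBB, mul_one, ← mul_assoc B B', hBB2, one_mul] at h3
      exact h3.symm
    have hcomb : ∀ x y : Module.End F V, ∀ M : Module.End F V, ∀ p q : F, x * M = p • (M * x) →
        y * M = q • (M * y) → (x * y) * M = (p * q) • (M * (x * y)) := fun x y M p q hx hy => by
      rw [mul_assoc, hy, mul_smul_comm, ← mul_assoc, hx, smul_mul_assoc, smul_smul, mul_assoc,
        mul_comm q p]
    have hpair : ∀ e ∈ E, ∀ s t : F, ρ e * A = s • (A * ρ e) → ρ e * B = t • (B * ρ e) →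
        ρ (e * (g * e * g⁻¹)) * A = (s * s) • (A * ρ (e * (g * e * g⁻¹))) ∧
        ρ (e * (g * e * g⁻¹)) * B = B * ρ (e * (g * e * g⁻¹)) ∧
        ρ (e * (g * e * g⁻¹)⁻¹) * A = A * ρ (e * (g * e * g⁻¹)⁻¹) ∧
        ρ (e * (g * e * g⁻¹)⁻¹) * B = (t * t) • (B * ρ (e * (g * e * g⁻¹)⁻¹)) := by
      intro e he s t hs ht
      obtain ⟨h1, h2⟩ := hsolo e he s t hs ht
      have ht0 : t ≠ 0 := fun h => zero_ne_one (α := Module.End F V) (by
        rw [h, zero_smul] at ht
        calc (0 : Module.End F V) = ρ e⁻¹ * (ρ e * B) * B' := by rw [ht, mul_zero, zero_mul]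
          _ = 1 := by rw [← mul_assoc, ← map_mul, inv_mul_cancel, map_one, one_mul, hBB2])
      have hs0 : s ≠ 0 := fun h => zero_ne_one (α := Module.End F V) (by
        rw [h, zero_smul] at hs
        calc (0 : Module.End F V) = ρ e⁻¹ * (ρ e * A) * A' := by rw [hs, mul_zero, zero_mul]
          _ = 1 := by rw [← mul_assoc, ← map_mul, inv_mul_cancel, map_one, one_mul, hAA2])
      set e' := g * e * g⁻¹
      have h2' : ρ e' * B = t⁻¹ • (B * ρ e') := by
        rw [← h2, smul_smul, inv_mul_cancel₀ ht0, one_smul]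
      have hinv : ∀ M : Module.End F V, ∀ p : F, p ≠ 0 → ρ e' * M = p • (M * ρ e') →
          ρ e'⁻¹ * M = p⁻¹ • (M * ρ e'⁻¹) := fun M p hp h => by
        have h4 := congrArg (fun X => ρ e'⁻¹ * X * ρ e'⁻¹) h
        simp only [mul_smul_comm, smul_mul_assoc] at h4
        rw [← mul_assoc (ρ e'⁻¹) (ρ e'), ← map_mul, inv_mul_cancel, map_one, one_mul,
          mul_assoc (ρ e'⁻¹), mul_assoc M, hshift e', mul_one] at h4
        rw [h4, smul_smul, inv_mul_cancel₀ hp, one_smul]
      refine ⟨?_, ?_, ?_, ?_⟩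
      · rw [map_mul]; exact hcomb _ _ A s s hs h1
      · have h5 := hcomb _ _ B t t⁻¹ ht h2'
        rw [mul_inv_cancel₀ ht0, one_smul, ← map_mul] at h5
        exact h5
      · have h5 := hcomb _ _ A s s⁻¹ hs (hinv A s hs0 h1)
        rw [mul_inv_cancel₀ hs0, one_smul, ← map_mul] at h5
        exact h5
      · have h5 := hcomb _ _ B t t⁻¹⁻¹ ht (hinv B t⁻¹ (inv_ne_zero ht0) h2')
        rw [inv_inv, ← map_mul] at h5
        exact h5
    have hgetB : ∀ e ∈ E, ∃ t : F, ρ e * B = t • (B * ρ e) := fun e he => by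
      obtain ⟨s, hs⟩ := hH.comm e he b hbE
      exact ⟨s, by rw [hB, mul_smul_comm, smul_mul_assoc, rho_eq_commutator_mul, hs, smul_one_mul, smul_comm]⟩
    have hgetA : ∀ e ∈ E, ∃ t : F, ρ e * A = t • (A * ρ e) := fun e he => by
      obtain ⟨s, hs⟩ := hH.comm e he a haE
      exact ⟨s, by rw [hA, mul_smul_comm, smul_mul_assoc, rho_eq_commutator_mul, hs, smul_one_mul, smul_comm]⟩
    have hsq1 : ∀ s : F, s * s = 1 → s = 1 := fun s h =>
      eq_one_of_pow_two_pow (m := 1) (by rw [pow_one, pow_two, h])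
    obtain ⟨ea, hea, sA, hsA, heA⟩ := hexA
    obtain ⟨tA, htA⟩ := hgetB ea hea
    obtain ⟨eb, heb, sB, hsB, heB⟩ := hexB
    obtain ⟨tB, htB⟩ := hgetA eb heb
    obtain ⟨hxA, hxB, -, -⟩ := hpair ea hea sA tA heA htA
    obtain ⟨-, -, hyA, hyB⟩ := hpair eb heb tB sB htB heB
    set X := ρ (ea * (g * ea * g⁻¹))
    set Y := ρ (eb * (g * eb * g⁻¹)⁻¹)
    have hne : ∀ (x : Γ) (u : V), u ≠ 0 → ρ x u ≠ 0 := fun x u hu h0 =>
      hu (by rw [← rho_inv_rho (ρ := ρ) x u, h0, map_zero])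
    obtain ⟨α', v₁, hv₁, hα', hA₁, hB₁⟩ :
        ∃ (α' : F) (u : V), u ≠ 0 ∧ α' ≠ 1 ∧ A u = α' • u ∧ B u = β • u := by
      by_cases hα1 : α = 1
      · have h1 : (sA * sA) • A (X v) = X v := by
          have h2 := LinearMap.congr_fun hxA v
          simp only [Module.End.mul_apply, LinearMap.smul_apply] at h2
          rw [hv, hα1, one_smul] at h2
          exact h2.symm
        have hs0 : sA * sA ≠ 0 := fun h0 => by
          rw [h0, zero_smul] at h1; exact hne _ v hv0' h1.symm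
        refine ⟨(sA * sA)⁻¹, X v, hne _ v hv0', fun h => hsA (hsq1 _ (inv_eq_one.mp h)), ?_, ?_⟩
        · conv_rhs => rw [← h1, smul_smul, inv_mul_cancel₀ hs0, one_smul]
        · have h2 := LinearMap.congr_fun hxB v
          simp only [Module.End.mul_apply] at h2
          rw [← h2, hBv, map_smul]
      · exact ⟨α, v, hv0', hα1, hv, hBv⟩
    obtain ⟨β', v₂, hv₂, hβ', hA₂, hB₂⟩ :
        ∃ (β' : F) (u : V), u ≠ 0 ∧ β' ≠ 1 ∧ A u = α' • u ∧ B u = β' • u := by
      by_cases hβ1 : β = 1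
      · have h1 : (sB * sB) • B (Y v₁) = Y v₁ := by
          have h2 := LinearMap.congr_fun hyB v₁
          simp only [Module.End.mul_apply, LinearMap.smul_apply] at h2
          rw [hB₁, hβ1, one_smul] at h2
          exact h2.symm
        have hs0 : sB * sB ≠ 0 := fun h0 => by
          rw [h0, zero_smul] at h1; exact hne _ v₁ hv₁ h1.symm
        refine ⟨(sB * sB)⁻¹, Y v₁, hne _ v₁ hv₁, fun h => hsB (hsq1 _ (inv_eq_one.mp h)), ?_, ?_⟩
        · have h2 := LinearMap.congr_fun hyA v₁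
          simp only [Module.End.mul_apply] at h2
          rw [← h2, hA₁, map_smul]
        · conv_rhs => rw [← h1, smul_smul, inv_mul_cancel₀ hs0, one_smul]
      · exact ⟨β, v₁, hv₁, hβ1, hA₁, hB₁⟩
    -- contradiction
    have hinvv : ∀ (M M' : Module.End F V) (μ : F), M' * M = 1 → M v₂ = μ • v₂ →
        μ ≠ 0 ∧ M' v₂ = μ⁻¹ • v₂ := fun M M' μ h hM => by
      have h1 := LinearMap.congr_fun h v₂
      rw [Module.End.mul_apply, hM, map_smul, Module.End.one_apply] at h1
      have hμ : μ ≠ 0 := fun h0 => hv₂ (by rw [← h1, h0, zero_smul])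
      exact ⟨hμ, by conv_rhs => rw [← h1, smul_smul, inv_mul_cancel₀ hμ, one_smul]⟩
    obtain ⟨hα0, hA'v⟩ := hinvv A A' α' hAA hA₂
    obtain ⟨hβ0, hB'v⟩ := hinvv B B' β' hBB hB₂
    have hdiff : ∀ μ : F, μ ≠ 0 → μ ≠ 1 → μ - μ⁻¹ ≠ 0 := fun μ h0 h1 h => h1 (hsq1 μ (by
      rw [sub_eq_zero] at h
      nth_rewrite 2 [h]
      rw [mul_inv_cancel₀ h0]))
    have hCv : C v₂ = v₂ := by
      have h1 := LinearMap.congr_fun hkey v₂
      simp only [Module.End.mul_apply, LinearMap.sub_apply, Module.End.one_apply,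
        LinearMap.zero_apply, hB₂, hB'v, ← sub_smul, map_smul, hA₂, hA'v, smul_smul] at h1
      exact sub_eq_zero.mp ((smul_eq_zero.mp h1).resolve_left
        (mul_ne_zero (hdiff β' hβ0 hβ') (hdiff α' hα0 hα')))
    have h1 : A' v₂ = α' • v₂ := by
      rw [← hCA, Module.End.mul_apply, Module.End.mul_apply, hCv, hA₂, map_smul, hCv]
    rw [hA'v] at h1
    exact hdiff α' hα0 hα' (sub_eq_zero.mpr (smul_left_injective F hv₂ h1).symm)
  -- conclusions
  have hcen : ∀ x y : Γ, x ∈ G → y ∈ G → ρ x = ρ y → x⁻¹ * y ∈ Cen ρ E := fun x y _ _ h e _ => by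
    rw [map_mul, ← h, ← map_mul ρ x⁻¹, inv_mul_cancel, map_one]
    exact Commute.one_left _
  have hcase : ∀ a ∈ ser G 1, a ∉ Cen ρ E → ρ a = C := fun a ha haC =>
    (huniq a (ser_le_self G 1 ha) (hsq a ha)).resolve_left fun h => haC fun e _ => by
      rw [h]; exact Commute.one_left _
  refine ⟨fun w' hw' hw'C => hcen _ _ (ser_le_self G 1 hw') (ser_le_self G 1 hw)
    ((hcase w' hw' hw'C).trans (hcase w hw hwC).symm), fun x hx y hy hxy => ?_⟩
  have hxy1 : ⁅x, y⁆ ∈ ser G 1 := commutator_mem_ser (G := G) (i := 0) hx hy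
  have hρxy := hcase _ hxy1 hxy
  set cP := u.rangeRestrict c
  have hsqP := sq_eq_of_unique hPp (c := cP)
    (x := u.rangeRestrict ⟨x, hx⟩) (y := u.rangeRestrict ⟨y, hy⟩) (fun q hq => by
      obtain ⟨q', rfl⟩ := u.rangeRestrict_surjective q
      rw [← map_mul, ← map_one u.rangeRestrict, heq] at hq
      rw [← map_one u.rangeRestrict, heq, heq]
      rcases huniq q' q'.2 (by simpa using hq) with h | h
      · exact Or.inl (by simpa using h)
      · exact Or.inr h)
    (by rw [← map_mul, ← map_one u.rangeRestrict, heq]; simpa using hsq _ hcs)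
    (fun q => by
      obtain ⟨q', rfl⟩ := u.rangeRestrict_surjective q
      show cP * u.rangeRestrict q' = u.rangeRestrict q' * cP
      rw [← map_mul, ← map_mul, heq, Subgroup.coe_mul, Subgroup.coe_mul, map_mul, map_mul]
      exact (hCG q' q'.2).eq)
    (fun h => hC1 (by
      rw [← map_one u.rangeRestrict, heq] at h
      simpa using h))
    (by rw [← map_commutatorElement, heq]; exact hρxy)
  rw [← map_mul, heq] at hsqP
  intro e _
  rw [map_mul, hρxy, show C = ρ (x * x) from hsqP.symm, ← map_mul, mul_inv_cancel, map_one]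
  exact Commute.one_left _

end Two

end Cfsg.Agent.TwoLength
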