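/-
A minimal permuted block of a Heisenberg-type group under a 2-group (helper83).

Main results (namespace `Cfsg.Agent.TwoLength`):
* Block, exists_block
* the automiser of a minimal block: `block_inv_of_central`, `block_isCyclic`, `block_ser_two`,
  `block_exists_sqrt`
-/
import Cfsg.Agent.Lib.TwoLength.LocalTwo
import Cfsg.Agent.Lib.PGroup.CyclicNormalAbelian

set_option autoImplicit false
set_option linter.style.haveILetI false
set_option linter.unusedSectionVars false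

open scoped commutatorElement

namespace Cfsg.Agent.TwoLength

variable {Γ : Type*} [Group Γ] [Finite Γ] {F : Type*} [Field F] [CharP F 2]
  {V : Type*} [AddCommGroup V] [Module F V] {ρ : Γ →* Module.End F V} {E G : Subgroup Γ}

/-- The elements inverting `E` modulo scalars. -/
def Inverts (ρ : Γ →* Module.End F V) (E : Subgroup Γ) (g : Γ) : Prop :=
  ∀ e ∈ E, IsScal ρ (g * e * g⁻¹ * e)

/-- The join of the translates of `A`. -/
def joinConj (G A : Subgroup Γ) : Subgroup Γ :=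
  Subgroup.closure {y | ∃ g ∈ G, ∃ e ∈ A, g * e * g⁻¹ = y}

theorem conj_mem_joinConj {A : Subgroup Γ} {g e : Γ} (hg : g ∈ G) (he : e ∈ A) :
    g * e * g⁻¹ ∈ joinConj G A := Subgroup.subset_closure ⟨g, hg, e, he, rfl⟩

theorem le_joinConj (A : Subgroup Γ) : A ≤ joinConj G A := fun e he => by
  simpa using conj_mem_joinConj (one_mem G) he

theorem joinConj_mono {A B : Subgroup Γ} (h : A ≤ B) : joinConj G A ≤ joinConj G B :=
  Subgroup.closure_mono fun _ ⟨g, hg, e, he, hy⟩ => ⟨g, hg, e, h he, hy⟩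

theorem joinConj_normalised {A : Subgroup Γ} : ∀ g ∈ G, ∀ e ∈ joinConj G A,
    g * e * g⁻¹ ∈ joinConj G A := by
  intro g hg e he
  induction he using Subgroup.closure_induction with
  | mem x hx =>
    obtain ⟨h, hh, a, ha, rfl⟩ := hx
    rw [show g * (h * a * h⁻¹) * g⁻¹ = g * h * a * (g * h)⁻¹ by group]
    exact conj_mem_joinConj (mul_mem hg hh) ha
  | one => simp
  | mul x y _ _ hx hy => rw [conj_mul.symm]; exact mul_mem hx hy
  | inv x _ hx => rw [conj_inv.symm]; exact inv_mem hx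

theorem commute_of_joinConj {A : Subgroup Γ} {X : Module.End F V}
    (h : ∀ g ∈ G, ∀ e ∈ A, Commute X (ρ (g * e * g⁻¹))) :
    ∀ y ∈ joinConj G A, Commute X (ρ y) := by
  intro y hy
  induction hy using Subgroup.closure_induction with
  | mem x hx => obtain ⟨g, hg, e, he, rfl⟩ := hx; exact h g hg e he
  | one => rw [map_one]; exact Commute.one_right X
  | mul x y _ _ hx hy => rw [map_mul]; exact hx.mul_right hy
  | inv x _ hx => exact commute_inv hx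

omit [Finite Γ] [CharP F 2] in
theorem commute_conj {a b : Γ} (g : Γ) (h : Commute (ρ a) (ρ b)) :
    Commute (ρ (g * a * g⁻¹)) (ρ (g * b * g⁻¹)) := by
  show _ * _ = _ * _
  rw [rho_conj, rho_conj, conj_mul' g, conj_mul' g, h.eq]

theorem commute_of_sq {E : Subgroup Γ} (hE : Odd (Nat.card E)) {f : Γ} (hf : f ∈ E)
    {X : Module.End F V} (hX : Commute X (ρ (f * f))) : Commute X (ρ f) := by
  obtain ⟨r, hr⟩ := hE
  have h1 : f ^ Nat.card E = 1 :=
    orderOf_dvd_iff_pow_eq_one.mp (Subgroup.orderOf_dvd_natCard E hf)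
  have hj : (f * f) ^ (r + 1) = f := by
    rw [← pow_two, ← pow_mul, show 2 * (r + 1) = Nat.card E + 1 by omega, pow_succ, h1, one_mul]
  rw [← hj, map_pow]
  exact hX.pow_right _

/-- A block candidate. -/
structure Cand (ρ : Γ →* Module.End F V) (E G : Subgroup Γ) (W : Subgroup Γ) (A : Subgroup Γ) :
    Prop where
  le : A ≤ E
  block : ∀ g ∈ G, (∀ e ∈ A, g * e * g⁻¹ ∈ A) ∨
    ∀ e ∈ A, ∀ f ∈ A, Commute (ρ (g * e * g⁻¹)) (ρ f)
  heis : Heis ρ (joinConj G A)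
  moved : ∃ w ∈ W, w ∉ Cen ρ (joinConj G A)

/-- A minimal block: it cannot be split by an involution. -/
structure Block (ρ : Γ →* Module.End F V) (J G A : Subgroup Γ) : Prop where
  le : A ≤ J
  norm : ∀ g ∈ G, ∀ e ∈ J, g * e * g⁻¹ ∈ J
  block : ∀ g ∈ G, (∀ e ∈ A, g * e * g⁻¹ ∈ A) ∨
    ∀ e ∈ A, ∀ f ∈ A, Commute (ρ (g * e * g⁻¹)) (ρ f)
  gen : J ≤ joinConj G A
  odd : Odd (Nat.card A)
  noSplit : ∀ d ∈ G, (∀ e ∈ A, d * e * d⁻¹ ∈ A) → d * d ∈ Cen ρ A →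
    (∀ h ∈ G, (∀ e ∈ A, h * e * h⁻¹ ∈ A) →
      d⁻¹ * (h * d * h⁻¹) ∈ Cen ρ A ∨ Inverts ρ A (d⁻¹ * (h * d * h⁻¹))) →
    d ∈ Cen ρ A ∨ Inverts ρ A d

theorem Block.commute {J A : Subgroup Γ} (hB : Block ρ J G A) (X : Module.End F V)
    (h : ∀ g ∈ G, ∀ e ∈ A, Commute X (ρ (g * e * g⁻¹))) : ∀ y ∈ J, Commute X (ρ y) :=
  fun y hy => commute_of_joinConj h y (hB.gen hy)

theorem norm_inv {A : Subgroup Γ} {g : Γ} (h : ∀ e ∈ A, g * e * g⁻¹ ∈ A) {e : Γ} (he : e ∈ A) :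
    g⁻¹ * e * g⁻¹⁻¹ ∈ A := by
  have hn : g ∈ Subgroup.normalizer (A : Set Γ) := Coprime.mem_normalizer_of_forall h
  exact (Subgroup.mem_normalizer_iff.mp (inv_mem hn) e).mp he

/-- Two commuting permuted halves contradict minimality. -/
theorem false_of_halves {W A A₁ A₂ : Subgroup Γ} (hc : Cand ρ E G W A)
    (hmin : ∀ B, Cand ρ E G W B → Nat.card A ≤ Nat.card B) (hodd : Odd (Nat.card E))
    (h1 : A₁ < A) (h2 : A₂ < A)
    (hcomm : ∀ a ∈ A₁, ∀ b ∈ A₂, Commute (ρ a) (ρ b))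
    (hperm1 : ∀ h ∈ G, (∀ e ∈ A, h * e * h⁻¹ ∈ A) →
      (∀ e ∈ A₁, h * e * h⁻¹ ∈ A₁) ∨ ∀ e ∈ A₁, h * e * h⁻¹ ∈ A₂)
    (hperm2 : ∀ h ∈ G, (∀ e ∈ A, h * e * h⁻¹ ∈ A) →
      (∀ e ∈ A₂, h * e * h⁻¹ ∈ A₂) ∨ ∀ e ∈ A₂, h * e * h⁻¹ ∈ A₁)
    (hgen : ∀ x ∈ A, ∃ a ∈ A₁, ∃ b ∈ A₂, x * x = a * b) : False := by
  have hall : ∀ X : Module.End F V, (∀ g ∈ G, ∀ a ∈ A₁, Commute X (ρ (g * a * g⁻¹))) →
      (∀ g ∈ G, ∀ b ∈ A₂, Commute X (ρ (g * b * g⁻¹))) →
      ∀ y ∈ joinConj G A, Commute X (ρ y) := by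
    intro X hX1 hX2
    refine commute_of_joinConj fun g hg x hx => ?_
    obtain ⟨a, ha, b, hb, hab⟩ := hgen x hx
    have hE : ∀ z ∈ joinConj G A, z ∈ joinConj G A := fun z hz => hz
    have h3 : Commute X (ρ (g * (x * x) * g⁻¹)) := by
      rw [hab, ← conj_mul, map_mul]
      exact (hX1 g hg a ha).mul_right (hX2 g hg b hb)
    obtain ⟨r, hr⟩ := hodd
    have h4 : x ^ Nat.card E = 1 :=
      orderOf_dvd_iff_pow_eq_one.mp (Subgroup.orderOf_dvd_natCard E (hc.le hx))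
    have hj : (g * (x * x) * g⁻¹) ^ (r + 1) = g * x * g⁻¹ := by
      rw [conj_pow, ← pow_two, ← pow_mul, show 2 * (r + 1) = Nat.card E + 1 by omega, pow_succ, h4,
        one_mul]
    rw [← hj, map_pow]
    exact h3.pow_right _
  have half : ∀ B₁ B₂ : Subgroup Γ, B₁ < A → B₂ ≤ A →
      (∀ a ∈ B₁, ∀ b ∈ B₂, Commute (ρ a) (ρ b)) →
      (∀ h ∈ G, (∀ e ∈ A, h * e * h⁻¹ ∈ A) →
        (∀ e ∈ B₁, h * e * h⁻¹ ∈ B₁) ∨ ∀ e ∈ B₁, h * e * h⁻¹ ∈ B₂) →
      (∀ h ∈ G, (∀ e ∈ A, h * e * h⁻¹ ∈ A) →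
        (∀ e ∈ B₂, h * e * h⁻¹ ∈ B₂) ∨ ∀ e ∈ B₂, h * e * h⁻¹ ∈ B₁) →
      (∀ X : Module.End F V, (∀ g ∈ G, ∀ a ∈ B₁, Commute X (ρ (g * a * g⁻¹))) →
        (∀ g ∈ G, ∀ b ∈ B₂, Commute X (ρ (g * b * g⁻¹))) →
        ∀ y ∈ joinConj G A, Commute X (ρ y)) →
      (∃ w ∈ W, w ∉ Cen ρ (joinConj G B₁)) → False := by
    intro B₁ B₂ hlt hle hcm hp1 hp2 hgen' hmv
    have hcard : Nat.card B₁ < Nat.card A := Set.Finite.card_lt_card (Set.toFinite _) hlt
    refine absurd (hmin B₁ ⟨hlt.le.trans hc.le, fun g hg => ?_, ⟨fun a ha b hb => ?_,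
      fun z hz hzc => ?_⟩, hmv⟩) (by omega)
    · rcases hc.block g hg with h | h
      · rcases hp1 g hg h with h' | h'
        · exact Or.inl h'
        · exact Or.inr fun e he f hf => (hcm f hf _ (h' e he)).symm
      · exact Or.inr fun e he f hf => h e (hlt.le he) f (hlt.le hf)
    · exact hc.heis.comm a (joinConj_mono hlt.le ha) b (joinConj_mono hlt.le hb)
    · refine hc.heis.cent z (joinConj_mono hlt.le hz) fun y hy => ?_
      refine hgen' (ρ z) (fun g hg a ha => hzc _ (conj_mem_joinConj hg ha))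
        (fun g hg b hb => ?_) y hy
      by_cases hb' : g * b * g⁻¹ ∈ joinConj G B₁
      · exact hzc _ hb'
      refine (commute_of_joinConj (X := ρ (g * b * g⁻¹)) (fun h hh e he => ?_) z hz).symm
      set u := h⁻¹ * g with hu
      have huG : u ∈ G := mul_mem (inv_mem hh) hg
      have hkey : Commute (ρ (u * b * u⁻¹)) (ρ e) := by
        rcases hc.block u huG with h' | h'
        · rcases hp2 u huG h' with h'' | h''
          · exact (hcm e he _ (h'' b hb)).symm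
          · exfalso
            refine hb' ?_
            rw [show g * b * g⁻¹ = h * (u * b * u⁻¹) * h⁻¹ by rw [hu]; group]
            exact conj_mem_joinConj hh (h'' b hb)
        · exact h' b (hle hb) e (hlt.le he)
      rw [show g * b * g⁻¹ = h * (u * b * u⁻¹) * h⁻¹ by rw [hu]; group]
      exact commute_conj h hkey
  obtain ⟨w, hw, hwc⟩ := hc.moved
  by_cases hw1 : w ∈ Cen ρ (joinConj G A₁)
  · refine half A₂ A₁ h2 h1.le (fun a ha b hb => (hcomm b hb a ha).symm) hperm2 hperm1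
      (fun X p q => hall X q p) ⟨w, hw, fun hw2 => hwc (hall (ρ w)
        (fun g hg a ha => hw1 _ (conj_mem_joinConj hg ha))
        (fun g hg b hb => hw2 _ (conj_mem_joinConj hg hb)))⟩
  · exact half A₁ A₂ h1 h2.le hcomm hperm1 hperm2 hall ⟨w, hw, hw1⟩

theorem isScal_iff {g e : Γ} : IsScal ρ (g * e) ↔ ∃ s : F, ρ g = s • ρ e⁻¹ := by
  constructor
  · rintro ⟨s, hs⟩
    refine ⟨s, ?_⟩
    rw [← smul_one_mul s (ρ e⁻¹), ← hs, ← map_mul, mul_inv_cancel_right]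
  · rintro ⟨s, hs⟩
    exact ⟨s, by rw [map_mul, hs, smul_mul_assoc, ← map_mul, inv_mul_cancel, map_one]⟩

theorem rho_inv_of_smul [Nontrivial V] {x y : Γ} {s : F} (h : ρ x = s • ρ y) :
    s ≠ 0 ∧ ρ x⁻¹ = s⁻¹ • ρ y⁻¹ := by
  have h1 : (1 : Module.End F V) = s • (ρ x⁻¹ * ρ y) := by
    rw [← mul_smul_comm, ← h, ← map_mul, inv_mul_cancel, map_one]
  have hs : s ≠ 0 := fun h0 => zero_ne_one (α := Module.End F V) (by rw [h1, h0, zero_smul])
  refine ⟨hs, ?_⟩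
  calc ρ x⁻¹ = (s⁻¹ * s) • (ρ x⁻¹ * (ρ y * ρ y⁻¹)) := by
        rw [inv_mul_cancel₀ hs, one_smul, ← map_mul ρ y, mul_inv_cancel, map_one, mul_one]
    _ = s⁻¹ • ρ y⁻¹ := by rw [← smul_smul, ← mul_assoc, ← smul_mul_assoc s, ← h1, one_mul]

/-- Existence of a minimal block moved by `W`. -/
theorem exists_block [Nontrivial V] (hE : Odd (Nat.card E))
    (hnorm : ∀ g ∈ G, ∀ e ∈ E, g * e * g⁻¹ ∈ E) (hG : IsPGroup 2 G) (hH : Heis ρ E)
    {W : Subgroup Γ} {w : Γ} (hw : w ∈ W) (hwC : w ∉ Cen ρ E) :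
    ∃ J A : Subgroup Γ, J ≤ E ∧ Heis ρ J ∧ Block ρ J G A ∧ ∃ w ∈ W, w ∉ Cen ρ J := by
  classical
  have hEc : Cand ρ E G W E := by
    have hJ : joinConj G E = E :=
      le_antisymm ((Subgroup.closure_le _).mpr fun y ⟨g, hg, e, he, hy⟩ => hy ▸ hnorm g hg e he)
        (le_joinConj E)
    exact ⟨le_rfl, fun g hg => Or.inl (hnorm g hg), by rw [hJ]; exact hH,
      ⟨w, hw, by rw [hJ]; exact hwC⟩⟩
  obtain ⟨A, hA, hmin⟩ := Set.exists_min_image {B | Cand ρ E G W B} (fun B => Nat.card B)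
    (Set.toFinite _) ⟨E, hEc⟩
  have hA' : Cand ρ E G W A := hA
  refine ⟨joinConj G A, A, (Subgroup.closure_le _).mpr
    (fun y ⟨g, hg, e, he, hy⟩ => hy ▸ hnorm g hg e (hA'.le he)), hA'.heis,
    ⟨le_joinConj A, joinConj_normalised, hA'.block, le_rfl,
      hE.of_dvd_nat (Subgroup.card_dvd_of_le hA'.le), ?_⟩, hA'.moved⟩
  intro d hdG hdA hd2 hconj
  by_contra hcon
  push Not at hcon
  obtain ⟨m, hm⟩ := exists_pow_eq_one hG hdG
  have hAH : ∀ a ∈ A, ∀ b ∈ A, IsScal ρ ⁅a, b⁆ := fun a ha b hb =>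
    hA'.heis.comm a (le_joinConj A ha) b (le_joinConj A hb)
  have hdd : ∀ e ∈ A, ρ (d * (d * e * d⁻¹) * d⁻¹) = ρ e := fun e he => by
    rw [show d * (d * e * d⁻¹) * d⁻¹ = d * d * e * (d * d)⁻¹ by group]
    exact (commute_iff_conj _ _).mp (hd2 e he)
  let Ap : Subgroup Γ :=
    { carrier := {e | e ∈ A ∧ ρ (d * e * d⁻¹) = ρ e}
      one_mem' := ⟨one_mem A, by simp⟩
      mul_mem' := fun {a b} ha hb => ⟨mul_mem ha.1 hb.1, by
        rw [← conj_mul, map_mul, ha.2, hb.2, map_mul]⟩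
      inv_mem' := fun {a} ha => ⟨inv_mem ha.1, by
        have h := rho_inv_of_smul (ρ := ρ) (x := d * a * d⁻¹) (y := a) (s := 1) (by
          rw [one_smul]; exact ha.2)
        rw [show d * a⁻¹ * d⁻¹ = (d * a * d⁻¹)⁻¹ by group, h.2, inv_one, one_smul]⟩ }
  let Am : Subgroup Γ :=
    { carrier := {e | e ∈ A ∧ ∃ s : F, ρ (d * e * d⁻¹) = s • ρ e⁻¹}
      one_mem' := ⟨one_mem A, 1, by simp⟩
      mul_mem' := fun {a b} ha hb => by
        obtain ⟨s, hs⟩ := ha.2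
        obtain ⟨t, ht⟩ := hb.2
        obtain ⟨r, hr⟩ := hAH a⁻¹ (inv_mem ha.1) b⁻¹ (inv_mem hb.1)
        refine ⟨mul_mem ha.1 hb.1, s * t * r, ?_⟩
        rw [← conj_mul, map_mul, hs, ht, smul_mul_smul_comm, rho_eq_commutator_mul, hr,
          smul_one_mul, smul_smul, mul_inv_rev, map_mul]
      inv_mem' := fun {a} ha => by
        obtain ⟨s, hs⟩ := ha.2
        refine ⟨inv_mem ha.1, s⁻¹, ?_⟩
        have h := rho_inv_of_smul (ρ := ρ) (x := d * a * d⁻¹) (y := a⁻¹) hs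
        rw [show d * a⁻¹ * d⁻¹ = (d * a * d⁻¹)⁻¹ by group, h.2] }
  have hpmem : ∀ e, e ∈ Ap ↔ e ∈ A ∧ ρ (d * e * d⁻¹) = ρ e := fun e => Iff.rfl
  have hmmem : ∀ e, e ∈ Am ↔ e ∈ A ∧ ∃ s : F, ρ (d * e * d⁻¹) = s • ρ e⁻¹ := fun e => Iff.rfl
  have hp_lt : Ap < A := lt_of_le_of_ne (fun e he => he.1) fun h => hcon.1 fun e he =>
    (commute_iff_conj _ _).mpr ((hpmem e).mp (h.ge he)).2
  have hm_lt : Am < A := lt_of_le_of_ne (fun e he => he.1) fun h => hcon.2 fun e he =>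
    isScal_iff.mpr ((hmmem e).mp (h.ge he)).2
  -- how the stabiliser permutes the halves
  have key : ∀ h ∈ G, (∀ e ∈ A, h * e * h⁻¹ ∈ A) → ∀ e ∈ A,
      ρ (d * (h * e * h⁻¹) * d⁻¹) =
        ρ h * ρ (d * (d⁻¹ * (h⁻¹ * d * h) * e * (d⁻¹ * (h⁻¹ * d * h))⁻¹) * d⁻¹) * ρ h⁻¹ :=
    fun h _ _ e _ => by
      rw [← rho_conj]
      congr 1
      group
  have hswap : ∀ h ∈ G, (∀ e ∈ A, h * e * h⁻¹ ∈ A) →
      ((∀ e ∈ Ap, h * e * h⁻¹ ∈ Ap) ∧ (∀ e ∈ Am, h * e * h⁻¹ ∈ Am)) ∨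
        ((∀ e ∈ Ap, h * e * h⁻¹ ∈ Am) ∧ (∀ e ∈ Am, h * e * h⁻¹ ∈ Ap)) := by
    intro h hh hhA
    have hh' : ∀ e ∈ A, h⁻¹ * e * h⁻¹⁻¹ ∈ A := fun e he => norm_inv hhA he
    set z := d⁻¹ * (h⁻¹ * d * h) with hz
    have hzG : z ∈ G := mul_mem (inv_mem hdG) (mul_mem (mul_mem (inv_mem hh) hdG) hh)
    obtain ⟨mz, hmz⟩ := exists_pow_eq_one hG hzG
    obtain ⟨mh, hmh⟩ := exists_pow_eq_one hG hh
    have hzA : ∀ e ∈ A, z * e * z⁻¹ ∈ A := fun e he => by
      have h1 := norm_inv hdA (hh' _ (hdA _ (hhA e he)))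
      rw [hz]
      convert h1 using 1
      group
    rcases (show z ∈ Cen ρ A ∨ Inverts ρ A z by
      have h1 := hconj h⁻¹ (inv_mem hh) hh'
      rwa [inv_inv, ← hz] at h1) with hzc | hzi
    · refine Or.inl ⟨fun e he => ⟨hhA e he.1, ?_⟩, fun e he => ⟨hhA e he.1, ?_⟩⟩
      · rw [key h hh hhA e he.1, ← hz, rho_conj d, (commute_iff_conj _ _).mp (hzc e he.1),
          ← rho_conj d, he.2, ← rho_conj]
      · obtain ⟨s, hs⟩ := he.2
        refine ⟨s, ?_⟩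
        rw [key h hh hhA e he.1, ← hz, rho_conj d, (commute_iff_conj _ _).mp (hzc e he.1),
          ← rho_conj d, hs, mul_smul_comm, smul_mul_assoc, ← rho_conj]
        congr 2
        group
    · refine Or.inr ⟨fun e he => ⟨hhA e he.1, ?_⟩, fun e he => ⟨hhA e he.1, ?_⟩⟩
      · obtain ⟨s, hs⟩ := isScal_iff.mp (hzi e he.1)
        refine ⟨s, ?_⟩
        rw [key h hh hhA e he.1, ← hz, rho_conj d, hs, mul_smul_comm, smul_mul_assoc, ← rho_conj d,
          show d * e⁻¹ * d⁻¹ = (d * e * d⁻¹)⁻¹ by group,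
          (rho_inv_of_smul (ρ := ρ) (x := d * e * d⁻¹) (y := e) (s := 1)
            (by rw [one_smul]; exact he.2)).2, inv_one, one_smul, mul_smul_comm, smul_mul_assoc,
          ← rho_conj]
        congr 2
        group
      · obtain ⟨t, ht⟩ := he.2
        obtain ⟨s, hs⟩ := isScal_iff.mp (hzi e he.1)
        have h1 : ρ (d * (h * e * h⁻¹) * d⁻¹) = (s * t⁻¹) • ρ (h * e * h⁻¹) := by
          rw [key h hh hhA e he.1, ← hz, rho_conj d, hs, mul_smul_comm, smul_mul_assoc, ← rho_conj d,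
            show d * e⁻¹ * d⁻¹ = (d * e * d⁻¹)⁻¹ by group,
            (rho_inv_of_smul ht).2, inv_inv, smul_smul, mul_smul_comm, smul_mul_assoc, ← rho_conj]
        rw [h1, eq_one_of_conj_smul hm h1, one_smul]
  refine false_of_halves hA' (fun B hB => hmin B hB) hE hp_lt hm_lt (fun a ha b hb => ?_)
    (fun h hh hhA => (hswap h hh hhA).imp And.left And.left)
    (fun h hh hhA => (hswap h hh hhA).imp And.right And.right) (fun x hx => ?_)
  · obtain ⟨r, hr⟩ := hAH a ha.1 b hb.1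
    obtain ⟨s, hs⟩ := hb.2
    have h1 : ρ a * ρ b = r • (ρ b * ρ a) := by rw [rho_eq_commutator_mul, hr, smul_one_mul]
    have h2 : ρ a * ρ b⁻¹ = r • (ρ b⁻¹ * ρ a) := by
      have hs0 := (rho_inv_of_smul hs).1
      have h3 := congrArg (fun X => ρ d * X * ρ d⁻¹) h1
      simp only [mul_smul_comm, smul_mul_assoc] at h3
      rw [← conj_mul' d, ← conj_mul' d, ← rho_conj, ← rho_conj, ha.2, hs] at h3
      simp only [mul_smul_comm, smul_mul_assoc, smul_comm r s] at h3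
      exact smul_right_injective _ hs0 h3
    have h4 : (1 : F) • ρ a = (r * r) • ρ a := by
      rw [one_smul]
      calc ρ a = ρ a * ρ b * ρ b⁻¹ := by rw [mul_assoc, ← map_mul, mul_inv_cancel, map_one, mul_one]
        _ = r • (ρ b * (ρ a * ρ b⁻¹)) := by rw [h1, smul_mul_assoc, mul_assoc]
        _ = (r * r) • ρ a := by
            rw [h2, mul_smul_comm, smul_smul, ← mul_assoc, ← map_mul ρ b, mul_inv_cancel, map_one,
              one_mul]
    have hr1 : r = 1 := eq_one_of_pow_two_pow (m := 1) (by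
      rw [pow_one, pow_two, ← smul_rho_inj (ρ := ρ) h4])
    rw [hr1, one_smul] at h1
    exact h1
  · set y := d * x * d⁻¹ with hy
    have hyA : y ∈ A := hdA x hx
    refine ⟨x * y, ⟨mul_mem hx hyA, ?_⟩, y⁻¹ * x, ⟨mul_mem (inv_mem hyA) hx, ?_⟩, by group⟩
    · obtain ⟨r, hr⟩ := hAH y hyA x hx
      have h1 : ρ (d * (x * y) * d⁻¹) = r • ρ (x * y) := by
        calc ρ (d * (x * y) * d⁻¹) = ρ (y * (d * (d * x * d⁻¹) * d⁻¹)) := by
              congr 1; rw [hy]; group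
          _ = ρ ⁅y, x⁆ * (ρ x * ρ y) := by rw [map_mul ρ y, hdd x hx, rho_eq_commutator_mul]
          _ = r • ρ (x * y) := by rw [hr, smul_one_mul, ← map_mul ρ x y]
      rw [h1, eq_one_of_conj_smul hm h1, one_smul]
    · refine ⟨1, ?_⟩
      rw [one_smul]
      calc ρ (d * (y⁻¹ * x) * d⁻¹) = ρ ((d * (d * x⁻¹ * d⁻¹) * d⁻¹) * y) := by
            congr 1; rw [hy]; group
        _ = ρ x⁻¹ * ρ y := by rw [map_mul ρ _ y, hdd x⁻¹ (inv_mem hx)]
        _ = ρ (y⁻¹ * x)⁻¹ := by rw [← map_mul, mul_inv_rev, inv_inv]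

section Automiser

variable {J A : Subgroup Γ}

/-- The stabiliser of the block. -/
def stabBlock (G A : Subgroup Γ) : Subgroup Γ := G ⊓ Subgroup.normalizer (A : Set Γ)

theorem mem_stabBlock {g : Γ} : g ∈ stabBlock G A ↔ g ∈ G ∧ ∀ e ∈ A, g * e * g⁻¹ ∈ A :=
  ⟨fun h => ⟨h.1, fun e he => (Subgroup.mem_normalizer_iff.mp h.2 e).mp he⟩,
    fun h => ⟨h.1, Coprime.mem_normalizer_of_forall h.2⟩⟩

omit [Finite Γ] [CharP F 2] in
instance cen_normal (ρ : Γ →* Module.End F V) :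
    ((Cen ρ A).subgroupOf (stabBlock G A)).Normal := ⟨fun n hn g e he => by
  have h1 : (g : Γ)⁻¹ * e * (g : Γ)⁻¹⁻¹ ∈ A :=
    (Subgroup.mem_normalizer_iff.mp (inv_mem g.2.2) e).mp he
  have h2 := commute_conj (g : Γ) (hn _ h1)
  rw [inv_inv, show (g : Γ) * ((g : Γ)⁻¹ * e * (g : Γ)) * (g : Γ)⁻¹ = e by group] at h2
  exact h2⟩

/-- The automiser of the block. -/
abbrev autBlock (ρ : Γ →* Module.End F V) (G A : Subgroup Γ) : Type _ :=
  stabBlock G A ⧸ (Cen ρ A).subgroupOf (stabBlock G A)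

theorem mk_eq_iff {a b : stabBlock G A} :
    (a : autBlock ρ G A) = b ↔ (a : Γ)⁻¹ * b ∈ Cen ρ A := QuotientGroup.eq

theorem mk_eq_one_iff {a : stabBlock G A} : (a : autBlock ρ G A) = 1 ↔ (a : Γ) ∈ Cen ρ A :=
  QuotientGroup.eq_one_iff a

theorem autBlock_isPGroup (hG : IsPGroup 2 G) : IsPGroup 2 (autBlock ρ G A) := by
  intro q
  obtain ⟨x, rfl⟩ := QuotientGroup.mk_surjective q
  obtain ⟨k, hk⟩ := exists_pow_eq_one hG x.2.1
  exact ⟨k, by rw [← QuotientGroup.mk_pow, show x ^ 2 ^ k = 1 from Subtype.ext hk, QuotientGroup.mk_one]⟩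

variable [Nontrivial V] (hB : Block ρ J G A) (hG : IsPGroup 2 G)
include hB hG

theorem block_inv_of_central {z : stabBlock G A} (hc : ∀ h : autBlock ρ G A, Commute (z : autBlock ρ G A) h)
    (h2 : (z : autBlock ρ G A) * z = 1) (h1 : (z : autBlock ρ G A) ≠ 1) : Inverts ρ A z := by
  refine (hB.noSplit z z.2.1 (mem_stabBlock.mp z.2).2 ((mk_eq_one_iff (ρ := ρ) (a := z * z)).mp h2)
    fun h hh hhA => Or.inl ?_).resolve_left fun h => h1 (mk_eq_one_iff.mpr h)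
  have hmem : h ∈ stabBlock G A := mem_stabBlock.mpr ⟨hh, hhA⟩
  refine (mk_eq_iff (ρ := ρ) (a := z) (b := (⟨h, hmem⟩ : stabBlock G A) * z * (⟨h, hmem⟩)⁻¹)).mp ?_
  show _ = ((⟨h, hmem⟩ : stabBlock G A) : autBlock ρ G A) * z * ((⟨h, hmem⟩ : stabBlock G A) : autBlock ρ G A)⁻¹
  rw [← (hc _).eq, mul_inv_cancel_right]

theorem eq_of_inverts {a b : stabBlock G A} (ha : Inverts ρ A a) (hb : Inverts ρ A b) :
    (a : autBlock ρ G A) = b := by
  refine mk_eq_iff.mpr fun e he => (commute_iff_conj _ _).mpr ?_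
  obtain ⟨m, hm⟩ := exists_pow_eq_one hG (mul_mem (inv_mem a.2.1) b.2.1)
  set f := (a : Γ)⁻¹ * b * e * ((a : Γ)⁻¹ * b)⁻¹ with hf
  have hfA : f ∈ A := by
    have := norm_inv (mem_stabBlock.mp a.2).2 ((mem_stabBlock.mp b.2).2 e he)
    rw [hf]
    convert this using 1
    group
  obtain ⟨s, hs⟩ := isScal_iff.mp (hb e he)
  obtain ⟨t, ht⟩ := isScal_iff.mp (ha f hfA)
  rw [show (a : Γ) * f * (a : Γ)⁻¹ = (b : Γ) * e * (b : Γ)⁻¹ by rw [hf]; group, hs] at ht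
  obtain ⟨hs0, -⟩ := rho_inv_of_smul hs
  have h2 : ρ f⁻¹ = (t⁻¹ * s) • ρ e⁻¹ := by
    have ht0 : t ≠ 0 := fun h => by
      rw [h, zero_smul] at ht
      have h3 := congrArg (· * ρ e) ht
      simp only [smul_mul_assoc, ← map_mul, inv_mul_cancel, map_one, zero_mul] at h3
      exact hs0 (smul_one_inj (V := V) (h3.trans (zero_smul F 1).symm))
    rw [← smul_smul, ht, smul_smul, inv_mul_cancel₀ ht0, one_smul]
  have h3 := (rho_inv_of_smul h2).2
  rw [inv_inv, inv_inv] at h3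
  rw [h3, eq_one_of_conj_smul hm h3, one_smul]

theorem block_isCyclic {X : Subgroup (autBlock ρ G A)} [hX : X.Normal]
    (hab : ∀ x ∈ X, ∀ y ∈ X, x * y = y * x) : ∃ a ∈ X, Subgroup.zpowers a = X := by
  by_contra hcyc
  have hP := autBlock_isPGroup (ρ := ρ) (A := A) hG
  obtain ⟨D, hDn, hDe, hDc⟩ := PGroup.exists_normal_elementary_sq_of_abelian hP hab hcyc
  haveI := hDn
  have hDne : D ≠ ⊥ := fun h => by rw [h, Subgroup.card_bot] at hDc; omega
  obtain ⟨⟨z, hz⟩, hz1'⟩ :=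
    (Subgroup.ne_bot_iff_exists_ne_one).mp (PGroup.inf_center_ne_bot hP hDne)
  have hz1 : z ≠ 1 := fun h => hz1' (Subtype.ext h)
  have hzc : ∀ h, Commute z h := fun h => (Subgroup.mem_center_iff.mp (Subgroup.mem_inf.mp hz).2 h).symm
  have hzD := (Subgroup.mem_inf.mp hz).1
  have hsq : ∀ x ∈ D, x * x = 1 := fun x hx => by rw [← pow_two]; exact hDe.2 x hx
  obtain ⟨d, hd, hd1, hdz⟩ : ∃ d ∈ D, d ≠ 1 ∧ d ≠ z := by
    by_contra hc
    push Not at hc
    have h3 : (D : Set (autBlock ρ G A)) ⊆ {1, z} := fun x hx => by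
      by_cases h : x = 1
      · exact Or.inl h
      · exact Or.inr (hc x hx h)
    have h4 : Nat.card D ≤ 2 := (Nat.card_mono (Set.toFinite _) h3).trans (by
      rw [Nat.card_coe_set_eq, Set.ncard_pair (Ne.symm hz1)])
    omega
  obtain ⟨z', rfl⟩ := QuotientGroup.mk_surjective z
  obtain ⟨d', rfl⟩ := QuotientGroup.mk_surjective d
  have hzi := block_inv_of_central hB hG hzc (hsq _ hzD) hz1
  suffices key : ∀ h ∈ G, (∀ e ∈ A, h * e * h⁻¹ ∈ A) →
      (d' : Γ)⁻¹ * (h * d' * h⁻¹) ∈ Cen ρ A ∨ Inverts ρ A ((d' : Γ)⁻¹ * (h * d' * h⁻¹)) by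
    rcases hB.noSplit d' d'.2.1 (mem_stabBlock.mp d'.2).2
        ((mk_eq_one_iff (ρ := ρ) (a := d' * d')).mp (hsq _ hd)) key with h | h
    · exact hd1 (mk_eq_one_iff.mpr h)
    · exact hdz (eq_of_inverts hB hG h hzi)
  intro h hh hhA
  set h' : stabBlock G A := ⟨h, mem_stabBlock.mpr ⟨hh, hhA⟩⟩
  set q := (h' : autBlock ρ G A) * d' * (h' : autBlock ρ G A)⁻¹
  have hq : q ∈ D := hDn.conj_mem _ hd _
  have hq1 : q ≠ 1 := fun e => hd1 (conj_eq_one_iff.mp e)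
  have hqz : q ≠ z' := fun e => hdz (by
    have e2 : (d' : autBlock ρ G A) = (h' : autBlock ρ G A)⁻¹ * q * h' := by simp [q, mul_assoc]
    rw [e2, e, mul_assoc, (hzc _).eq, inv_mul_cancel_left])
  rcases (show (d' : autBlock ρ G A)⁻¹ * q = 1 ∨ (d' : autBlock ρ G A)⁻¹ * q = z' by
    by_contra hne
    push Not at hne
    have hdd : (d' : autBlock ρ G A)⁻¹ = d' := inv_eq_of_mul_eq_one_left (hsq _ hd)
    have hzz : (z' : autBlock ρ G A) * z' = 1 := hsq _ hzD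
    have hcard : ({1, (z' : autBlock ρ G A), (d' : autBlock ρ G A), (d' : autBlock ρ G A) * (z' : autBlock ρ G A), q} :
        Set (autBlock ρ G A)).ncard ≤ 4 := by
      rw [show (4 : ℕ) = (D : Set (autBlock ρ G A)).ncard by
        rw [← Nat.card_coe_set_eq]; exact hDc.symm]
      refine Set.ncard_le_ncard ?_ (Set.toFinite _)
      simp only [Set.insert_subset_iff, Set.singleton_subset_iff, SetLike.mem_coe]
      exact ⟨one_mem D, hzD, hd, mul_mem hd hzD, hq⟩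
    have h5 : ({1, (z' : autBlock ρ G A), (d' : autBlock ρ G A), (d' : autBlock ρ G A) * (z' : autBlock ρ G A), q} :
        Set (autBlock ρ G A)).ncard = 5 := by
      have n1 : (d' : autBlock ρ G A) * z' ≠ 1 := fun e => hdz (by
        rw [← mul_one (d' : autBlock ρ G A), ← hzz, ← mul_assoc, e, one_mul])
      have n2 : (d' : autBlock ρ G A) * z' ≠ z' := fun e => hd1 (mul_eq_right.mp e)
      have n3 : (d' : autBlock ρ G A) * z' ≠ d' := fun e => hz1 (mul_eq_left.mp e)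
      have n4 : q ≠ d' := fun e => hne.1 (by rw [e, inv_mul_cancel])
      have n5 : q ≠ d' * z' := fun e => hne.2 (by rw [e, inv_mul_cancel_left])
      rw [Set.ncard_insert_of_notMem (by simp [hz1.symm, hd1.symm, n1.symm, hq1.symm]),
        Set.ncard_insert_of_notMem (by simp [Ne.symm hdz, n2.symm, hqz.symm]),
        Set.ncard_insert_of_notMem (by simp [n3.symm, n4.symm]),
        Set.ncard_pair n5.symm]
    omega) with h7 | h7
  · exact Or.inl (mk_eq_one_iff (ρ := ρ) (a := d'⁻¹ * (h' * d' * h'⁻¹)).mp h7)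
  · refine Or.inr fun e he => ?_
    obtain ⟨s, hs⟩ := isScal_iff.mp (hzi e he)
    refine isScal_iff.mpr ⟨s, ?_⟩
    have h6 := mk_eq_iff (ρ := ρ) (a := z') (b := d'⁻¹ * (h' * d' * h'⁻¹)).mp h7.symm
    set y := (d' : Γ)⁻¹ * (h * d' * h⁻¹)
    have hy : ((d'⁻¹ * (h' * d' * h'⁻¹) : stabBlock G A) : Γ) = y := rfl
    rw [hy] at h6
    calc ρ (y * e * y⁻¹) = ρ z'.1 * ρ ((z'.1⁻¹ * y) * e * (z'.1⁻¹ * y)⁻¹) * ρ z'.1⁻¹ := by
          rw [← rho_conj]; congr 1; group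
      _ = ρ z'.1 * ρ e * ρ z'.1⁻¹ := by rw [(commute_iff_conj _ _).mp (h6 e he)]
      _ = s • ρ e⁻¹ := by rw [← rho_conj, hs]

/-- The second derived term centralises the block. -/
theorem block_ser_two : ser (stabBlock G A) 2 ≤ Cen ρ A := by
  classical
  have hP := autBlock_isPGroup (ρ := ρ) (A := A) hG
  obtain ⟨X, hX⟩ := (Set.toFinite
      {X : Subgroup (autBlock ρ G A) | X.Normal ∧ IsMulCommutative X}).exists_maximal
    ⟨⊥, inferInstance, ⟨⟨fun _ _ => Subsingleton.elim _ _⟩⟩⟩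
  obtain ⟨hXn, hXc⟩ := hX.prop
  haveI := hXn
  obtain ⟨a, haX, ha⟩ := block_isCyclic hB hG (X := X) fun x hx y hy =>
    congrArg Subtype.val (hXc.is_comm.comm ⟨x, hx⟩ ⟨y, hy⟩)
  have hC : Subgroup.centralizer (X : Set (autBlock ρ G A)) ≤ X :=
    PNormal.centralizer_le_of_maximal hP hXc fun B h1 h2 h3 =>
      le_antisymm (hX.le_of_ge ⟨h1, h2⟩ h3) h3
  have hder : ⁅(⊤ : Subgroup (autBlock ρ G A)), ⊤⁆ ≤ X := by
    refine (Subgroup.commutator_le.mpr fun g _ h _ => hC ?_)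
    rw [← ha, Subgroup.mem_centralizer_iff]
    rintro w ⟨i, rfl⟩
    have hconj : ∀ g : autBlock ρ G A, ∃ r : ℤ, g * a * g⁻¹ = a ^ r := fun g => by
      obtain ⟨r, hr⟩ := (ha ▸ hXn.conj_mem a haX g : g * a * g⁻¹ ∈ Subgroup.zpowers a)
      exact ⟨r, hr.symm⟩
    obtain ⟨r, hr⟩ := hconj g
    obtain ⟨s, hs⟩ := hconj h
    have h1 : g * h * a * (g * h)⁻¹ = h * g * a * (h * g)⁻¹ := by
      calc g * h * a * (g * h)⁻¹ = g * (h * a * h⁻¹) * g⁻¹ := by group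
        _ = (a ^ r) ^ s := by rw [hs, ← hr, conj_zpow]
        _ = (a ^ s) ^ r := by rw [← zpow_mul, ← zpow_mul, mul_comm]
        _ = h * (g * a * g⁻¹) * h⁻¹ := by rw [hr, ← hs, conj_zpow]
        _ = h * g * a * (h * g)⁻¹ := by group
    have h2 : ⁅g, h⁆ * a * ⁅g, h⁆⁻¹ = a := by
      calc ⁅g, h⁆ * a * ⁅g, h⁆⁻¹ = g * h * ((h * g)⁻¹ * a * (h * g)) * (g * h)⁻¹ := by
            rw [commutatorElement_def]; group
        _ = a := by
            obtain ⟨t, ht⟩ := hconj (h * g)⁻¹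
            rw [inv_inv] at ht
            rw [ht, ← conj_zpow, h1, conj_zpow, ← ht]
            group
    exact ((show Commute ⁅g, h⁆ a from mul_inv_eq_iff_eq_mul.mp h2).zpow_right i).eq.symm
  have hser : ser (⊤ : Subgroup (autBlock ρ G A)) 2 = ⊥ := by
    rw [eq_bot_iff, ser_succ, Subgroup.commutator_le]
    intro x hx y hy
    rw [Subgroup.mem_bot, commutatorElement_eq_one_iff_commute]
    exact congrArg Subtype.val (hXc.is_comm.comm ⟨x, hder hx⟩ ⟨y, hder hy⟩)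
  intro x hx
  have hxs : x ∈ stabBlock G A := ser_le_self _ 2 hx
  have h1 : (⟨x, hxs⟩ : stabBlock G A) ∈ ser (⊤ : Subgroup (stabBlock G A)) 2 := by
    obtain ⟨y, hy, e⟩ : x ∈ (ser (⊤ : Subgroup (stabBlock G A)) 2).map (stabBlock G A).subtype := by
      rw [ser_map, ← MonoidHom.range_eq_map, Subgroup.range_subtype]; exact hx
    rwa [show (⟨x, hxs⟩ : stabBlock G A) = y from Subtype.ext e.symm]
  have h2 : (((⟨x, hxs⟩ : stabBlock G A)) : autBlock ρ G A) ∈ ser (⊤ : Subgroup (autBlock ρ G A)) 2 := by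
    have h := ser_map (QuotientGroup.mk' ((Cen ρ A).subgroupOf (stabBlock G A))) ⊤ 2
    rw [Subgroup.map_top_of_surjective _ (QuotientGroup.mk'_surjective _)] at h
    rw [← h]
    exact ⟨_, h1, rfl⟩
  rw [hser, Subgroup.mem_bot] at h2
  exact mk_eq_one_iff.mp h2

omit [Finite Γ] [CharP F 2] [Nontrivial V] hB hG in
theorem eq_of_cyclic {P : Type*} [Group P] {X : Subgroup P} (hX : ∃ a ∈ X, Subgroup.zpowers a = X)
    {y z : P} (hy : y ∈ X) (hz : z ∈ X) (hy2 : y * y = 1) (hz2 : z * z = 1) (hy1 : y ≠ 1)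
    (hz1 : z ≠ 1) : y = z := by
  obtain ⟨a, -, rfl⟩ := hX
  obtain ⟨i, rfl⟩ := hy
  obtain ⟨j, rfl⟩ := hz
  simp only at hy2 hz2 hy1 hz1 ⊢
  rw [← zpow_add, ← orderOf_dvd_iff_zpow_eq_one] at hy2 hz2
  rw [Ne, ← orderOf_dvd_iff_zpow_eq_one] at hy1 hz1
  rw [← mul_inv_eq_one, ← zpow_neg, ← zpow_add, ← orderOf_dvd_iff_zpow_eq_one]
  set n := (orderOf a : ℤ)
  obtain ⟨p, hp⟩ := hy2
  obtain ⟨q, hq⟩ := hz2
  rcases Int.even_or_odd p with ⟨p', rfl⟩ | ⟨p', rfl⟩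
  · exact absurd ⟨p', by linarith⟩ hy1
  rcases Int.even_or_odd q with ⟨q', rfl⟩ | ⟨q', rfl⟩
  · exact absurd ⟨q', by linarith⟩ hz1
  exact ⟨p' - q', by linarith⟩

/-- A noncommutative normal subgroup contains a square root of a central involution of its
derived group. -/
theorem block_exists_sqrt {N : Subgroup (autBlock ρ G A)} [hN : N.Normal]
    (hab : ∀ x ∈ ⁅N, N⁆, ∀ y ∈ ⁅N, N⁆, x * y = y * x) {c : autBlock ρ G A}
    (hc : c ∈ ⁅N, N⁆) (hc1 : c ≠ 1) (hc2 : c * c = 1) : ∃ r ∈ N, r * r = c := by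
  have hP := autBlock_isPGroup (ρ := ρ) (A := A) hG
  have hcyc := block_isCyclic hB hG (X := ⁅N, N⁆) hab
  have hNN : ⁅N, N⁆ ≤ N := Subgroup.commutator_le.mpr fun x hx y hy => by
    rw [commutatorElement_def]
    exact mul_mem (mul_mem (mul_mem hx hy) (inv_mem hx)) (inv_mem hy)
  have root : ∀ (Z : Subgroup (autBlock ρ G A)), (∃ a ∈ Z, Subgroup.zpowers a = Z) → c ∈ Z →
      ∀ x ∈ N, x * x ∈ Z → x * x ≠ 1 → ∃ r ∈ N, r * r = c := by
    intro Z hZ hcZ x hxN hxZ hx2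
    obtain ⟨m, hm⟩ := IsPGroup.iff_orderOf.mp hP (x * x)
    obtain ⟨m', rfl⟩ : ∃ m', m = m' + 1 := ⟨m - 1, by
      rcases m with _ | m
      · exact absurd (orderOf_eq_one_iff.mp hm) hx2
      · rfl⟩
    refine ⟨x ^ 2 ^ m', pow_mem hxN _, eq_of_cyclic hZ ?_ hcZ ?_ hc2 ?_ hc1⟩
    · rw [← (Commute.refl x).mul_pow]
      exact pow_mem hxZ _
    · rw [← (Commute.refl x).mul_pow, ← pow_two, ← pow_mul, ← pow_succ, ← hm, pow_orderOf_eq_one]
    · rw [← (Commute.refl x).mul_pow]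
      intro e
      have h := Nat.le_of_dvd (pow_pos two_pos m') (orderOf_dvd_of_pow_eq_one e)
      rw [hm] at h
      exact absurd h (Nat.pow_lt_pow_right one_lt_two m'.lt_succ_self).not_ge
  by_cases hbig : ∃ x ∈ ⁅N, N⁆, x * x ≠ 1
  · obtain ⟨x, hx, hx2⟩ := hbig
    exact root _ hcyc hc x (hNN hx) (mul_mem hx hx) hx2
  push Not at hbig
  have hder : ∀ x ∈ ⁅N, N⁆, x = 1 ∨ x = c := fun x hx => by
    by_cases h : x = 1
    · exact Or.inl h
    · exact Or.inr (eq_of_cyclic hcyc hx hc (hbig x hx) hc2 h hc1)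
  obtain ⟨x, hxN, hx2⟩ : ∃ x ∈ N, x * x ≠ 1 := by
    by_contra h
    push Not at h
    have h0 : ⁅N, N⁆ ≤ ⊥ := Subgroup.commutator_le.mpr fun x hx y hy => by
      have hxi : x⁻¹ = x := inv_eq_of_mul_eq_one_left (h x hx)
      have hyi : y⁻¹ = y := inv_eq_of_mul_eq_one_left (h y hy)
      have h3 := h (x * y) (mul_mem hx hy)
      rw [Subgroup.mem_bot, commutatorElement_def, hxi, hyi]
      simpa [mul_assoc] using h3
    exact hc1 ((Subgroup.mem_bot).mp (h0 hc))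
  have hcen : ∀ g, Commute c g := fun g => by
    have h1 := (Subgroup.commutator_normal N N).conj_mem c hc g
    rcases hder _ h1 with e | e
    · exact absurd (conj_eq_one_iff.mp e) hc1
    · exact (mul_inv_eq_iff_eq_mul.mp e).symm
  set Z := N ⊓ Subgroup.centralizer (N : Set (autBlock ρ G A)) with hZdef
  haveI : Z.Normal := inferInstanceAs (N ⊓ _).Normal
  have hZcyc := block_isCyclic hB hG (X := Z) fun a ha b hb =>
    Subgroup.mem_centralizer_iff.mp hb.2 a ha.1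
  refine root Z hZcyc ⟨hNN hc, Subgroup.mem_centralizer_iff.mpr fun g _ => (hcen g).symm.eq⟩ x hxN
    ⟨mul_mem hxN hxN, Subgroup.mem_centralizer_iff.mpr fun g hg => ?_⟩ hx2
  rcases hder _ (Subgroup.commutator_mem_commutator hxN hg) with e | e
  · rw [commutatorElement_eq_one_iff_commute] at e
    exact ((e.symm).mul_right e.symm).eq
  · have h1 : x * g * x⁻¹ = c * g := by rw [← e, commutatorElement_def]; group
    have h2 : x * x * g * (x * x)⁻¹ = g := by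
      calc x * x * g * (x * x)⁻¹ = x * (x * g * x⁻¹) * x⁻¹ := by group
        _ = c * (x * g * x⁻¹) := by rw [h1, ← mul_assoc x, ← (hcen x).eq, ← h1]; simp only [mul_assoc]
        _ = g := by rw [h1, ← mul_assoc, hc2, one_mul]
    exact (mul_inv_eq_iff_eq_mul.mp h2).symm

end Automiser

end Cfsg.Agent.TwoLength
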