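/-
Pure fixed vectors for a permuted block decomposition (helper83).

Main results (namespace `Cfsg.Agent.TwoLength`):
* Slot, exists_slot: a vector fixed by the 2-group generating a simple module in one block
* Slot.emb, Slot.mul: the slot embedding and products of two slots
-/
import Cfsg.Agent.Lib.TwoLength.Block

set_option autoImplicit false
set_option linter.style.haveILetI false
set_option linter.unusedSectionVars false

open scoped commutatorElement

namespace Cfsg.Agent.TwoLength

open HallHigman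

variable {Γ : Type*} [Group Γ] [Finite Γ] {F : Type*} [Field F] [IsAlgClosed F] [CharP F 2]
  {Y : Type*} [AddCommGroup Y] [Module F Y] [FiniteDimensional F Y]
  {σ : Γ →* Module.End F Y} {G A : Subgroup Γ} {S : Submodule F Y}

/-- The action of a stabilising element on the slot. -/
def act (hSG : ∀ g ∈ stabBlock G A, ∀ u ∈ S, σ g u ∈ S) {g : Γ} (hg : g ∈ stabBlock G A) :
    Module.End F S := (σ g).restrict (hSG g hg)

theorem act_apply (hSG : ∀ g ∈ stabBlock G A, ∀ u ∈ S, σ g u ∈ S) {g : Γ}
    (hg : g ∈ stabBlock G A) (u : S) : (act hSG hg u : Y) = σ g u := rfl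

variable (hH : Heis σ A) (hS : IsSimpleInv σ A S)
  (hSG : ∀ g ∈ stabBlock G A, ∀ u ∈ S, σ g u ∈ S)
  (hcross : ∀ g ∈ G, g ∉ stabBlock G A → ∀ e ∈ A, ∀ f ∈ A, Commute (σ (g * e * g⁻¹)) (σ f))

include hH hS hSG in
theorem conj_spanOp {g : Γ} (hg : g ∈ stabBlock G A) (X : Module.End F S) :
    σ g * spanOp hH hS X * σ g⁻¹ =
      spanOp hH hS (act hSG hg * X * act hSG (inv_mem hg)) := by
  refine (spanOp_unique hH hS (conj_mem_Alg (E' := A) (mem_stabBlock.mp hg).2
    (spanOp_mem hH hS X)) fun u => ?_).symm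
  rw [Module.End.mul_apply, Module.End.mul_apply, Module.End.mul_apply, Module.End.mul_apply,
    act_apply]
  congr 1
  rw [← act_apply hSG (inv_mem hg) u, spanOp_apply]

include hH hS in
/-- A rank one element times an operator commuting with the algebra is nonzero. -/
theorem eq_zero_of_rankOne_mul {f : S →ₗ[F] F} {x : S} (hf : f ≠ 0) (hx : x ≠ 0)
    {X : Module.End F Y} (hX : ∀ M ∈ Alg σ A, Commute X M)
    (h : spanOp hH hS (LinearMap.smulRight f x) * X = 0) : X = 0 := by
  obtain ⟨φ, hφ⟩ := exists_dual_eq_one (F := F) hx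
  obtain ⟨y, hy⟩ : ∃ y, f y = 1 := by
    obtain ⟨y, hy⟩ := DFunLike.ne_iff.mp hf
    exact ⟨(f y)⁻¹ • y, by simp [inv_mul_cancel₀ (show f y ≠ 0 from hy)]⟩
  have h1 : ∀ (g : S →ₗ[F] F) (s : S), spanOp hH hS (LinearMap.smulRight g s) * X = 0 := by
    intro g s
    have e : LinearMap.smulRight g s =
        LinearMap.smulRight φ s * LinearMap.smulRight f x * LinearMap.smulRight g y := by
      refine LinearMap.ext fun u => ?_
      simp [hφ, hy]
    rw [e, spanOp_mul, spanOp_mul, mul_assoc, ← (hX _ (spanOp_mem hH hS _)).eq, ← mul_assoc,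
      mul_assoc (spanOp hH hS (LinearMap.smulRight φ s)), h, mul_zero, zero_mul]
  let b := Module.finBasis F S
  have hsum : (1 : Module.End F S) = ∑ i, LinearMap.smulRight (b.coord i) (b i) := by
    refine LinearMap.ext fun u => ?_
    rw [LinearMap.sum_apply, Module.End.one_apply]
    exact (b.sum_repr u).symm
  calc X = spanOp hH hS 1 * X := by rw [spanOp_one, one_mul]
    _ = 0 := by rw [hsum, map_sum, Finset.sum_mul, Finset.sum_eq_zero fun i _ => h1 _ _]

/-- A vector fixed by `G`, pure in the block `A`. -/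
structure Slot (hH : Heis σ A) (hS : IsSimpleInv σ A S) (G : Subgroup Γ) (x : S) where
  ε : Y
  h : S →ₗ[F] F
  h_x : h x = 1
  fix : ∀ g ∈ G, σ g ε = ε
  ne : ε ≠ 0
  eig : spanOp hH hS (LinearMap.smulRight h x) ε = ε

include hSG hcross in
theorem exists_slot (hG : IsPGroup 2 G) {x : S} (hx : x ≠ 0)
    (hxfix : ∀ g ∈ stabBlock G A, σ g (x : Y) = x) : Nonempty (Slot hH hS G x) := by
  classical
  obtain ⟨h, hhx⟩ := exists_dual_eq_one (F := F) hx
  -- a fixed functional on the slot
  let τ : stabBlock G A →* Module.End F (S →ₗ[F] F) :=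
    { toFun := fun g => LinearMap.dualMap (act hSG (inv_mem g.2))
      map_one' := LinearMap.ext fun φ => LinearMap.ext fun u => by
        show φ (act hSG _ u) = φ u
        congr 1
        refine Subtype.ext ?_
        rw [act_apply, Subgroup.coe_one, inv_one, map_one, Module.End.one_apply]
      map_mul' := fun a b => LinearMap.ext fun φ => LinearMap.ext fun u => by
        show φ (act hSG _ u) = φ (act hSG _ (act hSG _ u))
        congr 1
        refine Subtype.ext ?_
        simp only [act_apply, Subgroup.coe_mul, mul_inv_rev, rho_mul] }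
  haveI := nontrivial_of_simple hS
  have htop : (⊤ : Submodule F (S →ₗ[F] F)) ≠ ⊥ := fun e => by
    have h0 : h ∈ (⊥ : Submodule F (S →ₗ[F] F)) := e ▸ Submodule.mem_top
    rw [Submodule.mem_bot] at h0
    rw [h0, LinearMap.zero_apply] at hhx
    exact zero_ne_one hhx
  obtain ⟨f, -, hf0, hff⟩ := exists_fixed (ρ := τ) (P := (⊤ : Subgroup (stabBlock G A)))
    ((hG.to_le (inf_le_left : stabBlock G A ≤ G)).to_subgroup ⊤) htop
    (fun _ _ _ _ => Submodule.mem_top)
  set a := spanOp hH hS (LinearMap.smulRight f x) with ha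
  have hafix : ∀ g ∈ stabBlock G A, σ g * a * σ g⁻¹ = a := by
    intro g hg
    rw [ha, conj_spanOp hH hS hSG hg]
    congr 1
    refine LinearMap.ext fun u => Subtype.ext ?_
    have h1 : f (act hSG (inv_mem hg) u) = f u :=
      LinearMap.congr_fun (hff ⟨g, hg⟩ (Subgroup.mem_top _)) u
    rw [Module.End.mul_apply, Module.End.mul_apply, LinearMap.smulRight_apply, h1, map_smul,
      LinearMap.smulRight_apply, Submodule.coe_smul, Submodule.coe_smul, act_apply, hxfix g hg]
  -- translates
  set H := (stabBlock G A).subgroupOf G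
  let o : G ⧸ H → Γ := fun q => ((Quotient.out q : G) : Γ)
  have hoG : ∀ q, o q ∈ G := fun q => (Quotient.out q).2
  let aq : G ⧸ H → Module.End F Y := fun q => σ (o q) * a * σ (o q)⁻¹
  let Aq : G ⧸ H → Subgroup Γ := fun q => A.map (MulAut.conj (o q)).toMonoidHom
  have hsep : ∀ q r, q ≠ r → (o r)⁻¹ * o q ∉ stabBlock G A := by
    intro q r hqr hmem
    refine hqr ?_
    rw [← QuotientGroup.out_eq' q, ← QuotientGroup.out_eq' r, eq_comm, QuotientGroup.eq]
    exact hmem
  have hcomm : ∀ q r, q ≠ r → ∀ M ∈ Alg σ (Aq q), ∀ M' ∈ Alg σ (Aq r), Commute M M' := by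
    intro q r hqr M hM M' hM'
    refine commute_Alg (fun e' he' => (commute_Alg (fun f' hf' => ?_) hM).symm) hM'
    obtain ⟨e, he, rfl⟩ := hf'
    obtain ⟨f, hf, rfl⟩ := he'
    have h1 := commute_conj (o r)
      (hcross _ (mul_mem (inv_mem (hoG r)) (hoG q)) (hsep q r hqr) e he f hf)
    rw [show o r * ((o r)⁻¹ * o q * e * ((o r)⁻¹ * o q)⁻¹) * (o r)⁻¹ = o q * e * (o q)⁻¹ by
      group] at h1
    exact h1.symm
  have haA : ∀ q, aq q ∈ Alg σ (Aq q) := fun q =>
    conj_mem_Alg (E' := Aq q) (g := o q) (fun e he => ⟨e, he, rfl⟩) (spanOp_mem hH hS _)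
  have hX : ∀ s : Finset (G ⧸ H), ∃ X : Module.End F Y, X ≠ 0 ∧
      (∀ q ∈ s, LinearMap.range X ≤ LinearMap.range (aq q)) ∧
      ∀ r ∉ s, ∀ M ∈ Alg σ (Aq r), Commute X M := by
    intro s
    induction s using Finset.induction_on with
    | empty =>
      haveI : Nontrivial Y := Function.Injective.nontrivial S.subtype_injective
      exact ⟨1, one_ne_zero, by simp, fun r _ M _ => Commute.one_left M⟩
    | @insert l s hl ih =>
      obtain ⟨X, hX0, hXr, hXc⟩ := ih
      refine ⟨aq l * X, fun h0 => hX0 ?_, fun q hq => ?_, fun r hr M hM => ?_⟩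
      · set X' := σ (o l)⁻¹ * X * σ (o l) with hX'
        have hXA : ∀ M ∈ Alg σ A, Commute X' M := by
          intro M hM
          have h1 := hXc l hl _ (conj_mem_Alg (E' := Aq l) (g := o l)
            (fun e he => ⟨e, he, rfl⟩) hM)
          have h2 := congrArg (fun Z => σ (o l)⁻¹ * Z * σ (o l)) h1.eq
          simp only [← mul_assoc] at h2
          show X' * M = M * X'
          rw [hX']
          simp only [← mul_assoc]
          rw [← map_mul σ (o l)⁻¹ (o l), inv_mul_cancel, map_one, one_mul, mul_assoc _ (σ (o l)⁻¹)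
            (σ (o l)), ← map_mul σ (o l)⁻¹ (o l), inv_mul_cancel, map_one, mul_one] at h2
          rw [h2]
        have h3 : a * X' = 0 := by
          have h2 := congrArg (fun Z => σ (o l)⁻¹ * Z * σ (o l)) h0
          simp only [aq, mul_zero, zero_mul, ← mul_assoc, ← map_mul σ (o l)⁻¹ (o l),
            inv_mul_cancel, map_one, one_mul] at h2
          rw [hX']
          simp only [← mul_assoc]
          exact h2
        have hX'0 := eq_zero_of_rankOne_mul hH hS hf0 hx hXA h3
        calc X = σ (o l) * X' * σ (o l)⁻¹ := by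
              rw [hX']
              simp only [← mul_assoc, ← map_mul σ (o l) (o l)⁻¹, mul_inv_cancel, map_one, one_mul]
              rw [mul_assoc, ← map_mul, mul_inv_cancel, map_one, mul_one]
          _ = 0 := by rw [hX'0, mul_zero, zero_mul]
      · rcases Finset.mem_insert.mp hq with rfl | hq
        · rw [Module.End.mul_eq_comp]; exact LinearMap.range_comp_le_range _ _
        · rw [(hXc l hl _ (haA l)).eq.symm, Module.End.mul_eq_comp]
          exact (LinearMap.range_comp_le_range _ _).trans (hXr q hq)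
      · rw [Finset.mem_insert, not_or] at hr
        exact (hcomm l r (Ne.symm hr.1) _ (haA l) M hM).mul_left (hXc r hr.2 M hM)
  set R : Submodule F Y := ⨅ q, LinearMap.range (aq q)
  have hR : R ≠ ⊥ := by
    haveI : Fintype (G ⧸ H) := Fintype.ofFinite _
    obtain ⟨X, hX0, hXr, -⟩ := hX Finset.univ
    intro h0
    refine hX0 (LinearMap.range_eq_bot.mp (le_bot_iff.mp (h0 ▸ ?_)))
    exact le_iInf fun q => hXr q (Finset.mem_univ q)
  have hRinv : ∀ g ∈ G, ∀ u ∈ R, σ g u ∈ R := by
    intro g hg u hu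
    rw [Submodule.mem_iInf] at hu ⊢
    intro q
    obtain ⟨z, hz⟩ := hu ((⟨g, hg⟩ : G)⁻¹ • q)
    set q' := (⟨g, hg⟩ : G)⁻¹ • q
    have hmem : (o q)⁻¹ * (g * o q') ∈ stabBlock G A := by
      have h1 : ((Quotient.out q : G) : G ⧸ H) = ((⟨g, hg⟩ * Quotient.out q' : G) : G ⧸ H) := by
        rw [QuotientGroup.out_eq', ← smul_eq_mul, ← MulAction.Quotient.smul_coe,
          QuotientGroup.out_eq', smul_inv_smul]
      have h2 : (Quotient.out q)⁻¹ * (⟨g, hg⟩ * Quotient.out q') ∈ H := QuotientGroup.eq.mp h1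
      exact h2
    refine ⟨σ g z, ?_⟩
    have hk := hafix _ hmem
    rw [← hz]
    conv_lhs => simp only [aq]; rw [← hk]
    simp only [aq, Module.End.mul_apply, ← rho_mul, mul_inv_rev, inv_inv, mul_assoc,
      mul_inv_cancel_left, inv_mul_cancel_left, inv_mul_cancel, mul_one]
  obtain ⟨ε, hεR, hε0, hεfix⟩ := exists_fixed hG hR hRinv
  refine ⟨⟨ε, h, hhx, hεfix, hε0, ?_⟩⟩
  obtain ⟨z, hz⟩ := Submodule.mem_iInf _ |>.mp hεR ((1 : G) : G ⧸ H)
  have h1 : o ((1 : G) : G ⧸ H) ∈ stabBlock G A := by
    have h2 : ((Quotient.out ((1 : G) : G ⧸ H) : G) : G ⧸ H) = ((1 : G) : G ⧸ H) :=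
      QuotientGroup.out_eq' _
    rw [QuotientGroup.eq, mul_one, inv_mem_iff] at h2
    exact h2
  have h2 : a z = ε := by rw [← hz]; simp only [aq]; rw [hafix _ h1]
  rw [← h2, ← Module.End.mul_apply, ha, ← spanOp_mul]
  congr 2
  refine LinearMap.ext fun u => ?_
  simp [hhx]

namespace Slot

variable {hH hS} {x : S} (D : Slot hH hS G x)

/-- The embedding of the slot. -/
noncomputable def emb : S →ₗ[F] Y :=
  ((LinearMap.applyₗ D.ε).comp (spanOp hH hS)).comp (LinearMap.smulRightₗ D.h)

theorem emb_apply (s : S) : D.emb s = spanOp hH hS (LinearMap.smulRight D.h s) D.ε := rfl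

theorem op_eps (X : Module.End F S) : spanOp hH hS X D.ε = D.emb (X x) := by
  conv_lhs => rw [← D.eig]
  rw [D.emb_apply, ← Module.End.mul_apply, ← spanOp_mul]
  congr 2
  refine LinearMap.ext fun u => ?_
  simp

theorem emb_x : D.emb x = D.ε := D.eig

theorem emb_injective : Function.Injective D.emb := by
  rw [injective_iff_map_eq_zero]
  intro s hs
  by_contra hs0
  obtain ⟨φ, hφ⟩ := exists_dual_eq_one (F := F) hs0
  have h1 := congrArg (spanOp hH hS (LinearMap.smulRight φ x)) hs
  rw [map_zero, D.emb_apply, ← Module.End.mul_apply, ← spanOp_mul,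
    show LinearMap.smulRight φ x * LinearMap.smulRight D.h s = LinearMap.smulRight D.h x from
      LinearMap.ext fun u => by simp [hφ], D.eig] at h1
  exact D.ne h1

include hSG in
theorem emb_act {g : Γ} (hg : g ∈ stabBlock G A) (hx : σ g (x : Y) = x) (s : S) :
    σ g (D.emb s) = D.emb (act hSG hg s) := by
  have hinvx : act hSG (inv_mem hg) x = x := Subtype.ext (by
    rw [act_apply]
    conv_lhs => rw [← hx]
    rw [rho_inv_rho])
  calc σ g (D.emb s) = (σ g * spanOp hH hS (LinearMap.smulRight D.h s) * σ g⁻¹) D.ε := by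
        rw [Module.End.mul_apply, Module.End.mul_apply, D.fix _ (inv_mem hg.1), ← D.emb_apply]
    _ = D.emb (act hSG hg s) := by
        rw [conj_spanOp hH hS hSG hg, D.op_eps, Module.End.mul_apply, Module.End.mul_apply, hinvx,
          LinearMap.smulRight_apply, D.h_x, one_smul]

include hcross in
/-- An element of the algebra killing `ε` kills the other slots. -/
theorem kill {M : Module.End F Y} (hM : M ∈ Alg σ A) (h0 : M D.ε = 0) {g : Γ} (hg : g ∈ G)
    (hgn : g ∉ stabBlock G A) (t : S) : M (σ g (D.emb t)) = 0 := by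
  have h1 : σ g (D.emb t) = (σ g * spanOp hH hS (LinearMap.smulRight D.h t) * σ g⁻¹) D.ε := by
    rw [Module.End.mul_apply, Module.End.mul_apply, D.fix _ (inv_mem hg), ← D.emb_apply]
  have h2 : Commute M (σ g * spanOp hH hS (LinearMap.smulRight D.h t) * σ g⁻¹) := by
    refine commute_Alg (E := A.map (MulAut.conj g).toMonoidHom) (fun e he => ?_)
      (conj_mem_Alg (E' := A.map (MulAut.conj g).toMonoidHom) (g := g)
        (fun e he => ⟨e, he, rfl⟩) (spanOp_mem hH hS _))
    obtain ⟨e, he', rfl⟩ := he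
    exact (commute_Alg (fun f hf => hcross g hg hgn e he' f hf) hM).symm
  rw [h1, ← Module.End.mul_apply, h2.eq, Module.End.mul_apply, h0, map_zero]

/-- The product of the slot with its translate by `g`. -/
noncomputable def mul (g : Γ) : S →ₗ[F] S →ₗ[F] Y :=
  LinearMap.compl₂ ((spanOp hH hS).comp (LinearMap.smulRightₗ D.h)) ((σ g).comp D.emb)

theorem mul_apply (g : Γ) (s t : S) :
    D.mul g s t = spanOp hH hS (LinearMap.smulRight D.h s) (σ g (D.emb t)) := rfl

include hcross in
theorem mul_x_left {g : Γ} (hg : g ∈ G) (hgn : g ∉ stabBlock G A) (t : S) :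
    D.mul g x t = σ g (D.emb t) := by
  have h1 := D.kill hcross (M := spanOp hH hS (LinearMap.smulRight D.h x) - 1)
    (Submodule.sub_mem _ (spanOp_mem hH hS _) one_mem_Alg)
    (by rw [LinearMap.sub_apply, Module.End.one_apply, D.eig, sub_self]) hg hgn t
  rw [LinearMap.sub_apply, Module.End.one_apply, sub_eq_zero] at h1
  exact h1

theorem mul_x_right {g : Γ} (hg : g ∈ G) (s : S) : D.mul g s x = D.emb s := by
  rw [D.mul_apply, D.emb_x, D.fix g hg, D.emb_apply]

include hSG hcross in
theorem mul_act {g β : Γ} (hg : g ∈ G) (hgn : g ∉ stabBlock G A) (hβ : β ∈ stabBlock G A)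
    (hβ' : g⁻¹ * β * g ∈ stabBlock G A) (hxfix : ∀ k ∈ stabBlock G A, σ k (x : Y) = x) (s t : S) :
    σ β (D.mul g s t) = D.mul g (act hSG hβ s) (act hSG hβ' t) := by
  have h1 : σ β (σ g (D.emb t)) = σ g (D.emb (act hSG hβ' t)) := by
    rw [← D.emb_act hSG hβ' (hxfix _ hβ') t]
    simp only [← rho_mul, mul_assoc, mul_inv_cancel_left]
  set Z := act hSG hβ * LinearMap.smulRight D.h s * act hSG (inv_mem hβ)
  have h2 : σ β (D.mul g s t) = spanOp hH hS Z (σ g (D.emb (act hSG hβ' t))) := by
    rw [← conj_spanOp hH hS hSG hβ, ← h1, Module.End.mul_apply, Module.End.mul_apply, rho_inv_rho,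
      D.mul_apply]
  rw [h2, D.mul_apply, ← sub_eq_zero, ← LinearMap.sub_apply, ← map_sub]
  refine D.kill hcross (spanOp_mem hH hS _) ?_ hg hgn _
  have hinvx : act hSG (inv_mem hβ) x = x := Subtype.ext (by
    rw [act_apply, hxfix _ (inv_mem hβ)])
  rw [D.op_eps, LinearMap.sub_apply]
  simp only [Z, Module.End.mul_apply, hinvx, LinearMap.smulRight_apply, D.h_x, one_smul, sub_self,
    map_zero]

end Slot

end Cfsg.Agent.TwoLength
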