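/-
Dual representation and the dimension bound in a slot (helper83).

Main results (namespace `Cfsg.Agent.TwoLength`):
* dualRep and its elementary properties
* eq_smul_of_fixed: a noncommuting 2-group with `(r - 1)^3 = 0` fixes only a line of a slot
-/
import Cfsg.Agent.Lib.TwoLength.Slot

set_option autoImplicit false
set_option linter.style.haveILetI false
set_option linter.unusedSectionVars false

open scoped commutatorElement

namespace Cfsg.Agent.TwoLength

open HallHigman

variable {Γ : Type*} [Group Γ] {F : Type*} [Field F] {V : Type*} [AddCommGroup V] [Module F V]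

/-- The dual representation. -/
def dualRep (ρ : Γ →* Module.End F V) : Γ →* Module.End F (Module.Dual F V) where
  toFun g := LinearMap.dualMap (ρ g⁻¹)
  map_one' := by rw [inv_one, map_one]; rfl
  map_mul' a b := by rw [mul_inv_rev, map_mul]; rfl

variable {ρ : Γ →* Module.End F V}

theorem dualRep_apply (g : Γ) (φ : Module.Dual F V) (u : V) : dualRep ρ g φ u = φ (ρ g⁻¹ u) := rfl

theorem dualMap_inj {X X' : Module.End F V} (h : X.dualMap = X'.dualMap) : X = X' := by
  refine LinearMap.ext fun u => sub_eq_zero.mp ((Module.forall_dual_apply_eq_zero_iff F _).mp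
    fun φ => ?_)
  rw [map_sub, sub_eq_zero]
  exact LinearMap.congr_fun (LinearMap.congr_fun h φ) u

theorem dual_isScal_iff {g : Γ} : IsScal (dualRep ρ) g ↔ IsScal ρ g⁻¹ :=
  ⟨fun ⟨c, hc⟩ => ⟨c, dualMap_inj (hc.trans (LinearMap.ext fun φ => LinearMap.ext fun u => by
      simp [LinearMap.dualMap_apply]))⟩,
    fun ⟨c, hc⟩ => ⟨c, LinearMap.ext fun φ => LinearMap.ext fun u => by
      rw [dualRep_apply, hc]; simp⟩⟩

theorem dual_eq_iff {a b : Γ} : dualRep ρ a = dualRep ρ b ↔ ρ a⁻¹ = ρ b⁻¹ :=
  ⟨dualMap_inj, fun h => LinearMap.ext fun φ => LinearMap.ext fun u => by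
    rw [dualRep_apply, dualRep_apply, h]⟩

theorem dual_commute_iff {a b : Γ} :
    Commute (dualRep ρ a) (dualRep ρ b) ↔ Commute (ρ a⁻¹) (ρ b⁻¹) := by
  show _ * _ = _ * _ ↔ _ * _ = _ * _
  rw [← map_mul, ← map_mul, dual_eq_iff, mul_inv_rev, mul_inv_rev, map_mul, map_mul, eq_comm]

theorem commute_inv_inv_iff {a b : Γ} : Commute (ρ a⁻¹) (ρ b⁻¹) ↔ Commute (ρ a) (ρ b) := by
  refine ⟨fun h => ?_, fun h => (commute_inv (commute_inv h).symm).symm⟩
  have h1 := (commute_inv (commute_inv h).symm).symm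
  rwa [inv_inv, inv_inv] at h1

theorem dual_mem_Cen {E : Subgroup Γ} {g : Γ} : g ∈ Cen (dualRep ρ) E ↔ g ∈ Cen ρ E := by
  simp only [mem_Cen, dual_commute_iff, commute_inv_inv_iff]

theorem heis_dual {E : Subgroup Γ} (h : Heis ρ E) : Heis (dualRep ρ) E where
  comm a ha b hb := by
    rw [dual_isScal_iff, commutatorElement_inv]
    exact h.comm b hb a ha
  cent a ha hc := by
    rw [dual_isScal_iff]
    refine h.cent _ (inv_mem ha) fun b hb => ?_
    have h1 := hc b⁻¹ (inv_mem hb)
    rwa [dual_commute_iff, inv_inv] at h1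

section Dim

variable [Finite Γ] [IsAlgClosed F] [CharP F 2] [FiniteDimensional F V] {A N : Subgroup Γ}
  {S : Submodule F V}

/-- In a slot only a line is fixed. -/
theorem eq_smul_of_fixed (hH : Heis ρ A) (hS : IsSimpleInv ρ A S) (hA : Odd (Nat.card A))
    (hNS : ∀ b ∈ N, ∀ u ∈ S, ρ b u ∈ S) (hNA : ∀ b ∈ N, ∀ e ∈ A, b * e * b⁻¹ ∈ A)
    (hN : IsPGroup 2 N) {c r : Γ} (hr : r ∈ N) (hc : c ∈ N) (hcinv : Inverts ρ A c)
    (hrc : ∀ u ∈ S, ρ (r * r) u = ρ c u) (hc2 : ∀ u ∈ S, ρ (c * c) u = u)
    (hkill : ∀ u ∈ S, ρ r (ρ c u - u) = ρ c u - u) (hcd : c ∈ ⁅N, N⁆) {x y : S}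
    (hx : x ≠ 0) (hxf : ∀ b ∈ N, ρ b (x : V) = x) (hyf : ∀ b ∈ N, ρ b (y : V) = y) :
    ∃ a : F, y = a • x := by
  classical
  haveI := nontrivial_of_simple hS
  set Γ' := stabSub ρ S
  set τ := restrictHom ρ S
  have hNΓ : N ≤ Γ' := fun b hb => mem_stabSub.mpr (hNS b hb)
  have hAΓ : A ≤ Γ' := le_stab hS.2.1
  -- the image in the unit group
  let u : Γ' →* (Module.End F S)ˣ := τ.toHomUnits
  let Q : Subgroup (Module.End F S)ˣ := (A.subgroupOf Γ').map u
  let co : (Module.End F S)ˣ →* Module.End F S := Units.coeHom _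
  have hQmem : ∀ q : Q, ∃ e : Γ', (e : Γ) ∈ A ∧ u e = q := fun q => q.2
  haveI : Finite Q :=
    Finite.of_surjective (fun e : A.subgroupOf Γ' => (⟨u e, e, e.2, rfl⟩ : Q)) fun q => by
      obtain ⟨e, he, heq⟩ := hQmem q
      exact ⟨⟨e, he⟩, Subtype.ext heq⟩
  have hirr : IsIrred co Q := fun U hU => isIrred_restrict hS U fun g hg w hw =>
    hU (u g) ⟨g, hg, rfl⟩ w hw
  have hcomm : ∀ g ∈ Q, ∀ h ∈ Q, ∃ s : F, co ⁅g, h⁆ = s • 1 := by
    rintro _ ⟨a, ha, rfl⟩ _ ⟨b, hb, rfl⟩
    obtain ⟨s, hs⟩ := hH.comm _ ha _ hb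
    refine ⟨s, ?_⟩
    rw [← map_commutatorElement]
    exact LinearMap.ext fun w => Subtype.ext (by
      show ρ ⁅(a : Γ), (b : Γ)⁆ w = s • (w : V)
      exact (LinearMap.congr_fun hs (w : V)).trans (by simp))
  set R : Γ' := ⟨r, hNΓ hr⟩
  set T := τ R with hT
  set C := τ ⟨c, hNΓ hc⟩ with hC
  have hTT : T * T = C := LinearMap.ext fun w => Subtype.ext (by
    show ρ r (ρ r w) = ρ c w
    rw [← rho_mul]; exact hrc w w.2)
  have hCC : C * C = 1 := LinearMap.ext fun w => Subtype.ext (by
    show ρ c (ρ c w) = w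
    rw [← rho_mul]; exact hc2 w w.2)
  have hT4 : T ^ 4 = 1 := by
    rw [show (4 : ℕ) = 2 + 2 by norm_num, pow_add, pow_two, hTT, hCC]
  have hu4 : u R ^ 4 = 1 := Units.ext (by rw [Units.val_pow_eq_pow_val, Units.val_one]; exact hT4)
  have hQT : ∀ q ∈ Q, u R * q * (u R)⁻¹ ∈ Q := by
    rintro _ ⟨e, he, rfl⟩
    exact ⟨R * e * R⁻¹, hNA r hr _ he, by rw [map_mul, map_mul, map_inv]⟩
  have hQT' : ∀ q ∈ Q, (u R)⁻¹ * q * u R ∈ Q := by
    intro q hq
    have h3 : (u R)⁻¹ = u R * (u R * u R) := by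
      rw [inv_eq_iff_mul_eq_one, ← mul_assoc, ← mul_assoc, ← hu4]
      simp [pow_succ]
    rw [show (u R)⁻¹ * q * u R = (u R)⁻¹ * q * (u R)⁻¹⁻¹ by rw [inv_inv], h3]
    have := hQT _ (hQT _ (hQT _ hq))
    convert this using 1
    group
  let z : MulAut Q :=
    { toFun := fun q => ⟨u R * q * (u R)⁻¹, hQT _ q.2⟩
      invFun := fun q => ⟨(u R)⁻¹ * q * u R, hQT' _ q.2⟩
      left_inv := fun q => Subtype.ext (by simp [mul_assoc])
      right_inv := fun q => Subtype.ext (by simp [mul_assoc])
      map_mul' := fun a b => Subtype.ext (by simp [mul_assoc]) }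
  have hzpow : ∀ (j : ℕ) (q : Q),
      (((z ^ j) q : Q) : (Module.End F S)ˣ) = u R ^ j * q * (u R ^ j)⁻¹ := by
    intro j
    induction j with
    | zero => intro q; simp
    | succ j ih =>
      intro q
      rw [pow_succ', MulAut.mul_apply]
      show u R * _ * (u R)⁻¹ = _
      rw [ih, pow_succ', mul_inv_rev]
      simp [mul_assoc]
  have hzP : z ^ 4 = 1 := MulEquiv.ext fun q => Subtype.ext (by
    rw [hzpow, hu4, one_mul, inv_one, mul_one, MulAut.one_apply])
  set K := scalarSubgroup co Q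
  have hzK : ∀ (j : ℕ) (g : Q), g ∈ K → (z ^ j) g ∈ K := by
    rintro j g ⟨s, hs⟩
    refine ⟨s, ?_⟩
    rw [hzpow, map_mul, map_mul, hs, mul_smul_comm, mul_one, smul_mul_assoc, ← map_mul,
      mul_inv_cancel, map_one]
  have hfix2 : ∀ g : Q, g⁻¹ * (z ^ 2) g ∈ K → g ∈ K := by
    intro g hg
    obtain ⟨e, he, heq⟩ := hQmem g
    have hinv : (z ^ 2) g * g ∈ K := by
      obtain ⟨s, hs⟩ := hcinv e he
      refine ⟨s, ?_⟩
      have huc : u R ^ 2 = u ⟨c, hNΓ hc⟩ := Units.ext (by
        rw [Units.val_pow_eq_pow_val, pow_two]; exact hTT)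
      rw [Subgroup.coe_mul, hzpow, huc, ← heq, ← map_inv, ← map_mul, ← map_mul, ← map_mul]
      exact LinearMap.ext fun w => Subtype.ext (by
        show ρ (c * (e : Γ) * c⁻¹ * e) w = s • (w : V)
        rw [hs, LinearMap.smul_apply, Module.End.one_apply])
    have h2 : (g * g : Q) ∈ K := by
      have h3 := mul_mem ((scalarSubgroup_normal (ρ := co) (Q := Q)).conj_mem _ (inv_mem hg) g) hinv
      simpa [mul_assoc] using h3
    obtain ⟨m, hm⟩ := hA
    have he1 : (e : Γ') ^ Nat.card A = 1 := Subtype.ext (by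
      rw [SubgroupClass.coe_pow, Subgroup.coe_one]
      exact orderOf_dvd_iff_pow_eq_one.mp (Subgroup.orderOf_dvd_natCard A he))
    have hg1 : g ^ Nat.card A = 1 := Subtype.ext (by
      rw [SubgroupClass.coe_pow, ← heq, ← map_pow, he1, map_one, Subgroup.coe_one])
    have hgm : g = (g * g) ^ (m + 1) := by
      rw [← pow_two, ← pow_mul, show 2 * (m + 1) = Nat.card A + 1 by omega, pow_succ, hg1, one_mul]
    rw [hgm]
    exact pow_mem h2 _
  have hfree : ∀ g : Q, ∀ j, 0 < j → j < 4 → g⁻¹ * (z ^ j) g ∈ K → g ∈ K := by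
    intro g j hj0 hj4 hg
    refine hfix2 g ?_
    obtain rfl | hodd : j = 2 ∨ (j = 1 ∨ j = 3) := by omega
    · exact hg
    have h1 := mul_mem hg (hzK j _ hg)
    rw [map_mul, map_inv, mul_assoc, mul_inv_cancel_left, ← MulAut.mul_apply, ← pow_add] at h1
    rcases hodd with rfl | rfl
    · exact h1
    · rwa [show 3 + 3 = 4 + 2 by norm_num, pow_add, hzP, one_mul] at h1
  -- dimension
  set n := Module.finrank F S
  have hdim := finrank_commutant_mul (ρ := co) hirr hcomm T ((u R)⁻¹ : (Module.End F S)ˣ)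
    (by exact Units.mul_inv (u R)) (by exact Units.inv_mul (u R)) z
    (fun g => by
      show _ = ((z g : Q) : (Module.End F S)ˣ).val
      rw [show ((z g : Q) : (Module.End F S)ˣ) = u R * g * (u R)⁻¹ from rfl, Units.val_mul,
        Units.val_mul]
      rfl) (P := 4) (by norm_num) hT4 hzP hfree
  haveI : CharP (Module.End F S) 2 := charP_of_injective_algebraMap
    (FaithfulSMul.algebraMap_injective F (Module.End F S)) 2
  have hT3 : (T - 1) ^ 3 = 0 := by
    have h1 : (T - 1) * (T - 1) = C - 1 := by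
      rw [sub_mul, mul_sub, mul_one, one_mul, hTT]
      rw [CharTwo.sub_eq_add, CharTwo.sub_eq_add, CharTwo.sub_eq_add, CharTwo.sub_eq_add]
      rw [show C + T + (T + 1) = C + 1 + (T + T) by abel, CharTwo.add_self_eq_zero, add_zero]
    have h2 : T * (C - 1) = C - 1 := LinearMap.ext fun w => Subtype.ext (hkill w w.2)
    rw [show (3 : ℕ) = 1 + 2 by norm_num, pow_add, pow_one, pow_two, h1, sub_mul, one_mul, h2,
      sub_self]
  have hge := finrank_commutant_ge (T - 1) hT3
  have hinter : intertw (T - 1) (T - 1) = intertw T T := by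
    ext f
    rw [mem_intertw, mem_intertw]
    refine forall_congr' fun w => ?_
    simp [LinearMap.sub_apply, map_sub]
  rw [hinter] at hge
  have hn3 : n ≤ 3 := by
    set k := Module.finrank F ↥(intertw T T)
    rcases Nat.eq_zero_or_pos k with h0 | h0
    · rw [h0, mul_zero] at hge; nlinarith
    · have hd' : 4 * (k - 1) = n * n - 1 := hdim
      have hg' : n * n ≤ 3 * k := hge
      have h1 : 4 * k = n * n - 1 + 4 := by omega
      have hnn : 1 ≤ n * n := Nat.mul_pos Module.finrank_pos Module.finrank_pos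
      have h2 : 4 * k + 1 = n * n + 4 := by omega
      by_contra h4
      have h5 : 4 * 4 ≤ n * n := Nat.mul_le_mul (by omega) (by omega)
      generalize n * n = b at *
      omega
  -- the fixed space
  by_contra hcon
  push Not at hcon
  let P : Submodule F S :=
    { carrier := {w | ∀ b ∈ N, ρ b (w : V) = w}
      add_mem' := fun {a b} ha hb g hg => by
        rw [Submodule.coe_add, map_add, ha g hg, hb g hg]
      zero_mem' := fun g _ => by simp
      smul_mem' := fun s a ha g hg => by rw [Submodule.coe_smul, map_smul, ha g hg] }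
  have hP2 : 2 ≤ Module.finrank F P := by
    have hli : LinearIndependent F ![(⟨x, hxf⟩ : P), ⟨y, hyf⟩] := by
      rw [LinearIndependent.pair_iff' (fun h => hx (congrArg Subtype.val h))]
      exact fun a h => hcon a (congrArg Subtype.val h).symm
    have := hli.fintype_card_le_finrank
    simpa using this
  have hab : ∀ a ∈ N, ∀ b ∈ N, ∀ w : S, ρ a (ρ b (w : V)) = ρ b (ρ a (w : V)) := by
    intro a ha b hb
    -- every element moves into the fixed space
    have hinto : ∀ g (hg : g ∈ N) (w : S),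
        (⟨ρ g w - w, S.sub_mem (hNS g hg w w.2) w.2⟩ : S) ∈ P := by
      intro g hg w
      set M := τ ⟨g, hNΓ hg⟩ - 1 with hM
      have hMw : ∀ w : S, M w = ⟨ρ g w - w, S.sub_mem (hNS g hg w w.2) w.2⟩ :=
        fun w => Subtype.ext rfl
      have hPk : P ≤ LinearMap.ker M := fun w hw => by
        rw [LinearMap.mem_ker, hMw]; exact Subtype.ext (sub_eq_zero.mpr (hw g hg))
      rw [← hMw]
      have hrk : Module.finrank F (LinearMap.range M) ≤ 1 := by
        have h1 := M.finrank_range_add_finrank_ker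
        have h2 := Submodule.finrank_mono hPk
        omega
      obtain ⟨m, hm⟩ := exists_pow_eq_one hN hg
      have hMn : M ^ 2 ^ m = 0 := by
        have : Fact (Nat.Prime 2) := ⟨Nat.prime_two⟩
        rw [hM, sub_pow_char_pow_of_commute (p := 2) (h := Commute.one_right _), one_pow, ← map_pow,
          show (⟨g, hNΓ hg⟩ : Γ') ^ 2 ^ m = 1 from Subtype.ext hm, map_one, sub_self]
      by_cases hw0 : M w = 0
      · rw [hw0]; exact zero_mem P
      have hMM : ∀ w, M (M w) = 0 := by
        intro v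
        obtain ⟨s, hs⟩ : ∃ s : F, M (M w) = s • M w := by
          have hspan : LinearMap.range M = Submodule.span F {M w} :=
            (Submodule.eq_of_le_of_finrank_le
              ((Submodule.span_singleton_le_iff_mem _ _).mpr (LinearMap.mem_range_self M w))
              (by rw [finrank_span_singleton hw0]; exact hrk)).symm
          obtain ⟨s, hs⟩ := Submodule.mem_span_singleton.mp
            (hspan ▸ LinearMap.mem_range_self M (M w))
          exact ⟨s, hs.symm⟩
        have hpow : ∀ k : ℕ, (M ^ k) (M w) = s ^ k • M w := by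
          intro k
          induction k with
          | zero => simp
          | succ k ih => rw [pow_succ', Module.End.mul_apply, ih, map_smul, hs, smul_smul, pow_succ]
        have h2 := hpow (2 ^ m)
        rw [hMn, LinearMap.zero_apply] at h2
        have hs0 : s = 0 := pow_eq_zero_iff (n := 2 ^ m) (by positivity) |>.mp
          ((smul_eq_zero.mp h2.symm).resolve_right hw0)
        rw [hs0, zero_smul] at hs
        have hspan : LinearMap.range M = Submodule.span F {M w} :=
          (Submodule.eq_of_le_of_finrank_le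
            ((Submodule.span_singleton_le_iff_mem _ _).mpr (LinearMap.mem_range_self M w))
            (by rw [finrank_span_singleton hw0]; exact hrk)).symm
        obtain ⟨t, ht⟩ := Submodule.mem_span_singleton.mp (hspan ▸ LinearMap.mem_range_self M v)
        rw [← ht, map_smul, hs, smul_zero]
      -- the kernel is the fixed space
      have hkerP : LinearMap.ker M = P := by
        refine (Submodule.eq_of_le_of_finrank_le hPk ?_).symm
        have h1 := M.finrank_range_add_finrank_ker
        have h3 : 1 ≤ Module.finrank F (LinearMap.range M) :=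
          Submodule.one_le_finrank_iff.mpr (fun h => hw0 (by
            rw [LinearMap.range_eq_bot.mp h]; rfl))
        omega
      exact hkerP ▸ LinearMap.mem_ker.mpr (hMM w)
    intro w
    have h1 := hinto b hb w a ha
    have h2 := hinto a ha w b hb
    simp only [map_sub] at h1 h2
    have h3 : ρ a (ρ b (w : V)) = ρ b w + ρ a w - w := by
      rw [← sub_add_cancel (ρ a (ρ b (w : V))) (ρ a w), h1]; abel
    have h4 : ρ b (ρ a (w : V)) = ρ a w + ρ b w - w := by
      rw [← sub_add_cancel (ρ b (ρ a (w : V))) (ρ b w), h2]; abel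
    rw [h3, h4, add_comm]
  -- so `c` is trivial on the slot
  let Z : Subgroup Γ :=
    { carrier := {g | g ∈ N ∧ ∀ w ∈ S, ρ g w = w}
      one_mem' := ⟨one_mem N, fun w _ => by simp⟩
      mul_mem' := fun {a b} ha hb => ⟨mul_mem ha.1 hb.1, fun w hw => by
        rw [rho_mul, hb.2 w hw, ha.2 w hw]⟩
      inv_mem' := fun {a} ha => ⟨inv_mem ha.1, fun w hw => by
        conv_lhs => rw [← ha.2 w hw, rho_inv_rho]⟩ }
  have hcZ : c ∈ Z := by
    refine (Subgroup.commutator_le.mpr fun a ha b hb => ⟨?_, fun w hw => ?_⟩ : ⁅N, N⁆ ≤ Z) hcd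
    · rw [commutatorElement_def]
      exact mul_mem (mul_mem (mul_mem ha hb) (inv_mem ha)) (inv_mem hb)
    · rw [commutatorElement_def, rho_mul, rho_mul, rho_mul]
      have h1 := hab a ha b hb ⟨ρ a⁻¹ (ρ b⁻¹ w),
        hNS _ (inv_mem ha) _ (hNS _ (inv_mem hb) _ hw)⟩
      rw [h1, rho_rho_inv, rho_rho_inv]
  -- every element of the block is then scalar
  have hscal : ∀ q : Q, q ∈ K := fun q => hfix2 q (by
    have huc : u R ^ 2 = 1 := Units.ext (by
      rw [Units.val_pow_eq_pow_val, pow_two, Units.val_one]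
      exact hTT.trans (LinearMap.ext fun w => Subtype.ext (hcZ.2 w w.2)))
    rw [show (z ^ 2) q = q from Subtype.ext (by rw [hzpow, huc, one_mul, inv_one, mul_one]),
      inv_mul_cancel]
    exact one_mem K)
  have hn1 : n ≤ 1 := by
    have h := card_quotient_scalar hirr hcomm
    have hK : scalarSubgroup co Q = ⊤ := eq_top_iff.mpr fun q _ => hscal q
    have h1 : Nat.card (Q ⧸ scalarSubgroup co Q) = 1 := by
      rw [← Subgroup.index_eq_card, hK, Subgroup.index_top]
    rw [h1] at h
    exact (Nat.le_mul_self n).trans h.ge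
  have := Submodule.finrank_le P
  omega

end Dim

end Cfsg.Agent.TwoLength
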