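/-
Chains of length at least three are impossible on a moved block (helper83).

Main results (namespace `Cfsg.Agent.TwoLength`):
* big_core: the three cases
* local_main: the local theorem
-/
import Cfsg.Agent.Lib.TwoLength.Fixed

set_option autoImplicit false
set_option linter.style.haveILetI false
set_option linter.unusedSectionVars false
set_option maxHeartbeats 1000000

open scoped commutatorElement

namespace Cfsg.Agent.TwoLength

open HallHigman

variable {Γ : Type*} [Group Γ] [Finite Γ] {F : Type*} [Field F] [IsAlgClosed F] [CharP F 2]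
  {V : Type*} [AddCommGroup V] [Module F V] [FiniteDimensional F V] {ρ : Γ →* Module.End F V}
  {E G J A : Subgroup Γ}

/-- `f - 1`, stated for a general module as subtraction of endomorphisms of a subspace of a
dual space is not found directly. -/
def dl {F : Type*} [Field F] {X : Type*} [AddCommGroup X] [Module F X] (f : Module.End F X) :
    Module.End F X := f - 1

theorem dl_apply {F : Type*} [Field F] {X : Type*} [AddCommGroup X] [Module F X]
    (f : Module.End F X) (u : X) : dl f u = f u - u := rfl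

/-- A functional separating a vector from a line. -/
theorem exists_sep {F : Type*} [Field F] {X : Type*} [AddCommGroup X] [Module F X] {x φ : X}
    (hφ : ∀ a : F, φ ≠ a • x) : ∃ h : X →ₗ[F] F, h x = 0 ∧ h φ = 1 := by
  have hnot : φ ∉ Submodule.span F {x} := fun h => by
    obtain ⟨s, hs⟩ := Submodule.mem_span_singleton.mp h
    exact hφ s hs.symm
  obtain ⟨h', h1, h2⟩ := Submodule.exists_dual_map_eq_bot_of_notMem hnot inferInstance
  refine ⟨(h' φ)⁻¹ • h', ?_, by simp [inv_mul_cancel₀ h1]⟩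
  have h3 : h' x ∈ (Submodule.span F {x}).map h' :=
    ⟨x, Submodule.mem_span_singleton_self x, rfl⟩
  rw [h2, Submodule.mem_bot] at h3
  simp [h3]

theorem finrank_dl {F : Type*} [Field F] {X : Type*} [AddCommGroup X] [Module F X]
    [FiniteDimensional F X] (f : Module.End F X) :
    Module.finrank F (LinearMap.range (dl f)) + Module.finrank F (LinearMap.ker (dl f)) =
      Module.finrank F X := LinearMap.finrank_range_add_finrank_ker (dl f)

theorem ker_dl_ne_line {F : Type*} [Field F] {X : Type*} [AddCommGroup X] [Module F X]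
    [FiniteDimensional F X] (f : Module.End F X) {x : X} (hx : x ≠ 0)
    (hle : LinearMap.range (dl f) ≤ LinearMap.ker (dl f))
    (e : Submodule.span F {x} = LinearMap.ker (dl f)) (h3 : 3 ≤ Module.finrank F X) : False := by
  have h1 := finrank_dl f
  have h2 := Submodule.finrank_mono hle
  rw [← e, finrank_span_singleton hx] at h1 h2
  omega

theorem eq_add_of_dsub {X : Type*} [AddCommGroup X] {a b c : X} (h : a - b = c) : a = b + c :=
  sub_eq_iff_eq_add'.mp h

theorem apply_dadd {F : Type*} [Field F] {X Y : Type*} [AddCommMonoid X] [Module F X]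
    [AddCommMonoid Y] [Module F Y] (f : X →ₗ[F] Y) (a b : X) : f (a + b) = f a + f b := map_add f a b

theorem apply_dsub {F : Type*} [Field F] {X Y : Type*} [AddCommGroup X] [Module F X]
    [AddCommGroup Y] [Module F Y] (f : X →ₗ[F] Y) (a b : X) : f (a - b) = f a - f b := map_sub f a b

section NoClass

variable {hH : Heis (dualRep ρ) A} {S : Submodule F (Module.Dual F V)}
  {hS : IsSimpleInv (dualRep ρ) A S} {x : S}

theorem eps_invariant (D : Slot hH hS G x) {g : Γ} (hg : g ∈ G) (u : V) :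
    D.ε (ρ g u) = D.ε u := by
  have h := LinearMap.congr_fun (D.fix g⁻¹ (inv_mem hg)) u
  rwa [dualRep_apply, inv_inv] at h

theorem chainOn_le_ker (D : Slot hH hS G x) (i : ℕ) :
    chainOn ρ G ⊤ (i + 1) ≤ LinearMap.ker D.ε :=
  chainOn_succ_le fun g hg u _ => by
    rw [LinearMap.mem_ker, map_sub, eps_invariant D (ser_le_self G i hg), sub_self]

/-- A class fixed by the stabiliser has independent translates. -/
theorem exists_lift (D : Slot hH hS G x)
    (hcross : ∀ g ∈ G, g ∉ stabBlock G A → ∀ e ∈ A, ∀ f ∈ A,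
      Commute (dualRep ρ (g * e * g⁻¹)) (dualRep ρ f))
    {φ : S} (hφ : ∀ a : F, φ ≠ a • x) :
    ∀ f : (↥G ⧸ (stabBlock G A).subgroupOf G) → F, ∃ u ∈ LinearMap.ker D.ε,
      ∀ q, D.emb φ (ρ ((Quotient.out q : ↥G) : Γ)⁻¹ u) = f q := by
  classical
  set H := (stabBlock G A).subgroupOf G
  let L : V →ₗ[F] F × ((↥G ⧸ H) → F) := LinearMap.prod D.ε
    (LinearMap.pi fun q => (D.emb φ).comp (ρ ((Quotient.out q : ↥G) : Γ)⁻¹))
  suffices hL : LinearMap.range L = ⊤ by
    intro f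
    obtain ⟨u, hu⟩ := LinearMap.range_eq_top.mp hL (0, f)
    exact ⟨u, congrArg Prod.fst hu, fun q => congrFun (congrArg Prod.snd hu) q⟩
  by_contra hne
  obtain ⟨Λ, hΛ0, hΛ⟩ := Submodule.exists_le_ker_of_lt_top _ (lt_top_iff_ne_top.mpr hne)
  haveI : Fintype (↥G ⧸ H) := Fintype.ofFinite _
  set a := Λ (1, 0)
  let c : (↥G ⧸ H) → F := fun q => Λ (0, Pi.single q 1)
  have hdec : ∀ t : F × ((↥G ⧸ H) → F), Λ t = t.1 * a + ∑ q, t.2 q * c q := by
    intro t
    have e : t = t.1 • ((1 : F), (0 : (↥G ⧸ H) → F)) +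
        ∑ q, t.2 q • ((0 : F), (Pi.single q 1 : (↥G ⧸ H) → F)) := by
      refine Prod.ext ?_ ?_
      · simp [Prod.fst_sum]
      · funext q; simp [Prod.snd_sum, Finset.sum_apply, Pi.single_apply]
    conv_lhs => rw [e]
    rw [map_add, map_smul, map_sum, smul_eq_mul]
    simp only [map_smul, smul_eq_mul, c, a]
  have hrel : a • D.ε + ∑ q, c q • dualRep ρ ((Quotient.out q : ↥G) : Γ) (D.emb φ) = 0 := by
    refine LinearMap.ext fun u => ?_
    have h1 : Λ (L u) = 0 := LinearMap.mem_ker.mp (hΛ ⟨u, rfl⟩)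
    rw [hdec] at h1
    rw [LinearMap.add_apply, LinearMap.smul_apply, LinearMap.sum_apply, LinearMap.zero_apply,
      ← h1, smul_eq_mul, mul_comm]
    refine congrArg₂ (· + ·) rfl (Finset.sum_congr rfl fun q _ => ?_)
    rw [LinearMap.smul_apply, smul_eq_mul, dualRep_apply, mul_comm]
    rfl
  -- separating functionals
  obtain ⟨h', hx', hφ'⟩ := exists_sep (X := S) (x := x) (φ := φ) hφ
  set b := spanOp hH hS (LinearMap.smulRight h' x) with hb
  have hbε : b D.ε = 0 := by rw [hb, D.op_eps]; simp [hx']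
  have hbφ : b (D.emb φ) = D.ε := by
    rw [hb, D.emb_apply, ← Module.End.mul_apply, ← spanOp_mul, D.op_eps, ← D.emb_x]
    congr 1
    simp [D.h_x, hφ']
  have hc : ∀ q, c q = 0 := by
    intro q₀
    set o := fun q : ↥G ⧸ H => ((Quotient.out q : ↥G) : Γ)
    have h2 := congrArg b (congrArg (dualRep ρ (o q₀)⁻¹) hrel)
    simp only [map_add, map_sum, map_smul, map_zero] at h2
    rw [D.fix _ (inv_mem (Quotient.out q₀).2), hbε, smul_zero, zero_add,
      Finset.sum_eq_single q₀] at h2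
    · rw [rho_inv_rho, hbφ] at h2
      exact (smul_eq_zero.mp h2).resolve_right D.ne
    · intro q _ hq
      have hn : (o q₀)⁻¹ * o q ∉ stabBlock G A := fun hmem => hq (by
        rw [← QuotientGroup.out_eq' q, ← QuotientGroup.out_eq' q₀, eq_comm, QuotientGroup.eq]
        exact hmem)
      rw [← rho_mul, D.kill hcross (M := b) (spanOp_mem hH hS _) hbε
        (mul_mem (inv_mem (Quotient.out q₀).2) (Quotient.out q).2) hn, smul_zero]
    · intro h; exact absurd (Finset.mem_univ q₀) h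
  have ha : a = 0 := by
    rw [Finset.sum_eq_zero (fun q _ => by rw [hc q, zero_smul]), add_zero] at hrel
    exact (smul_eq_zero.mp hrel).resolve_right D.ne
  exact hΛ0 (LinearMap.ext fun t => by rw [hdec, ha]; simp [hc])

/-- A fixed class is nonzero on the chain when the block moves. -/
theorem no_class (hG : IsPGroup 2 G) (D : Slot hH hS G x)
    (hcross : ∀ g ∈ G, g ∉ stabBlock G A → ∀ e ∈ A, ∀ f ∈ A,
      Commute (dualRep ρ (g * e * g⁻¹)) (dualRep ρ f))
    (hSG : ∀ g ∈ stabBlock G A, ∀ u ∈ S, dualRep ρ g u ∈ S)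
    (hxf : ∀ g ∈ stabBlock G A, dualRep ρ g (x : Module.Dual F V) = x)
    {φ : S} (hφ : ∀ a : F, φ ≠ a • x)
    (hφf : ∀ g (hg : g ∈ stabBlock G A), ∃ a : F, act hSG hg φ = φ + a • x)
    {j : ℕ} (hj : ¬ ser G j ≤ stabBlock G A) :
    ∃ u ∈ chainOn ρ G ⊤ (j + 1), D.emb φ u ≠ 0 := by
  classical
  set H := (stabBlock G A).subgroupOf G
  set U := LinearMap.ker D.ε
  have hU : ∀ g ∈ G, ∀ u ∈ U, ρ g u ∈ U := fun g hg u hu => by
    rw [LinearMap.mem_ker] at hu ⊢; rw [eps_invariant D hg, hu]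
  have hη : ∀ h ∈ H, ∀ u ∈ U, D.emb φ (ρ ((h : ↥G) : Γ) u) = D.emb φ u := by
    intro h hh u hu
    have hh' : ((h : ↥G) : Γ)⁻¹ ∈ stabBlock G A := inv_mem hh
    obtain ⟨s, hs⟩ := hφf _ hh'
    have h1 : dualRep ρ ((h : ↥G) : Γ)⁻¹ (D.emb φ) = D.emb φ + s • D.ε := by
      rw [D.emb_act hSG hh' (hxf _ hh'), hs, map_add, map_smul, D.emb_x]
    have h2 := LinearMap.congr_fun h1 u
    rw [dualRep_apply, inv_inv, LinearMap.add_apply, LinearMap.smul_apply,
      LinearMap.mem_ker.mp hu, smul_zero, add_zero] at h2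
    exact h2
  have hj' : ¬ ser (⊤ : Subgroup ↥G) j ≤ H := fun h => hj fun g hg => by
    obtain ⟨y, hy, rfl⟩ : g ∈ (ser (⊤ : Subgroup ↥G) j).map G.subtype := by
      rw [ser_map, ← MonoidHom.range_eq_map, Subgroup.range_subtype]; exact hg
    exact h hy
  obtain ⟨u, hu, hne⟩ := exists_functional_ne_zero (F := F) hG (ρ.comp G.subtype) H U
    (fun g u hu => hU g g.2 u hu) (D.emb φ) hη (exists_lift D hcross hφ) hj'
  rw [chainOn_comp_subtype G hU] at hu
  exact ⟨u, chainOn_mono le_rfl le_top _ hu, hne⟩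

end NoClass

/-- The three cases. -/
theorem big_core [Nontrivial V] (hG : IsPGroup 2 G) (hH : Heis ρ J) (hirr : IsIrred ρ J)
    (hB : Block ρ J G A) {j : ℕ} (hk : ∀ g ∈ ser G (j + 3), ρ g = 1)
    (hchain : chainOn ρ G ⊤ (j + 3) = ⊥) {w : Γ} (hw : w ∈ ser G (j + 2))
    (hwC : w ∉ Cen ρ J) : False := by
  classical
  set G₀ := stabBlock G A with hG₀
  set σ := dualRep ρ
  have hGone : ∀ g ∈ G, g ∈ Cen ρ J → ρ g = 1 := fun g hg h => rho_eq_one_of_mem_Cen hirr hG hg h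
  have hmemG₀ : ∀ {g}, g ∈ G₀ → g ∈ G := fun h => (mem_stabBlock.mp h).1
  have hcross : ∀ g ∈ G, g ∉ G₀ → ∀ e ∈ A, ∀ f ∈ A, Commute (ρ (g * e * g⁻¹)) (ρ f) :=
    fun g hg hgn => (hB.block g hg).resolve_left fun h => hgn (mem_stabBlock.mpr ⟨hg, h⟩)
  have hcrossD : ∀ g ∈ G, g ∉ G₀ → ∀ e ∈ A, ∀ f ∈ A, Commute (σ (g * e * g⁻¹)) (σ f) :=
    fun g hg hgn e he f hf => dual_commute_iff.mpr (commute_inv_inv_iff.mpr (hcross g hg hgn e he f hf))
  have hAH : Heis ρ A := ⟨fun a ha b hb => hH.comm a (hB.le ha) b (hB.le hb), fun a ha h =>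
    hH.cent a (hB.le ha) (hB.commute _ fun g hg e he => by
      by_cases hg0 : g ∈ G₀
      · exact h _ ((mem_stabBlock.mp hg0).2 e he)
      · exact (hcross g hg hg0 e he a ha).symm)⟩
  have hAD := heis_dual hAH
  -- elements centralising all translates are trivial
  have hCenA : ∀ g ∈ G, (∀ h ∈ G, h⁻¹ * g * h ∈ Cen ρ A) → ρ g = 1 := fun g hg h =>
    hGone g hg (hB.commute _ fun t ht e he => by
      have h1 := commute_conj t (h t ht e he)
      rwa [show t * (t⁻¹ * g * t) * t⁻¹ = g by group] at h1)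
  haveI : Nontrivial (Module.Dual F V) := by
    obtain ⟨v, hv⟩ := exists_ne (0 : V)
    obtain ⟨φ, hφ⟩ := exists_dual_eq_one (F := F) hv
    exact ⟨⟨φ, 0, fun e => by simp [e] at hφ⟩⟩
  obtain ⟨S, hS, hSG⟩ := exists_stable_simple (ρ := σ) (E := A) (G := G₀) hAD
    (hG.to_le inf_le_left) (fun g hg => (mem_stabBlock.mp hg).2)
  haveI := nontrivial_of_simple hS
  have hG₀p : IsPGroup 2 G₀ := hG.to_le inf_le_left
  -- dimension
  have hwne : ρ w ≠ 1 := fun h => hwC fun e _ => by rw [h]; exact Commute.one_left _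
  set n := Module.finrank F S
  have hn : 2 ≤ n ∧ Odd n := by
    obtain ⟨-, -, hdvd⟩ := span_facts hAD hS
    have hodd : Odd n := (Nat.odd_mul.mp (hB.odd.of_dvd_nat hdvd)).1
    refine ⟨?_, hodd⟩
    have hpos : 0 < n := Module.finrank_pos (R := F) (M := S)
    by_contra hlt
    have hn1 : n = 1 := by omega
    refine hwC (hB.commute _ fun g hg e he => IsScal.commute ?_ (ρ w) |>.symm)
    obtain ⟨v, hv⟩ := exists_ne (0 : S)
    obtain ⟨s, hs⟩ := (finrank_eq_one_iff_of_nonzero' v hv).mp hn1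
      ⟨σ e⁻¹ v, hS.2.1 _ (inv_mem he) v v.2⟩
    have h2 : σ e⁻¹ = s • 1 := isScal_of_restrict hAD hS.1 hS.2.1 (inv_mem he) fun u hu => by
      obtain ⟨t, ht⟩ := (finrank_eq_one_iff_of_nonzero' v hv).mp hn1 ⟨u, hu⟩
      have hu' : u = t • (v : Module.Dual F V) := (congrArg Subtype.val ht).symm
      rw [hu', map_smul]
      exact (congrArg (t • ·) (congrArg Subtype.val hs).symm).trans (smul_comm t s _)
    obtain ⟨s', hs'⟩ := dual_isScal_iff.mp ⟨s, h2⟩
    rw [inv_inv] at hs'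
    exact ⟨s', by rw [IsScal.conj ⟨s', hs'⟩, hs']⟩
  -- a fixed class outside a line
  let τ := restrictHom σ S
  have hG₀S : G₀ ≤ stabSub σ S := fun g hg => mem_stabSub.mpr (hSG g hg)
  set P := G₀.subgroupOf (stabSub σ S)
  have hPp : IsPGroup 2 P :=
    hG₀p.of_equiv (Subgroup.subgroupOfEquivOfLe hG₀S).symm
  have hclass : ∀ (x : S), (∀ g ∈ G₀, σ g (x : Module.Dual F V) = x) → ∀ Z : Submodule F S,
      Submodule.span F {x} < Z → (∀ g (hg : g ∈ G₀), ∀ z ∈ Z, act hSG hg z ∈ Z) →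
      ∃ φ ∈ Z, (∀ a : F, φ ≠ a • x) ∧ ∀ g (hg : g ∈ G₀), ∃ a : F, act hSG hg φ = φ + a • x := by
    intro x hxf Z hlt hZ
    obtain ⟨φ, hφZ, hφn, hφf⟩ := exists_fixed_mod (ρ := τ) hPp hlt
      (fun g hg z hz => hZ g hg z hz)
      (fun g hg z hz => by
        obtain ⟨a, rfl⟩ := Submodule.mem_span_singleton.mp hz
        rw [map_smul]
        exact Submodule.smul_mem _ _ (by
          rw [show τ g x = x from Subtype.ext (hxf g hg)]
          exact Submodule.mem_span_singleton_self x))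
    refine ⟨φ, hφZ, fun a h => hφn (h ▸ Submodule.smul_mem _ _ (Submodule.mem_span_singleton_self x)),
      fun g hg => ?_⟩
    obtain ⟨a, ha⟩ := Submodule.mem_span_singleton.mp (hφf ⟨g, hG₀S hg⟩ hg)
    refine ⟨a, ?_⟩
    rw [ha]
    show act hSG hg φ = φ + (τ ⟨g, hG₀S hg⟩ φ - φ)
    exact (add_sub_cancel φ _).symm.trans rfl
  have hlt_span : ∀ x : S, Submodule.span F {x} < ⊤ := fun x => by
    refine lt_top_iff_ne_top.mpr fun h => ?_
    have h1 := finrank_span_le_card (R := F) ({x} : Set S)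
    rw [h, finrank_top] at h1
    simp at h1
    omega
  have hfixed : ∀ Z : Submodule F S, Z ≠ ⊥ → (∀ g (hg : g ∈ G₀), ∀ z ∈ Z, act hSG hg z ∈ Z) →
      ∃ x ∈ Z, x ≠ 0 ∧ ∀ g ∈ G₀, σ g (x : Module.Dual F V) = x := by
    intro Z hne hZ
    obtain ⟨x, hxZ, hx0, hxf⟩ := exists_fixed (ρ := τ) hPp hne (fun g hg z hz => hZ g hg z hz)
    exact ⟨x, hxZ, hx0, fun g hg => congrArg Subtype.val (hxf ⟨g, hG₀S hg⟩ hg)⟩
  -- the relations
  have hinvC : ∀ i, ∀ g ∈ G, ∀ u ∈ chainOn ρ G ⊤ i, ρ g u ∈ chainOn ρ G ⊤ i := fun i =>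
    (chainOn_inv (fun _ _ _ _ => Submodule.mem_top) i).2
  have hK1 : ∀ a ∈ ser G (j + 2), ∀ Ψ : Module.Dual F V, ∀ u ∈ chainOn ρ G ⊤ (j + 2),
      (σ a Ψ - Ψ) u = 0 := by
    intro a ha Ψ u hu
    have h1 := sub_mem_chainOn (ρ := ρ) (inv_mem ha) hu
    rw [hchain, Submodule.mem_bot, sub_eq_zero] at h1
    rw [LinearMap.sub_apply, dualRep_apply, h1, sub_self]
  have hK2 : ∀ b ∈ ser G (j + 1), ∀ a ∈ ser G (j + 2), ∀ Ψ : Module.Dual F V,
      ∀ u ∈ chainOn ρ G ⊤ (j + 1), (σ b (σ a Ψ - Ψ) - (σ a Ψ - Ψ)) u = 0 := by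
    intro b hb a ha Ψ u hu
    have h1 := sub_mem_chainOn (ρ := ρ) (inv_mem hb) hu
    rw [LinearMap.sub_apply, dualRep_apply, ← map_sub]
    exact hK1 a ha Ψ _ h1
  -- `G` moves a block early
  have hk2 : ∀ i, i ≤ j → ¬ ser G i ≤ G₀ := by
    intro i hi hle
    refine hwne (hCenA w (ser_le_self G _ hw) fun h hh => ?_)
    have h1 : h⁻¹ * w * h ∈ ser G (j + 2) := by
      simpa using conj_mem_ser_of_mem (inv_mem hh) hw
    have h2 : ser G (j + 2) ≤ ser (stabBlock G A) 2 := by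
      rw [← ser_add G j 2]
      exact ser_mono ((ser_antitone G hi).trans hle) 2
    exact block_ser_two hB hG (h2 h1)
  -- Case I
  by_cases hW : ser G (j + 2) ≤ G₀
  swap
  · obtain ⟨x, -, hx0, hxf⟩ := hfixed ⊤ top_ne_bot (fun _ _ _ _ => Submodule.mem_top)
    obtain ⟨D⟩ := exists_slot hAD hS hSG hcrossD hG hx0 hxf
    obtain ⟨φ, -, hφ, hφf⟩ := hclass x hxf ⊤ (hlt_span x) (fun _ _ _ _ => Submodule.mem_top)
    obtain ⟨u, hu, hne⟩ := no_class hG D hcrossD hSG hxf hφ hφf hW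
    rw [hchain, Submodule.mem_bot] at hu
    exact hne (by rw [hu, map_zero])
  -- a central involution
  let v : G →* (Module.End F V)ˣ := ρ.toHomUnits.comp G.subtype
  have hv : ∀ a b : G, v.rangeRestrict a = v.rangeRestrict b ↔ ρ (a : Γ) = ρ (b : Γ) :=
    fun a b => ⟨fun h => congrArg (fun t : v.range => ((t : (Module.End F V)ˣ) : Module.End F V)) h,
      fun h => Subtype.ext (Units.ext h)⟩
  have hv1 : ∀ a : G, v.rangeRestrict a = 1 ↔ ρ (a : Γ) = 1 := fun a => by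
    rw [← map_one v.rangeRestrict, hv, Subgroup.coe_one, map_one]
  have hvp : IsPGroup 2 v.range := hG.of_surjective v.rangeRestrict v.rangeRestrict_surjective
  haveI : Finite v.range := Finite.of_surjective _ v.rangeRestrict_surjective
  set Nv := (derivedSeries G (j + 2)).map v.rangeRestrict
  haveI : Nv.Normal := (derivedSeries_normal G _).map _ v.rangeRestrict_surjective
  obtain ⟨y₀, hy₀, hy₀w⟩ := (derivedSeries_map_subtype G (j + 2)).ge hw
  have hNv : Nv ≠ ⊥ := by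
    intro h
    have h1 : v.rangeRestrict y₀ ∈ Nv := ⟨_, hy₀, rfl⟩
    rw [h, Subgroup.mem_bot, hv1] at h1
    exact hwne (hy₀w ▸ h1)
  obtain ⟨z, hz1, hz⟩ : ∃ z ∈ Nv ⊓ Subgroup.center v.range, z ≠ 1 ∧ z * z = 1 := by
    obtain ⟨⟨z, hz⟩, hz1⟩ :=
      (Subgroup.ne_bot_iff_exists_ne_one).mp (PGroup.inf_center_ne_bot hvp hNv)
    obtain ⟨m, hm⟩ := IsPGroup.iff_orderOf.mp hvp z
    rcases m with _ | m
    · exact absurd (Subtype.ext (orderOf_eq_one_iff.mp hm)) hz1
    · refine ⟨z ^ 2 ^ m, pow_mem hz _, fun e => ?_, ?_⟩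
      · have h1 := Nat.le_of_dvd (pow_pos two_pos m) (orderOf_dvd_of_pow_eq_one e)
        rw [hm] at h1
        exact absurd h1 (Nat.pow_lt_pow_right one_lt_two m.lt_succ_self).not_ge
      · rw [← pow_add, ← two_mul, ← pow_succ', ← hm, pow_orderOf_eq_one]
  obtain ⟨hzN, hzc⟩ := Subgroup.mem_inf.mp hz1
  obtain ⟨c', hc', rfl⟩ := hzN
  set c : Γ := (c' : Γ) with hc
  have hcs : c ∈ ser G (j + 2) := (derivedSeries_map_subtype G _).le ⟨c', hc', rfl⟩
  have hcG : c ∈ G := c'.2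
  have hc0 : c ∈ G₀ := hW hcs
  have hcc : ρ c * ρ c = 1 := by
    have h1 := hz.2
    rw [← map_mul, hv1] at h1
    rw [← map_mul]
    exact h1
  have hc1 : ρ c ≠ 1 := fun h => hz.1 ((hv1 c').mpr h)
  have hcomm : ∀ g ∈ G, Commute (ρ c) (ρ g) := fun g hg => by
    have h1 := Subgroup.mem_center_iff.mp hzc (v.rangeRestrict ⟨g, hg⟩)
    rw [← map_mul, ← map_mul, hv] at h1
    show ρ c * ρ g = ρ g * ρ c
    rw [← map_mul, ← map_mul]
    exact h1.symm
  have hcinvρ : ρ c⁻¹ = ρ c := by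
    calc ρ c⁻¹ = ρ c⁻¹ * (ρ c * ρ c) := by rw [hcc, mul_one]
      _ = ρ c := by rw [← mul_assoc, ← map_mul, inv_mul_cancel, map_one, one_mul]
  have hCenEq : ∀ g h : Γ, ρ g = ρ h → g⁻¹ * h ∈ Cen ρ A := fun g h e f _ => by
    rw [map_mul, ← e, ← map_mul ρ g⁻¹, inv_mul_cancel, map_one]; exact Commute.one_left _
  have hcA : c ∉ Cen ρ A := fun h => hc1 (hCenA c hcG fun t ht e he => by
    have h1 : ρ (t⁻¹ * c * t) = ρ c := by
      rw [map_mul, map_mul, mul_assoc, (hcomm t ht).eq, ← mul_assoc, ← map_mul, inv_mul_cancel,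
        map_one, one_mul]
    rw [h1]
    exact h e he)
  have hcinv : Inverts ρ A c := by
    refine block_inv_of_central (z := (⟨c, hc0⟩ : G₀)) hB hG (fun q => ?_) ?_
      (fun e => hcA (mk_eq_one_iff.mp e))
    · obtain ⟨h', rfl⟩ := QuotientGroup.mk_surjective q
      refine mk_eq_iff.mpr (hCenEq _ _ ?_)
      rw [Subgroup.coe_mul, Subgroup.coe_mul, map_mul, map_mul]
      exact (hcomm h' (hmemG₀ h'.2)).eq
    · refine mk_eq_one_iff.mpr fun f _ => ?_
      rw [Subgroup.coe_mul, map_mul, hcc]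
      exact Commute.one_left _
  have hcσ : ∀ g ∈ G, ∀ Ψ, σ c (σ g Ψ) = σ g (σ c Ψ) := fun g hg Ψ => by
    have h1 : σ (c * g) = σ (g * c) := by
      rw [dual_eq_iff, mul_inv_rev, mul_inv_rev, map_mul, map_mul, hcinvρ]
      exact (hcomm _ (inv_mem hg)).eq.symm
    rw [← rho_mul, ← rho_mul, h1]
  have hcσ2 : ∀ Ψ, σ c (σ c Ψ) = Ψ := fun Ψ => LinearMap.ext fun u => by
    rw [← rho_mul, dualRep_apply, mul_inv_rev, map_mul, hcinvρ, hcc, Module.End.one_apply]
  set Cs := act hSG hc0 with hCs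
  have hCs : ∀ u : S, (Cs u : Module.Dual F V) = σ c u := fun u => rfl
  set I : Submodule F S := LinearMap.range (dl (F := F) (X := S) Cs)
  have hIinv : ∀ g (hg : g ∈ G₀), ∀ z ∈ I, act hSG hg z ∈ I := by
    rintro g hg _ ⟨u, rfl⟩
    refine ⟨act hSG hg u, Subtype.ext ?_⟩
    simp only [dl_apply, LinearMap.sub_apply, Module.End.one_apply, Submodule.coe_sub, map_sub, act_apply,
      hCs, hcσ g (hmemG₀ hg)]
  have hI : I ≠ ⊥ := by
    intro h
    refine hcA ((dual_mem_Cen (ρ := ρ)).mp fun e he => (commute_iff_conj _ _).mpr ?_)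
    have hct : ∀ u ∈ S, σ c u = u := fun u hu => by
      have h1 : (dl (F := F) (X := S) Cs) ⟨u, hu⟩ ∈ I := ⟨_, rfl⟩
      rw [h, Submodule.mem_bot, dl_apply, sub_eq_zero] at h1
      exact congrArg Subtype.val h1
    have h1 : σ (e⁻¹ * (c * e * c⁻¹)) = 1 := rho_eq_one_of_restrict hAD hS.1 hS.2.1
      (mul_mem (inv_mem he) ((mem_stabBlock.mp hc0).2 e he)) fun u hu => by
        have h2 : σ c⁻¹ u = u := by conv_lhs => rw [← hct u hu, rho_inv_rho]
        rw [rho_mul, rho_mul, rho_mul, h2, hct _ (hS.2.1 e he u hu), rho_inv_rho]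
    calc σ (c * e * c⁻¹) = σ e * σ (e⁻¹ * (c * e * c⁻¹)) := by rw [← map_mul, mul_inv_cancel_left]
      _ = σ e := by rw [h1, mul_one]
  have hcx : ∀ x ∈ I, Cs x = x := by
    rintro _ ⟨u, rfl⟩
    refine Subtype.ext ?_
    simp only [dl_apply, LinearMap.sub_apply, Module.End.one_apply, Submodule.coe_sub, hCs, map_sub, hcσ2]
    rw [sub_eq_add' F, sub_eq_add' F (σ c (u : Module.Dual F V)), add_comm]
  have hcross' : ∀ g ∈ G, g ∉ G₀ → ∀ e ∈ A, ∀ f ∈ A, Commute (σ (g * e * g⁻¹)) (σ f) := hcrossD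
  have hcconj : ∀ g ∈ G, ∃ h : g⁻¹ * c * g ∈ G₀,
      ∀ u : S, act hSG h u = Cs u := fun g hg => by
    have h0 : g⁻¹ * c * g ∈ G₀ := hW (by simpa using conj_mem_ser_of_mem (inv_mem hg) hcs)
    refine ⟨h0, fun u => Subtype.ext ?_⟩
    rw [act_apply, hCs, rho_mul, rho_mul, hcσ g hg, rho_inv_rho]
  -- Case II
  by_cases hN : ser G (j + 1) ≤ G₀
  swap
  · obtain ⟨x, hxI, hx0, hxf⟩ := hfixed I hI hIinv
    obtain ⟨D⟩ := exists_slot hAD hS hSG hcrossD hG hx0 hxf
    set K : Submodule F S := LinearMap.ker (dl (F := F) (X := S) Cs)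
    have hIK : I ≤ K := fun z hz => by
      rw [LinearMap.mem_ker, dl_apply, hcx z hz, sub_self]
    have hKlt : Submodule.span F {x} < K := by
      refine lt_of_le_of_ne ((Submodule.span_singleton_le_iff_mem _ _).mpr (hIK hxI)) fun e => ?_
      exact ker_dl_ne_line (F := F) (X := S) Cs hx0 hIK e (by
        obtain ⟨t, ht⟩ := hn.2
        omega)
    have hKinv : ∀ g (hg : g ∈ G₀), ∀ z ∈ K, act hSG hg z ∈ K := by
      intro g hg z hz
      rw [LinearMap.mem_ker, dl_apply, sub_eq_zero] at hz ⊢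
      refine Subtype.ext ?_
      rw [hCs, act_apply, hcσ g (hmemG₀ hg), ← hCs, hz]
    obtain ⟨φ, hφK, hφ, hφf⟩ := hclass x hxf K hKlt hKinv
    obtain ⟨g, hg, hgn⟩ := SetLike.not_le_iff_exists.mp hN
    have hgG := ser_le_self G _ hg
    obtain ⟨hgc, hgc'⟩ := hcconj g hgG
    obtain ⟨ψ, hψ⟩ := hxI
    obtain ⟨u, hu, hne⟩ := no_class hG D hcrossD hSG hxf hφ hφf hN
    refine hne ?_
    have hφc : Cs φ = φ := by
      rw [LinearMap.mem_ker, dl_apply, sub_eq_zero] at hφK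
      exact hφK
    have hψc : Cs ψ = ψ + x := by
      rw [← hψ, dl_apply, add_sub_cancel]
    have h1 := hK1 c hcs (D.mul g φ ψ) u hu
    rw [D.mul_act hSG hcrossD hgG hgn hc0 hgc hxf, hgc', show act hSG hc0 φ = φ from hφc, hψc,
      map_add, add_sub_cancel_left, D.mul_x_right hgG] at h1
    exact h1
  -- Case III
  set N := ser G (j + 1) with hNdef
  have hcN : c ∈ ⁅N, N⁆ := hcs
  have hNconj : ∀ g ∈ G, ∀ b ∈ N, g⁻¹ * b * g ∈ N := fun g hg b hb => by
    simpa using conj_mem_ser_of_mem (inv_mem hg) hb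
  have hcN' : c ∈ N := ser_succ_le_self G _ hcs
  set Y0 : Submodule F S := ⨆ b : N, LinearMap.range (dl (F := F) (X := S) (act hSG (hN b.2)) * (dl (F := F) (X := S) Cs))
  have hY0I : Y0 ≤ I := iSup_le fun b => by
    rintro _ ⟨u, rfl⟩
    refine ⟨act hSG (hN b.2) u - u, Subtype.ext ?_⟩
    simp only [dl_apply, Module.End.mul_apply, LinearMap.sub_apply, Module.End.one_apply, Submodule.coe_sub,
      map_sub, act_apply, hCs, hcσ _ (ser_le_self G _ b.2)]
  have hY0inv : ∀ g (hg : g ∈ G₀), ∀ z ∈ Y0, act hSG hg z ∈ Y0 := by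
    intro g hg z hz
    refine (iSup_le fun b => ?_ : Y0 ≤ Y0.comap (act hSG hg)) hz
    rintro _ ⟨u, rfl⟩
    refine Submodule.mem_iSup_of_mem
      ⟨g * b * g⁻¹, conj_mem_ser_of_mem (hmemG₀ hg) b.2⟩ ⟨act hSG hg u, Subtype.ext ?_⟩
    simp only [dl_apply, Module.End.mul_apply, LinearMap.sub_apply, Module.End.one_apply, Submodule.coe_sub,
      map_sub, act_apply, hCs, hcσ g (hmemG₀ hg)]
    simp only [← rho_mul, mul_assoc, inv_mul_cancel_left]
    simp only [rho_mul, rho_inv_rho]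
  obtain ⟨x, hxI, hx0, hxf, hxY⟩ : ∃ x ∈ I, x ≠ 0 ∧
      (∀ g ∈ G₀, σ g (x : Module.Dual F V) = x) ∧ (x ∈ Y0 ∨ Y0 = ⊥) := by
    by_cases hY : Y0 = ⊥
    · obtain ⟨x, h1, h2, h3⟩ := hfixed I hI hIinv
      exact ⟨x, h1, h2, h3, Or.inr hY⟩
    · obtain ⟨x, h1, h2, h3⟩ := hfixed Y0 hY hY0inv
      exact ⟨x, hY0I h1, h2, h3, Or.inl h1⟩
  obtain ⟨D⟩ := exists_slot hAD hS hSG hcrossD hG hx0 hxf
  obtain ⟨g₁, hg₁, hg₁n⟩ := SetLike.not_le_iff_exists.mp (hk2 j le_rfl)
  have hg₁G := ser_le_self G _ hg₁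
  -- the fixed space of `N` is a line
  let FixN : Submodule F S :=
    { carrier := {z | ∀ b ∈ N, σ b (z : Module.Dual F V) = z}
      add_mem' := fun {a b} ha hb g hg => by rw [Submodule.coe_add, map_add, ha g hg, hb g hg]
      zero_mem' := fun g _ => by simp
      smul_mem' := fun s a ha g hg => by rw [Submodule.coe_smul, map_smul, ha g hg] }
  have hFix : ∀ z ∈ FixN, ∃ a : F, z = a • x := by
    intro z hz
    by_contra hcon
    push Not at hcon
    rcases hxY with hxY | hY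
    · have hlt : Submodule.span F {x} < FixN := by
        refine lt_of_le_of_ne ((Submodule.span_singleton_le_iff_mem _ _).mpr
          fun b hb => hxf b (hN hb)) fun e => ?_
        obtain ⟨a, ha⟩ := Submodule.mem_span_singleton.mp (e.ge hz)
        exact hcon a ha.symm
      obtain ⟨φ, hφN, hφ, hφf⟩ := hclass x hxf FixN hlt fun g hg z hz b hb => by
        rw [act_apply]
        have h1 := congrArg (σ g) (hz _ (hNconj g (hmemG₀ hg) b hb))
        simp only [← rho_mul, mul_assoc, mul_inv_cancel_left] at h1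
        rw [rho_mul] at h1
        exact h1
      obtain ⟨u, hu, hne⟩ := no_class hG D hcrossD hSG hxf hφ hφf (hk2 j le_rfl)
      refine hne ?_
      let L : S →ₗ[F] F := (LinearMap.applyₗ u).comp (D.mul g₁ φ)
      have hker : Y0 ≤ LinearMap.ker L := iSup_le fun b => by
        rintro _ ⟨t, rfl⟩
        rw [LinearMap.mem_ker]
        show D.mul g₁ φ ((dl (F := F) (X := S) (act hSG (hN b.2)) * (dl (F := F) (X := S) Cs)) t) u = 0
        set β := g₁ * (b : Γ) * g₁⁻¹
        have hβN : β ∈ N := conj_mem_ser_of_mem hg₁G b.2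
        have hβ' : g₁⁻¹ * β * g₁ = b := by simp [β, mul_assoc]
        obtain ⟨hgc, hgc'⟩ := hcconj g₁ hg₁G
        have hφc : act hSG hc0 φ = φ := Subtype.ext (hφN c hcN')
        have hφβ : act hSG (hN hβN) φ = φ := Subtype.ext (hφN β hβN)
        have h2 : σ c (D.mul g₁ φ t) - D.mul g₁ φ t = D.mul g₁ φ ((dl (F := F) (X := S) Cs) t) := by
          rw [D.mul_act hSG hcrossD hg₁G hg₁n hc0 hgc hxf, hφc, hgc', dl_apply,
            map_sub]
        have h1 := hK2 β hβN c hcs (D.mul g₁ φ t) u hu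
        rw [h2, D.mul_act hSG hcrossD hg₁G hg₁n (hN hβN) (hN (hNconj g₁ hg₁G β hβN)) hxf, hφβ,
          ← map_sub] at h1
        refine Eq.trans ?_ h1
        congr 2
        refine Subtype.ext ?_
        simp only [dl_apply, Module.End.mul_apply, LinearMap.sub_apply, Module.End.one_apply,
          Submodule.coe_sub, act_apply, hβ']
      have h3 : D.mul g₁ φ x u = 0 := LinearMap.mem_ker.mp (hker hxY)
      rwa [D.mul_x_right hg₁G] at h3
    · have hkill : ∀ b (hb : b ∈ N), ∀ u ∈ S, σ b (σ c u - u) = σ c u - u := by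
        intro b hb u hu
        have h1 : (dl (F := F) (X := S) (act hSG (hN (⟨b, hb⟩ : N).2)) * (dl (F := F) (X := S) Cs)) ⟨u, hu⟩ ∈ Y0 :=
          Submodule.mem_iSup_of_mem (⟨b, hb⟩ : N) ⟨_, rfl⟩
        rw [hY, Submodule.mem_bot] at h1
        have h2 := congrArg Subtype.val h1
        simp only [dl_apply, Module.End.mul_apply, LinearMap.sub_apply, Module.End.one_apply,
          Submodule.coe_sub, act_apply, hCs, ZeroMemClass.coe_zero] at h2
        exact sub_eq_zero.mp h2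
      -- a square root of `c`
      obtain ⟨r, hr, hrc⟩ : ∃ r ∈ N, (r * r)⁻¹ * c ∈ Cen ρ A := by
        set Nq := (N.subgroupOf G₀).map
          (QuotientGroup.mk' ((Cen ρ A).subgroupOf G₀)) with hNq
        haveI hNqn : Nq.Normal := by
          refine Subgroup.Normal.map ⟨fun b hb g => ?_⟩ _ (QuotientGroup.mk'_surjective _)
          exact conj_mem_ser_of_mem (i := j + 1) (hmemG₀ g.2) (show (b : Γ) ∈ ser G (j + 1) from hb)
        have hNN : ⁅Nq, Nq⁆ = ((ser G (j + 2)).subgroupOf G₀).map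
            (QuotientGroup.mk' ((Cen ρ A).subgroupOf G₀)) := by
          rw [hNq, ← Subgroup.map_commutator]
          congr 1
          apply Subgroup.map_injective G₀.subtype_injective
          rw [Subgroup.map_commutator, Subgroup.map_subgroupOf_eq_of_le hN,
            Subgroup.map_subgroupOf_eq_of_le hW]
          rfl
        obtain ⟨rq, hrq, hrq2⟩ := block_exists_sqrt hB hG (N := Nq) (c := ((⟨c, hc0⟩ : G₀) :
            autBlock ρ G A)) (fun p hp q hq => by
          rw [hNN] at hp hq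
          obtain ⟨p', hp', rfl⟩ := hp
          obtain ⟨q', hq', rfl⟩ := hq
          refine mk_eq_iff.mpr (hCenEq _ _ ?_)
          have h1 := hk ⁅(p' : Γ), (q' : Γ)⁆ (commutator_mem_ser hp' hq')
          rw [Subgroup.coe_mul, Subgroup.coe_mul, map_mul, map_mul, rho_eq_commutator_mul, h1,
            one_mul]) (by rw [hNN]; exact ⟨⟨c, hc0⟩, hcs, rfl⟩)
          (fun e => hcA (mk_eq_one_iff.mp e))
          (mk_eq_one_iff.mpr fun f _ => by
            rw [Subgroup.coe_mul, map_mul, hcc]; exact Commute.one_left _)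
        obtain ⟨r', hr', rfl⟩ := hrq
        exact ⟨r', hr', (mk_eq_iff (ρ := ρ) (a := r' * r') (b := (⟨c, hc0⟩ : G₀))).mp hrq2⟩
      have hrcS : ∀ u ∈ S, σ (r * r) u = σ c u := by
        intro u hu
        have hm : (r * r)⁻¹ * c ∈ G₀ := mul_mem (inv_mem (mul_mem (hN hr) (hN hr))) hc0
        set d : stabSub σ S := ⟨(r * r)⁻¹ * c, hG₀S hm⟩
        have hd :=
          (mem_Cen_restrict_iff hAD hS d (fun e he => (mem_stabBlock.mp hm).2 e he)).mpr
            (dual_mem_Cen.mpr hrc)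
        have h1 := rho_eq_one_of_mem_Cen (isIrred_restrict hS) hPp (g := d) hm hd
        have h2 := congrArg (fun X => σ (r * r) ((X ⟨u, hu⟩ : S) : Module.Dual F V)) h1
        simp only [Module.End.one_apply] at h2
        rw [← h2]
        show σ (r * r) (σ ((r * r)⁻¹ * c) u) = σ c u
        rw [← rho_mul, mul_inv_cancel_left]
      obtain ⟨a, ha⟩ := eq_smul_of_fixed (ρ := σ) hAD hS hB.odd (N := N)
        (fun b hb => hSG b (hN hb)) (fun b hb => (mem_stabBlock.mp (hN hb)).2)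
        (hG.to_le (ser_le_self G _)) hr hcN'
        (fun e he => by
          rw [dual_isScal_iff]
          obtain ⟨s, hs⟩ := hcinv e⁻¹ (inv_mem he)
          refine ⟨s, ?_⟩
          rw [show (c * e * c⁻¹ * e)⁻¹ = e⁻¹ * (c * e⁻¹ * c⁻¹ * e⁻¹) * e by group, map_mul,
            map_mul, hs, mul_smul_comm, mul_one, smul_mul_assoc, ← map_mul, inv_mul_cancel,
            map_one])
        hrcS (fun u _ => by rw [rho_mul]; exact hcσ2 u) (fun u hu => hkill r hr u hu) hcN hx0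
        (fun b hb => hxf b (hN hb)) hz
      exact hcon a ha
  -- restriction to the chain
  set C := chainOn ρ G ⊤ (j + 1)
  have hεC : ∀ u ∈ C, D.ε u = 0 := fun u hu => LinearMap.mem_ker.mp (chainOn_le_ker D j hu)
  have hinj : ∀ φ : S, (∀ u ∈ C, D.emb φ u = 0) → ∃ a : F, φ = a • x := by
    intro φ hφ
    by_contra hcon
    push Not at hcon
    let Z : Submodule F S :=
      { carrier := {z | ∀ u ∈ C, D.emb z u = 0}
        add_mem' := fun {a b} ha hb u hu => by
          rw [map_add, LinearMap.add_apply, ha u hu, hb u hu, add_zero]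
        zero_mem' := fun u _ => by rw [map_zero, LinearMap.zero_apply]
        smul_mem' := fun s a ha u hu => by rw [map_smul, LinearMap.smul_apply, ha u hu, smul_zero] }
    have hxZ : x ∈ Z := fun u hu => by rw [D.emb_x, hεC u hu]
    have hlt : Submodule.span F {x} < Z := by
      refine lt_of_le_of_ne ((Submodule.span_singleton_le_iff_mem _ _).mpr hxZ) fun e => ?_
      obtain ⟨a, ha⟩ := Submodule.mem_span_singleton.mp (e.ge (show φ ∈ Z from hφ))
      exact hcon a ha.symm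
    obtain ⟨φ', hφ'Z, hφ', hφ'f⟩ := hclass x hxf Z hlt fun g hg z hz u hu => by
      rw [← D.emb_act hSG hg (hxf g hg), dualRep_apply]
      exact hz _ (hinvC _ _ (inv_mem (hmemG₀ hg)) u hu)
    obtain ⟨u, hu, hne⟩ := no_class hG D hcrossD hSG hxf hφ' hφ'f (hk2 j le_rfl)
    exact hne (hφ'Z u hu)
  -- the common restrictions
  obtain ⟨ψ, hψ⟩ := hxI
  have hψc : Cs ψ = ψ + x := by
    rw [← hψ, dl_apply, add_sub_cancel]
  obtain ⟨β, hβ, hξ⟩ : ∃ β, ∃ hβ : β ∈ N, ∀ a : F, act hSG (hN hβ) ψ - ψ ≠ a • x := by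
    by_contra hcon
    push Not at hcon
    let M : Subgroup Γ :=
      { carrier := {b | ∃ hb : b ∈ N, σ b (ψ : Module.Dual F V) = ψ}
        one_mem' := ⟨one_mem N, by simp⟩
        mul_mem' := fun {a b} ⟨ha, ha'⟩ ⟨hb, hb'⟩ => ⟨mul_mem ha hb, by rw [rho_mul, hb', ha']⟩
        inv_mem' := fun {a} ⟨ha, ha'⟩ => ⟨inv_mem ha, by conv_lhs => rw [← ha', rho_inv_rho]⟩ }
    have hshift : ∀ b (hb : b ∈ N), ∃ a : F, σ b (ψ : Module.Dual F V) = (ψ : Module.Dual F V) + a • (x : Module.Dual F V) := by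
      intro b hb
      obtain ⟨a, ha⟩ := hcon b hb
      exact ⟨a, by rw [← sub_eq_iff_eq_add', ← act_apply hSG (hN hb)]; exact congrArg Subtype.val ha⟩
    have hM : ⁅N, N⁆ ≤ M := Subgroup.commutator_le.mpr fun a ha b hb => by
      refine ⟨by rw [commutatorElement_def]; exact mul_mem (mul_mem (mul_mem ha hb) (inv_mem ha)) (inv_mem hb), ?_⟩
      obtain ⟨s, hs⟩ := hshift a ha
      obtain ⟨t, ht⟩ := hshift b hb
      have h1 : σ a (σ b (ψ : Module.Dual F V)) = σ b (σ a (ψ : Module.Dual F V)) := by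
        rw [ht, hs, map_add, map_add, map_smul, map_smul, hs, ht, hxf a (hN ha), hxf b (hN hb)]
        abel
      rw [← rho_mul, ← rho_mul] at h1
      have h2 := congrArg (σ (b * a)⁻¹) h1
      rw [rho_inv_rho, ← rho_mul] at h2
      have h3 : σ ((b * a) * ((b * a)⁻¹ * (a * b)) * (b * a)⁻¹) (σ (b * a) (ψ : Module.Dual F V)) =
          σ (b * a) ψ := by
        rw [← rho_mul, inv_mul_cancel_right, rho_mul, h2]
      obtain ⟨r, hr⟩ := hshift (b * a) (mul_mem hb ha)
      rw [show (b * a) * ((b * a)⁻¹ * (a * b)) * (b * a)⁻¹ = ⁅a, b⁆ by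
        rw [commutatorElement_def]; group, hr, map_add, map_smul,
        hxf _ (hN (by rw [commutatorElement_def]; exact mul_mem (mul_mem (mul_mem ha hb) (inv_mem ha)) (inv_mem hb)))] at h3
      exact add_right_cancel h3
    obtain ⟨_, h1⟩ := hM hcN
    rw [← hCs, hψc, Submodule.coe_add, add_eq_left] at h1
    exact hx0 (Subtype.ext h1)
  let Cperp : Submodule F (Module.Dual F V) := C.dualAnnihilator
  let Zs : Submodule F (Module.Dual F V) :=
    ⨅ g : G, ((LinearMap.range D.emb).map (σ (g : Γ)) ⊔ Cperp)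
  have hperp : ∀ {Ψ}, Ψ ∈ Cperp ↔ ∀ u ∈ C, Ψ u = 0 := Submodule.mem_dualAnnihilator _
  have hperpinv : ∀ g ∈ G, ∀ Ψ ∈ Cperp, σ g Ψ ∈ Cperp := fun g hg Ψ hΨ => hperp.mpr fun u hu => by
    rw [dualRep_apply]; exact hperp.mp hΨ _ (hinvC _ _ (inv_mem hg) u hu)
  set ξ : S := act hSG (hN hβ) ψ - ψ with hξdef
  have hξZ : D.emb ξ ∈ Zs := by
    rw [Submodule.mem_iInf]
    rintro ⟨g, hg⟩
    by_cases hg0 : g ∈ G₀
    · exact Submodule.mem_sup_left ⟨D.emb (act hSG (inv_mem hg0) ξ), ⟨_, rfl⟩, by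
        rw [← D.emb_act hSG (inv_mem hg0) (hxf _ (inv_mem hg0)), rho_rho_inv]⟩
    have hgb : g⁻¹ * β * g ∈ N := hNconj g hg β hβ
    set η := act hSG (hN hgb) ψ - ψ
    obtain ⟨hgc, hgc'⟩ := hcconj g hg
    have hrel : ∀ u ∈ C, (D.emb ξ + σ g (D.emb η)) u = 0 := by
      intro u hu
      have h1 : σ c (D.mul g ψ ψ) - D.mul g ψ ψ = D.emb ψ + σ g (D.emb ψ) + D.ε := by
        rw [D.mul_act hSG hcrossD hg hg0 hc0 hgc hxf, hgc', show act hSG hc0 ψ = ψ + x from hψc,
          apply_dadd (X := S), apply_dadd (X := S), LinearMap.add_apply,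
          LinearMap.add_apply, D.mul_x_right hg,
          D.mul_x_left hcrossD hg hg0, D.mul_x_left hcrossD hg hg0, D.emb_x, D.fix g hg]
        abel
      have h2 := hK2 β hβ c hcs (D.mul g ψ ψ) u hu
      rw [h1, map_add, map_add, D.fix β (ser_le_self G _ hβ)] at h2
      have h4 : σ β (σ g (D.emb ψ)) = σ g (D.emb (act hSG (hN hgb) ψ)) := by
        rw [← D.emb_act hSG (hN hgb) (hxf _ (hN hgb))]
        simp only [← rho_mul, mul_assoc, mul_inv_cancel_left]
      rw [D.emb_act hSG (hN hβ) (hxf _ (hN hβ)), h4] at h2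
      rw [← h2]
      simp only [η, hξdef, apply_dsub (X := S), map_sub, map_add, LinearMap.add_apply, LinearMap.sub_apply]
      ring
    refine Submodule.mem_sup.mpr ⟨σ g (D.emb η), ⟨_, ⟨_, rfl⟩, rfl⟩, D.emb ξ + σ g (D.emb η),
      hperp.mpr hrel, ?_⟩
    rw [add_comm (D.emb ξ), ← add_assoc, ← sub_eq_add' F (σ g (D.emb η)), sub_self, zero_add]
  have hlt : Cperp < Zs := by
    refine lt_of_le_of_ne (le_iInf fun g => le_sup_right) fun e => ?_
    obtain ⟨a, ha⟩ := hinj ξ (hperp.mp (e.ge hξZ))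
    exact hξ a ha
  obtain ⟨Ψ, hΨ, hΨn, hΨf⟩ := exists_fixed_mod (ρ := σ) hG hlt (fun g hg Ψ hΨ => by
      rw [Submodule.mem_iInf] at hΨ ⊢
      intro g'
      obtain ⟨a, ⟨b, hb, rfl⟩, p, hp, rfl⟩ :=
        Submodule.mem_sup.mp (hΨ ⟨g⁻¹ * g', mul_mem (inv_mem hg) g'.2⟩)
      refine Submodule.mem_sup.mpr ⟨σ (g' : Γ) b, ⟨b, hb, rfl⟩, σ g p, hperpinv g hg p hp, ?_⟩
      rw [map_add]
      congr 1
      simp only [← rho_mul, mul_inv_cancel_left]) hperpinv
  obtain ⟨a₁, ⟨b₁, ⟨w₀, rfl⟩, rfl⟩, p, hp, hsum⟩ :=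
    Submodule.mem_sup.mp ((Submodule.mem_iInf _).mp hΨ 1)
  rw [Subgroup.coe_one, map_one, Module.End.one_apply] at hsum
  have hwinv : ∀ g ∈ G, ∀ u ∈ C, D.emb w₀ (ρ g u) = D.emb w₀ u := by
    intro g hg u hu
    have h1 := hperp.mp (hΨf g⁻¹ (inv_mem hg)) u hu
    rw [LinearMap.sub_apply, dualRep_apply, inv_inv, sub_eq_zero, ← hsum, LinearMap.add_apply,
      LinearMap.add_apply, hperp.mp hp _ (hinvC _ g hg u hu), hperp.mp hp u hu, add_zero,
      add_zero] at h1
    exact h1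
  have hw₀x : ∀ a : F, w₀ ≠ a • x := fun a e => hΨn (hperp.mpr fun u hu => by
    rw [← hsum, LinearMap.add_apply, hperp.mp hp u hu, e, map_smul, D.emb_x, LinearMap.smul_apply,
      hεC u hu, smul_zero, add_zero])
  have hw₀f : ∀ g (hg : g ∈ G₀), ∃ a : F, act hSG hg w₀ = w₀ + a • x := by
    intro g hg
    obtain ⟨a, ha⟩ := hinj (act hSG hg w₀ - w₀) fun u hu => by
      rw [apply_dsub (X := S), LinearMap.sub_apply, ← D.emb_act hSG hg (hxf g hg), dualRep_apply,
        hwinv _ (inv_mem (hmemG₀ hg)) u hu, sub_self]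
    exact ⟨a, eq_add_of_dsub (X := S) ha⟩
  -- the corner
  set H := G₀.subgroupOf G
  have hker : ∀ (g : ↥G), ∀ u ∈ LinearMap.ker D.ε, ρ (g : Γ) u ∈ LinearMap.ker D.ε :=
    fun g u hu => by
      rw [LinearMap.mem_ker] at hu ⊢; rw [eps_invariant D g.2, hu]
  have hη : ∀ h ∈ G₀, ∀ u ∈ LinearMap.ker D.ε, D.emb w₀ (ρ h u) = D.emb w₀ u := by
    intro h hh u hu
    obtain ⟨s, hs⟩ := hw₀f _ (inv_mem hh)
    have h1 := LinearMap.congr_fun (D.emb_act hSG (inv_mem hh) (hxf _ (inv_mem hh)) w₀) u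
    rw [hs, map_add, map_smul, D.emb_x, dualRep_apply, inv_inv, LinearMap.add_apply,
      LinearMap.smul_apply, LinearMap.mem_ker.mp hu, smul_zero, add_zero] at h1
    exact h1
  let π : V →ₗ[F] (↥G ⧸ H → F) :=
    LinearMap.pi fun q => (D.emb w₀).comp (ρ ((Quotient.out q : ↥G) : Γ)⁻¹)
  have hserG : ∀ i (g : ↥G), g ∈ ser (⊤ : Subgroup ↥G) i ↔ (g : Γ) ∈ ser G i := by
    intro i g
    have h := ser_map G.subtype (⊤ : Subgroup ↥G) i
    rw [← MonoidHom.range_eq_map, Subgroup.range_subtype] at h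
    rw [← h]
    exact ⟨fun hg => ⟨g, hg, rfl⟩, fun ⟨y, hy, e⟩ => by rwa [← Subtype.ext e]⟩
  have hcorner := corner hG (ρ.comp G.subtype) (LinearMap.ker D.ε) hker (fun g u => by
      rw [LinearMap.mem_ker, map_sub]
      exact sub_eq_zero.mpr (eps_invariant D g.2 u)) j H π
    (fun g u hu => by
      funext q
      show D.emb w₀ (ρ ((Quotient.out q : ↥G) : Γ)⁻¹ (ρ (g : Γ) u)) =
        D.emb w₀ (ρ ((Quotient.out (g⁻¹ • q) : ↥G) : Γ)⁻¹ u)
      have hm : (Quotient.out q)⁻¹ * g * Quotient.out (g⁻¹ • q) ∈ H := by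
        rw [mul_assoc, ← QuotientGroup.eq, QuotientGroup.out_eq', ← smul_eq_mul,
          ← MulAction.Quotient.smul_coe, QuotientGroup.out_eq', smul_inv_smul]
      rw [← hη _ hm (ρ ((Quotient.out (g⁻¹ • q) : ↥G) : Γ)⁻¹ u)
        (hker (Quotient.out (g⁻¹ • q))⁻¹ u hu)]
      simp only [Subgroup.coe_subtype, Subgroup.coe_mul, Subgroup.coe_inv, ← rho_mul, mul_inv_cancel_right])
    (eq_top_iff.mpr fun f _ => by
      obtain ⟨u, hu, h⟩ := exists_lift D hcrossD hw₀x f
      exact ⟨u, hu, funext h⟩)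
    (fun g hg q => by
      induction q using QuotientGroup.induction_on with | _ a => ?_
      rw [MulAction.Quotient.smul_coe, smul_eq_mul, QuotientGroup.eq, mul_inv_rev]
      show (a : Γ)⁻¹ * (g : Γ)⁻¹ * a ∈ G₀
      exact hN (hNconj a a.2 _ (inv_mem ((hserG _ g).mp hg))))
    ⟨⟨g₁, hg₁G⟩, (hserG _ _).mpr hg₁, ((1 : ↥G) : ↥G ⧸ H), by
      rw [MulAction.Quotient.smul_coe, smul_eq_mul, mul_one, ne_eq, QuotientGroup.eq, mul_one,
        inv_mem_iff]
      exact hg₁n⟩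
    (fun u hu q r => by
      rw [chainOn_comp_subtype G (fun _ _ _ _ => Submodule.mem_top)] at hu
      show D.emb w₀ (ρ ((Quotient.out q : ↥G) : Γ)⁻¹ u) = D.emb w₀ (ρ ((Quotient.out r : ↥G) : Γ)⁻¹ u)
      rw [hwinv _ (inv_mem (Quotient.out q).2) u hu, hwinv _ (inv_mem (Quotient.out r).2) u hu])
  -- so `N` fixes `w₀`
  have hwN : w₀ ∈ FixN := by
    intro b hb
    have key : ∀ y : V, D.emb w₀ (ρ b⁻¹ y - y) = 0 := by
      intro y
      have h1 := congrFun (hcorner ⟨b⁻¹, inv_mem (ser_le_self G _ hb)⟩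
        ((hserG _ _).mpr (inv_mem hb)) y) ((1 : ↥G) : ↥G ⧸ H)
      have hout : ((Quotient.out ((1 : ↥G) : ↥G ⧸ H) : ↥G) : Γ) ∈ G₀ := by
        have h2 : ((Quotient.out ((1 : ↥G) : ↥G ⧸ H) : ↥G) : ↥G ⧸ H) = ((1 : ↥G) : ↥G ⧸ H) :=
          QuotientGroup.out_eq' _
        rw [QuotientGroup.eq, mul_one, inv_mem_iff] at h2
        exact h2
      change D.emb w₀ (ρ ((Quotient.out ((1 : ↥G) : ↥G ⧸ H) : ↥G) : Γ)⁻¹ (ρ b⁻¹ y - y)) = 0 at h1
      rwa [hη _ (inv_mem hout) _ (by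
        rw [LinearMap.mem_ker, map_sub, eps_invariant D (inv_mem (ser_le_self G _ hb)), sub_self])]
        at h1
    have h3 : σ b (D.emb w₀) = D.emb w₀ := LinearMap.ext fun y => by
      rw [dualRep_apply, ← sub_eq_zero, ← map_sub]
      exact key y
    rw [D.emb_act hSG (hN hb) (hxf _ (hN hb))] at h3
    have h4 := D.emb_injective h3
    rw [← act_apply hSG (hN hb)]
    exact congrArg Subtype.val h4
  obtain ⟨a, ha⟩ := hFix w₀ hwN
  exact hw₀x a ha

/-- The local theorem. -/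
theorem local_main (hE : Odd (Nat.card E)) (hnorm : ∀ g ∈ G, ∀ e ∈ E, g * e * g⁻¹ ∈ E)
    (hG : IsPGroup 2 G) (hH : Heis ρ E) {k : ℕ} (hk : ∀ g ∈ ser G k, ρ g = 1)
    (hchain : chainOn ρ G ⊤ k = ⊥) {w : Γ} (hw : w ∈ ser G (k - 1)) (hwC : w ∉ Cen ρ E) :
    k = 2 ∧ (∀ w' ∈ ser G 1, w' ∉ Cen ρ E → w'⁻¹ * w ∈ Cen ρ E) ∧
      ∀ x ∈ G, ∀ y ∈ G, ⁅x, y⁆ ∉ Cen ρ E → ⁅x, y⁆ * (x * x)⁻¹ ∈ Cen ρ E := by
  have hwne : ρ w ≠ 1 := fun h => hwC fun e _ => by rw [h]; exact Commute.one_left _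
  haveI : Nontrivial V := by
    by_contra hnt
    rw [not_nontrivial_iff_subsingleton] at hnt
    exact hwne (Subsingleton.elim _ _)
  obtain hk0 | hk1 | hk2 | ⟨j, rfl⟩ : k = 0 ∨ k = 1 ∨ k = 2 ∨ ∃ j, k = j + 3 := by
    rcases k with _ | _ | _ | j <;> simp
  · subst hk0; exact absurd (hk w hw) hwne
  · subst hk1
    refine absurd (LinearMap.ext fun v => ?_) hwne
    have h1 := sub_mem_chainOn (ρ := ρ) (G := G) (i := 0) hw (Submodule.mem_top (x := v))
    rw [hchain, Submodule.mem_bot, sub_eq_zero] at h1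
    rw [h1, Module.End.one_apply]
  · subst hk2
    refine ⟨rfl, ?_⟩
    obtain ⟨S, hS, hSG⟩ := exists_stable_simple hH hG hnorm
    haveI := nontrivial_of_simple hS
    have hGS : G ≤ stabSub ρ S := fun g hg => mem_stabSub.mpr (hSG g hg)
    set Γ' := stabSub ρ S
    have hcen : ∀ g : Γ', (g : Γ) ∈ G →
        (g ∈ Cen (restrictHom ρ S) (E.subgroupOf Γ') ↔ (g : Γ) ∈ Cen ρ E) := fun g hg =>
      mem_Cen_restrict_iff hH hS g (hnorm g hg)
    have hwG : w ∈ G := ser_le_self G _ hw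
    obtain ⟨h1, h2⟩ := local_two (ρ := restrictHom ρ S) (E := E.subgroupOf Γ')
      (G := G.subgroupOf Γ')
      (by rwa [Nat.card_congr (Subgroup.subgroupOfEquivOfLe (le_stab hS.2.1)).toEquiv])
      (fun g hg e he => hnorm g hg e he)
      (hG.of_equiv (Subgroup.subgroupOfEquivOfLe hGS).symm) (heis_restrict hH hS)
      (isIrred_restrict hS) (chain_restrict_eq_bot hGS hchain) (w := ⟨w, hGS hwG⟩)
      ((mem_ser_restrict_iff hGS _).mpr hw) (fun h => hwC ((hcen _ hwG).mp h))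
    refine ⟨fun w' hw' hw'C => ?_, fun x hx y hy hxy => ?_⟩
    · have hw'G : w' ∈ G := ser_le_self G _ hw'
      exact (hcen _ (mul_mem (inv_mem hw'G) hwG)).mp (h1 ⟨w', hGS hw'G⟩
        ((mem_ser_restrict_iff hGS _).mpr hw') fun h => hw'C ((hcen _ hw'G).mp h))
    · have hxyG : ⁅x, y⁆ ∈ G := ser_le_self G 1 (commutator_mem_ser (i := 0) hx hy)
      exact (hcen ⟨_, hGS (mul_mem hxyG (inv_mem (mul_mem hx hx)))⟩
        (mul_mem hxyG (inv_mem (mul_mem hx hx)))).mp
        (h2 ⟨x, hGS hx⟩ hx ⟨y, hGS hy⟩ hy fun h => hxy ((hcen ⟨_, hGS hxyG⟩ hxyG).mp h))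
  · exfalso
    obtain ⟨J, A, -, hJH, hB, w₁, hw₁, hw₁C⟩ :=
      exists_block hE hnorm hG hH (W := ser G (j + 2)) hw hwC
    obtain ⟨S, hS, hSG⟩ := exists_stable_simple hJH hG hB.norm
    haveI := nontrivial_of_simple hS
    have hGS : G ≤ stabSub ρ S := fun g hg => mem_stabSub.mpr (hSG g hg)
    set Γ' := stabSub ρ S
    have hJS : J ≤ Γ' := le_stab hS.2.1
    have hAS : A ≤ Γ' := hB.le.trans hJS
    have hcenA : ∀ g : Γ', (∀ e ∈ A, (g : Γ) * e * (g : Γ)⁻¹ ∈ A) →
        (g ∈ Cen (restrictHom ρ S) (A.subgroupOf Γ') ↔ (g : Γ) ∈ Cen ρ A) := by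
      intro g hg
      rw [mem_Cen, mem_Cen]
      constructor
      · intro h e he
        have h1 := h ⟨e, hAS he⟩ he
        rw [commute_iff_conj] at h1 ⊢
        exact (restrict_eq_iff hJH hS _ _ (hB.le (hg e he)) (hB.le he)).mp h1
      · intro h e he
        have h1 := h (e : Γ) he
        rw [commute_iff_conj] at h1 ⊢
        exact (restrict_eq_iff hJH hS _ _ (hB.le (hg _ he)) (hB.le he)).mpr h1
    have hinvA : ∀ g : Γ', (∀ e ∈ A, (g : Γ) * e * (g : Γ)⁻¹ ∈ A) →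
        (Inverts (restrictHom ρ S) (A.subgroupOf Γ') g ↔ Inverts ρ A (g : Γ)) := by
      intro g hg
      constructor
      · intro h e he
        exact (restrict_isScal_iff hJH hS _ (mul_mem (hB.le (hg e he)) (hB.le he))).mp
          (h ⟨e, hAS he⟩ he)
      · intro h e he
        exact (restrict_isScal_iff hJH hS _ (mul_mem (hB.le (hg _ he)) (hB.le he))).mpr (h _ he)
    have hB' : Block (restrictHom ρ S) (J.subgroupOf Γ') (G.subgroupOf Γ') (A.subgroupOf Γ') := by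
      refine ⟨fun a ha => hB.le ha, fun g hg e he => hB.norm g hg e he, fun g hg => ?_,
        ?_, ?_, fun d hd hdA hdd hconj => ?_⟩
      · rcases hB.block g hg with h | h
        · exact Or.inl fun e he => h e he
        · refine Or.inr fun e he f hf => LinearMap.ext fun u => Subtype.ext ?_
          exact LinearMap.congr_fun (h e he f hf).eq (u : V)
      · have hle : joinConj G A ≤
            (joinConj (G.subgroupOf Γ') (A.subgroupOf Γ')).map Γ'.subtype :=
          (Subgroup.closure_le _).mpr fun z ⟨g, hg, e, he, hz⟩ =>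
            ⟨⟨g, hGS hg⟩ * ⟨e, hAS he⟩ * ⟨g, hGS hg⟩⁻¹,
              conj_mem_joinConj (G := G.subgroupOf Γ') (A := A.subgroupOf Γ')
                (g := ⟨g, hGS hg⟩) (e := ⟨e, hAS he⟩) hg he, hz⟩
        intro y hy
        obtain ⟨y', hy', e⟩ := hle (hB.gen hy)
        rwa [show y = y' from Subtype.ext e.symm]
      · rw [Nat.card_congr (Subgroup.subgroupOfEquivOfLe hAS).toEquiv]; exact hB.odd
      · have hdA' : ∀ e ∈ A, (d : Γ) * e * (d : Γ)⁻¹ ∈ A := fun e he => hdA ⟨e, hAS he⟩ he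
        rw [hcenA d hdA', hinvA d hdA']
        refine hB.noSplit d hd hdA' ((hcenA (d * d) fun e he => by
          rw [show ((d * d : Γ') : Γ) * e * ((d * d : Γ') : Γ)⁻¹ =
            (d : Γ) * ((d : Γ) * e * (d : Γ)⁻¹) * (d : Γ)⁻¹ by
              rw [Subgroup.coe_mul]; group]
          exact hdA' _ (hdA' e he)).mp hdd) fun h hh hhA => ?_
        have hz : ∀ e ∈ A, ((d : Γ)⁻¹ * (h * d * h⁻¹)) * e * ((d : Γ)⁻¹ * (h * d * h⁻¹))⁻¹ ∈ A := by
          intro e he
          have h1 := norm_inv hdA' (hhA _ (hdA' _ (norm_inv hhA he)))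
          convert h1 using 1
          group
        have h1 := hconj ⟨h, hGS hh⟩ hh fun e he => hhA e he
        rwa [hcenA _ hz, hinvA _ hz] at h1
    refine big_core (G := G.subgroupOf Γ') (A := A.subgroupOf Γ') (ρ := restrictHom ρ S)
      (hG.of_equiv (Subgroup.subgroupOfEquivOfLe hGS).symm) (heis_restrict hJH hS)
      (isIrred_restrict hS) hB' (j := j) (fun g hg => ?_) (chain_restrict_eq_bot hGS hchain)
      (w := ⟨w₁, hGS (ser_le_self G _ hw₁)⟩) ((mem_ser_restrict_iff hGS _).mpr hw₁)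
      (fun h => hw₁C ((mem_Cen_restrict_iff hJH hS _
        (hB.norm w₁ (ser_le_self G _ hw₁))).mp h))
    refine LinearMap.ext fun u => Subtype.ext ?_
    rw [restrictHom_apply, hk _ ((mem_ser_restrict_iff hGS _).mp hg)]
    rfl

end Cfsg.Agent.TwoLength
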