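/-
The decomposition of a module by a normal subgroup of odd order and class at most two, and the
local theorem on a summand (helper83).

Main results (namespace `Cfsg.Agent.TwoLength`):
* Dsp, Dsp_indep, Dsp_iSup, Dsp_map, heis_Dsp
* fixC, eq_one_of_forall_mem_fixC
* le_stabSub_Dsp, local_facts
-/
import Cfsg.Agent.Lib.TwoLength.Big
import Mathlib.LinearAlgebra.Eigenspace.Pi
import Mathlib.LinearAlgebra.Eigenspace.Triangularizable
import Mathlib.LinearAlgebra.Projection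

set_option autoImplicit false
set_option linter.style.haveILetI false
set_option linter.unusedSectionVars false

open scoped commutatorElement

namespace Cfsg.Agent.TwoLength

open HallHigman Module.End

variable {H : Type*} [Group H] [Finite H] {F : Type*} [Field F]
  {V : Type*} [AddCommGroup V] [Module F V] {ρ : H →* Module.End F V} {K : Subgroup H}

/-- The sum of the conjugates under `K`. -/
noncomputable def classSum (ρ : H →* Module.End F V) (K : Subgroup H) (x : H) : Module.End F V :=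
  letI := Fintype.ofFinite K
  ∑ b : K, ρ ((b : H) * x * (b : H)⁻¹)

theorem classSum_conj [K.Normal] (h x : H) :
    ρ h * classSum ρ K x * ρ h⁻¹ = classSum ρ K (h * x * h⁻¹) := by
  letI := Fintype.ofFinite K
  unfold classSum
  rw [Finset.mul_sum, Finset.sum_mul]
  refine Fintype.sum_equiv (MulAut.conjNormal h).toEquiv _ _ fun b => ?_
  rw [← map_mul, ← map_mul]
  congr 1
  simp only [MulEquiv.toEquiv_eq_coe, MulEquiv.coe_toEquiv, MulAut.conjNormal_apply]
  group

theorem classSum_mul_left {c : H} (hc : c ∈ K) (x : H) :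
    ρ c * classSum ρ K x * ρ c⁻¹ = classSum ρ K x := by
  letI := Fintype.ofFinite K
  unfold classSum
  rw [Finset.mul_sum, Finset.sum_mul]
  refine Fintype.sum_equiv (Equiv.mulLeft (⟨c, hc⟩ : K)) _ _ fun b => ?_
  rw [← map_mul, ← map_mul]
  congr 1
  simp only [Equiv.coe_mulLeft, Subgroup.coe_mul]
  group

theorem commute_classSum {c : H} (hc : c ∈ K) (x : H) :
    Commute (ρ c) (classSum ρ K x) := by
  show _ = _
  calc ρ c * classSum ρ K x = ρ c * classSum ρ K x * (ρ c⁻¹ * ρ c) := by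
        rw [← map_mul, inv_mul_cancel, map_one, mul_one]
    _ = classSum ρ K x * ρ c := by rw [← mul_assoc, classSum_mul_left hc]

theorem commute_classSums [K.Normal] {x : H} (hx : x ∈ K) (y : H) :
    Commute (classSum ρ K x) (classSum ρ K y) := by
  letI := Fintype.ofFinite K
  rw [show classSum ρ K x = ∑ b : K, ρ ((b : H) * x * (b : H)⁻¹) from rfl]
  exact Commute.sum_left _ _ _ fun b _ =>
    commute_classSum ((inferInstance : K.Normal).conj_mem x hx b) y

/-- The joint generalised eigenspaces of the class sums. -/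
noncomputable def Dsp (ρ : H →* Module.End F V) (K : Subgroup H) (χ : K → F) : Submodule F V :=
  ⨅ x : K, (classSum ρ K (x : H)).maxGenEigenspace (χ x)

theorem Dsp_indep [K.Normal] : iSupIndep (Dsp ρ K) :=
  independent_iInf_maxGenEigenspace_of_forall_mapsTo (fun x : K => classSum ρ K (x : H))
    fun x y φ => mapsTo_maxGenEigenspace_of_comm (commute_classSums y.2 _) φ

theorem Dsp_inv {c : H} (hc : c ∈ K) (χ : K → F) : ∀ u ∈ Dsp ρ K χ, ρ c u ∈ Dsp ρ K χ := by
  intro u hu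
  unfold Dsp at hu ⊢
  rw [Submodule.mem_iInf] at hu ⊢
  exact fun x => mapsTo_maxGenEigenspace_of_comm (commute_classSum hc _).symm _ (hu x)

theorem Dsp_iSup [K.Normal] [IsAlgClosed F] [FiniteDimensional F V] :
    ⨆ χ, Dsp ρ K χ = ⊤ :=
  iSup_iInf_maxGenEigenspace_eq_top_of_forall_mapsTo (fun x : K => classSum ρ K (x : H))
    (fun x y φ => mapsTo_maxGenEigenspace_of_comm (commute_classSums y.2 _) φ)
    fun x => Module.End.iSup_maxGenEigenspace_eq_top _

/-- The action on the indices. -/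
def twist [hK : K.Normal] (h : H) (χ : K → F) : K → F := fun x =>
  χ ⟨h⁻¹ * x * h, by simpa using hK.conj_mem (x : H) x.2 h⁻¹⟩

theorem twist_twist [K.Normal] (g h : H) (χ : K → F) : twist g (twist h χ) = twist (g * h) χ := by
  funext x
  exact congrArg χ (Subtype.ext (by simp [mul_assoc]))

theorem twist_one [K.Normal] (χ : K → F) : twist 1 χ = χ := by
  funext x
  exact congrArg χ (Subtype.ext (by simp))

theorem Dsp_map_le [K.Normal] (h : H) (χ : K → F) :
    (Dsp ρ K χ).map (ρ h) ≤ Dsp ρ K (twist h χ) := by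
  rintro _ ⟨u, hu, rfl⟩
  unfold Dsp at hu ⊢
  rw [SetLike.mem_coe, Submodule.mem_iInf] at hu
  rw [Submodule.mem_iInf]
  intro x
  set y : K := ⟨h⁻¹ * x * h, by
    simpa using (inferInstance : K.Normal).conj_mem (x : H) x.2 h⁻¹⟩
  obtain ⟨k, hk⟩ := (mem_maxGenEigenspace _ _ _).mp (hu y)
  refine (mem_maxGenEigenspace _ _ _).mpr ⟨k, ?_⟩
  have hsemi : SemiconjBy (ρ h) (classSum ρ K (y : H) - χ y • 1) (classSum ρ K (x : H) - χ y • 1) := by
    refine SemiconjBy.sub_right ?_ ?_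
    · show ρ h * _ = _ * ρ h
      rw [show (x : H) = h * y * h⁻¹ by simp [y, mul_assoc], ← classSum_conj, mul_assoc,
        ← map_mul ρ h⁻¹ h, inv_mul_cancel, map_one, mul_one]
    · show ρ h * _ = _ * ρ h
      rw [mul_smul_comm, smul_mul_assoc, mul_one, one_mul]
  have h1 := (hsemi.pow_right k).eq
  show ((classSum ρ K (x : H) - χ y • 1) ^ k) (ρ h u) = 0
  rw [← Module.End.mul_apply, ← h1, Module.End.mul_apply, hk, map_zero]

theorem Dsp_map [K.Normal] (h : H) (χ : K → F) :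
    (Dsp ρ K χ).map (ρ h) = Dsp ρ K (twist h χ) := by
  refine le_antisymm (Dsp_map_le h χ) fun u hu => ⟨ρ h⁻¹ u, ?_, rho_rho_inv h u⟩
  have h1 := Dsp_map_le (ρ := ρ) h⁻¹ (twist h χ) ⟨u, hu, rfl⟩
  rwa [twist_twist, inv_mul_cancel, twist_one] at h1

theorem mem_stabSub_Dsp_of_twist [K.Normal] {h : H} {χ : K → F} (e : twist h χ = χ) :
    h ∈ stabSub ρ (Dsp ρ K χ) :=
  mem_stabSub.mpr fun u hu => by
    have h1 := Dsp_map_le (ρ := ρ) h χ ⟨u, hu, rfl⟩
    rwa [e] at h1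

theorem twist_eq_of_mem_stabSub [K.Normal] {h : H} {χ : K → F} (hne : Dsp ρ K χ ≠ ⊥)
    (hh : h ∈ stabSub ρ (Dsp ρ K χ)) : twist h χ = χ := by
  by_contra e
  obtain ⟨u, hu, hu0⟩ := Submodule.exists_mem_ne_zero_of_ne_bot hne
  refine hu0 ?_
  have h1 : ρ h u ∈ Dsp ρ K (twist h χ) := Dsp_map_le h χ ⟨u, hu, rfl⟩
  have h2 := (Dsp_indep (ρ := ρ) (K := K)).pairwiseDisjoint e
  have h3 : ρ h u = 0 := Submodule.disjoint_def.mp h2 _ h1 (mem_stabSub.mp hh u hu)
  rw [← rho_inv_rho (ρ := ρ) h u, h3, map_zero]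

/-- An element of odd order with one generalised eigenvalue on a vector scales it. -/
theorem apply_eq_smul_of_genEigen [CharP F 2] {f : Module.End F V} {n : ℕ} (hn : Odd n)
    (hf : f ^ n = 1) {c : F} {v : V} (hv : ∃ k : ℕ, ((f - c • 1) ^ k) v = 0) : f v = c • v := by
  rcases eq_or_ne v 0 with rfl | hv0
  · simp
  haveI : Nontrivial V := ⟨v, 0, hv0⟩
  haveI : CharP (Module.End F V) 2 :=
    charP_of_injective_algebraMap (FaithfulSMul.algebraMap_injective F (Module.End F V)) 2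
  obtain ⟨k, hk⟩ := hv
  have h2 : ((f - c • (1 : Module.End F V)) ^ 2 ^ k) v = 0 := by
    rw [show (2 : ℕ) ^ k = (2 ^ k - k) + k from (Nat.sub_add_cancel Nat.lt_two_pow_self.le).symm,
      pow_add, Module.End.mul_apply, hk, map_zero]
  haveI : Fact (Nat.Prime 2) := ⟨Nat.prime_two⟩
  rw [sub_pow_char_pow_of_commute (p := 2) (h := ((Commute.one_right f).smul_right c)),
    LinearMap.sub_apply, sub_eq_zero, smul_pow, one_pow, LinearMap.smul_apply,
    Module.End.one_apply] at h2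
  have hiter : ∀ a : ℕ, ((f ^ 2 ^ k) ^ a) v = (c ^ 2 ^ k) ^ a • v := by
    intro a
    induction a with
    | zero => simp
    | succ a ih => rw [pow_succ', Module.End.mul_apply, ih, map_smul, h2, smul_smul, ← pow_succ]
  obtain ⟨μ, hμ⟩ : ∃ μ : F, f v = μ • v := by
    obtain ⟨a, ha⟩ : ∃ a, 2 ^ k * a ≡ 1 [MOD n] := by
      have hco : Nat.Coprime (2 ^ k) n := (Nat.coprime_two_left.mpr hn).pow_left k
      rcases Nat.lt_or_ge 1 n with h | h
      · obtain ⟨a, ha⟩ := Nat.exists_mul_mod_eq_one_of_coprime hco h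
        exact ⟨a, by rw [Nat.ModEq, ha.2, Nat.mod_eq_of_lt h]⟩
      · obtain rfl : n = 1 := by obtain ⟨r, hr⟩ := hn; omega
        exact ⟨0, Nat.modEq_one⟩
    refine ⟨(c ^ 2 ^ k) ^ a, ?_⟩
    rw [← hiter, ← pow_mul, pow_eq_pow_mod (2 ^ k * a) hf, show 2 ^ k * a % n = 1 % n from ha,
      ← pow_eq_pow_mod 1 hf, pow_one]
  have hit2 : ∀ m : ℕ, ((f - c • 1) ^ m) v = (μ - c) ^ m • v := by
    intro m
    induction m with
    | zero => simp
    | succ m ih =>
      rw [pow_succ', Module.End.mul_apply, ih, map_smul, LinearMap.sub_apply,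
        LinearMap.smul_apply, Module.End.one_apply, hμ, ← sub_smul, smul_smul, ← pow_succ]
  rw [hit2] at hk
  rw [hμ, sub_eq_zero.mp (eq_zero_of_pow_eq_zero ((smul_eq_zero.mp hk).resolve_right hv0))]

variable [CharP F 2]

theorem odd_card_cast (hodd : Odd (Nat.card K)) : ((Nat.card K : ℕ) : F) = 1 := by
  obtain ⟨r, hr⟩ := hodd
  rw [hr, Nat.cast_add, Nat.cast_mul, Nat.cast_one, Nat.cast_ofNat, CharTwo.two_eq_zero, zero_mul,
    zero_add]

theorem heis_Dsp [K.Normal] (hodd : Odd (Nat.card K))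
    (hK2 : ∀ a ∈ K, ∀ b ∈ K, ∀ c ∈ K, Commute ⁅a, b⁆ c) (χ : K → F) :
    Heis (restrictHom ρ (Dsp ρ K χ)) (K.subgroupOf (stabSub ρ (Dsp ρ K χ))) := by
  have key : ∀ x : stabSub ρ (Dsp ρ K χ), (x : H) ∈ K →
      (∀ b ∈ K, ∀ u ∈ Dsp ρ K χ, ρ (b * (x : H) * b⁻¹) u = ρ (x : H) u) →
      IsScal (restrictHom ρ (Dsp ρ K χ)) x := by
    intro x hx hc
    refine ⟨χ ⟨x, hx⟩, LinearMap.ext fun u => Subtype.ext ?_⟩
    rw [restrictHom_apply, LinearMap.smul_apply, Module.End.one_apply, Submodule.coe_smul]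
    refine apply_eq_smul_of_genEigen hodd (f := ρ (x : H)) ?_ ?_
    · rw [← map_pow, orderOf_dvd_iff_pow_eq_one.mp (Subgroup.orderOf_dvd_natCard K hx), map_one]
    · have hE : ∀ w ∈ Dsp ρ K χ, classSum ρ K (x : H) w = ρ (x : H) w := by
        intro w hw
        letI := Fintype.ofFinite K
        unfold classSum
        rw [LinearMap.sum_apply, Finset.sum_congr rfl fun (b : K) _ => hc (b : H) b.2 w hw, Finset.sum_const,
          Finset.card_univ, ← Nat.cast_smul_eq_nsmul F, ← Nat.card_eq_fintype_card,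
          odd_card_cast hodd, one_smul]
      obtain ⟨k, hk⟩ := (mem_maxGenEigenspace _ _ _).mp
        ((Submodule.mem_iInf _).mp u.2 (⟨x, hx⟩ : K))
      have hpow : ∀ m : ℕ, ∀ w ∈ Dsp ρ K χ,
          ((classSum ρ K (x : H) - χ ⟨x, hx⟩ • 1) ^ m) w =
            ((ρ (x : H) - χ ⟨x, hx⟩ • 1) ^ m) w := by
        intro m
        induction m with
        | zero => simp
        | succ m ih =>
          intro w hw
          rw [pow_succ, pow_succ, Module.End.mul_apply, Module.End.mul_apply,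
            show (classSum ρ K (x : H) - χ ⟨x, hx⟩ • 1) w = (ρ (x : H) - χ ⟨x, hx⟩ • 1) w by
              rw [LinearMap.sub_apply, LinearMap.sub_apply, hE w hw]]
          refine ih _ ?_
          rw [LinearMap.sub_apply, LinearMap.smul_apply, Module.End.one_apply]
          exact Submodule.sub_mem _ (Dsp_inv hx χ w hw) (Submodule.smul_mem _ _ hw)
      exact ⟨k, (hpow k u u.2).symm.trans hk⟩
  refine ⟨fun a ha b hb => key _ ?_ fun c hc u _ => ?_, fun a ha hc => key a ha fun b hb u hu => ?_⟩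
  · show ⁅(a : H), (b : H)⁆ ∈ K
    rw [commutatorElement_def]
    exact mul_mem (mul_mem (mul_mem ha hb) (inv_mem ha)) (inv_mem hb)
  · show ρ (c * ⁅(a : H), (b : H)⁆ * c⁻¹) u = ρ ⁅(a : H), (b : H)⁆ u
    rw [← (hK2 (a : H) ha (b : H) hb c hc).eq, mul_inv_cancel_right]
  · have hbs : b ∈ stabSub ρ (Dsp ρ K χ) := mem_stabSub.mpr (Dsp_inv hb χ)
    have h1 := (commute_iff_conj _ _).mp ((hc ⟨b, hbs⟩ hb).symm)
    exact congrArg Subtype.val (LinearMap.congr_fun h1 ⟨u, hu⟩)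

/-- The elements of the stabiliser of `D` centralising `K` on `D`. -/
def fixC (ρ : H →* Module.End F V) (K : Subgroup H) [hK : K.Normal] (D : Submodule F V) :
    Subgroup H where
  carrier := {g | g ∈ stabSub ρ D ∧ ∀ e ∈ K, ∀ v ∈ D, ρ (g * e * g⁻¹) v = ρ e v}
  one_mem' := ⟨one_mem _, fun e _ v _ => by simp⟩
  mul_mem' := fun {a b} ha hb => ⟨mul_mem ha.1 hb.1, fun e he v hv => by
    rw [show a * b * e * (a * b)⁻¹ = a * (b * e * b⁻¹) * a⁻¹ by group,
      ha.2 _ (hK.conj_mem e he b) v hv, hb.2 e he v hv]⟩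
  inv_mem' := fun {a} ha => ⟨inv_mem ha.1, fun e he v hv => by
    rw [inv_inv]
    have h1 := ha.2 _ (by simpa using hK.conj_mem e he a⁻¹ : a⁻¹ * e * a ∈ K) v hv
    rw [show a * (a⁻¹ * e * a) * a⁻¹ = e by group] at h1
    exact h1.symm⟩

theorem mem_fixC [K.Normal] {D : Submodule F V} {g : H} : g ∈ fixC ρ K D ↔
    g ∈ stabSub ρ D ∧ ∀ e ∈ K, ∀ v ∈ D, ρ (g * e * g⁻¹) v = ρ e v := Iff.rfl

theorem conj_mem_stabSub {D : Submodule F V} {g : H} (hg : g ∈ stabSub ρ D) (h : H) :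
    h * g * h⁻¹ ∈ stabSub ρ (D.map (ρ h)) := mem_stabSub.mpr fun u hu => by
  obtain ⟨v, hv, rfl⟩ := hu
  rw [rho_mul, rho_mul, rho_inv_rho]
  exact ⟨_, mem_stabSub.mp hg v hv, rfl⟩

theorem conj_mem_fixC [hK : K.Normal] {D : Submodule F V} {g : H} (hg : g ∈ fixC ρ K D) (h : H) :
    h * g * h⁻¹ ∈ fixC ρ K (D.map (ρ h)) := by
  refine ⟨conj_mem_stabSub hg.1 h, fun e he u hu => ?_⟩
  obtain ⟨v, hv, rfl⟩ := hu
  rw [show h * g * h⁻¹ * e * (h * g * h⁻¹)⁻¹ = h * (g * (h⁻¹ * e * h) * g⁻¹) * h⁻¹ by group,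
    rho_mul, rho_inv_rho, rho_mul, hg.2 _ (by simpa using hK.conj_mem e he h⁻¹) v hv,
    ← rho_mul, ← rho_mul]
  congr 2
  group

theorem conj_mem_fixC_of_stab [K.Normal] {D : Submodule F V} {g h : H} (hg : g ∈ fixC ρ K D)
    (hh : h ∈ stabSub ρ D) : h * g * h⁻¹ ∈ fixC ρ K D := by
  have e : D.map (ρ h) = D := le_antisymm
    (Submodule.map_le_iff_le_comap.mpr fun u hu => mem_stabSub.mp hh u hu)
    fun u hu => ⟨ρ h⁻¹ u, mem_stabSub.mp (inv_mem hh) u hu, rho_rho_inv h u⟩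
  simpa [e] using conj_mem_fixC hg h

variable [IsAlgClosed F] [FiniteDimensional F V]

/-- An element centralising `K` on all summands centralises the image of `K`. -/
theorem rho_eq_of_forall_fixC [K.Normal] {g : H}
    (hg : ∀ χ : K → F, Dsp ρ K χ ≠ ⊥ → g ∈ fixC ρ K (Dsp ρ K χ)) {e : H} (he : e ∈ K) :
    ρ (g * e * g⁻¹) = ρ e := by
  refine LinearMap.ext_on (s := ⋃ χ : K → F, (Dsp ρ K χ : Set V)) ?_ fun v hv => ?_
  · rw [Submodule.span_iUnion]
    simp only [Submodule.span_eq, Dsp_iSup]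
  · obtain ⟨χ, hv⟩ := Set.mem_iUnion.mp hv
    by_cases hD : Dsp ρ K χ = ⊥
    · rw [SetLike.mem_coe, hD, Submodule.mem_bot] at hv
      rw [hv, map_zero, map_zero]
    · exact (hg χ hD).2 e he v hv

/-- A derived term moving a summand: the next chain term projects onto it. -/
theorem chain_sup_eq_top {T : Subgroup H} (hT : IsPGroup 2 T) [K.Normal] {χ : K → F}
    (hne : Dsp ρ K χ ≠ ⊥) {j : ℕ} (hj : ¬ ser T j ≤ stabSub ρ (Dsp ρ K χ)) :
    chainOn ρ T ⊤ (j + 1) ⊔ (⨆ χ' ≠ χ, Dsp ρ K χ') = ⊤ := by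
  classical
  by_contra htop
  set D := Dsp ρ K χ
  set Q := ⨆ χ' ≠ χ, Dsp ρ K χ' with hQ
  set U := chainOn ρ T ⊤ (j + 1)
  set St := (stabSub ρ D).subgroupOf T
  have hQmove : ∀ g : H, g ∉ stabSub ρ D → ∀ v ∈ D, ρ g v ∈ Q := fun g hg v hv =>
    Submodule.mem_iSup_of_mem (twist g χ) (Submodule.mem_iSup_of_mem
      (fun e => hg (mem_stabSub_Dsp_of_twist e)) (Dsp_map_le g χ ⟨v, hv, rfl⟩))
  have hQinv : ∀ g ∈ stabSub ρ D, ∀ v ∈ Q, ρ g v ∈ Q := by
    intro g hg
    show Q ≤ Q.comap (ρ g)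
    refine iSup₂_le fun χ' hχ' v hv => Submodule.mem_iSup_of_mem (twist g χ')
      (Submodule.mem_iSup_of_mem (fun e => hχ' ?_) (Dsp_map_le g χ' ⟨v, hv, rfl⟩))
    rw [← twist_one χ', ← inv_mul_cancel g, ← twist_twist, e]
    exact twist_eq_of_mem_stabSub hne (inv_mem hg)
  -- a fixed functional killing `U` and `Q`
  let σ := (dualRep ρ).comp T.subtype
  have hann : (U ⊔ Q).dualAnnihilator ≠ ⊥ := fun e => htop (by
    rwa [Submodule.dualAnnihilator_eq_bot_iff] at e)
  have hTt : IsPGroup 2 St := hT.to_subgroup _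
  obtain ⟨η, hη, hη0, hηf⟩ := exists_fixed (ρ := σ) (P := St) hTt hann (fun g hg Ψ hΨ => by
    rw [Submodule.mem_dualAnnihilator] at hΨ ⊢
    intro v hv
    show dualRep ρ (g : H) Ψ v = 0
    rw [dualRep_apply]
    obtain ⟨a, ha, b, hb, rfl⟩ := Submodule.mem_sup.mp hv
    refine hΨ _ ?_
    rw [map_add]
    exact Submodule.add_mem_sup
      ((chainOn_inv (fun _ _ _ _ => Submodule.mem_top) _).2 _ (inv_mem g.2) a ha)
      (hQinv _ (inv_mem hg) b hb))
  rw [Submodule.mem_dualAnnihilator] at hη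
  have hηinv : ∀ h ∈ St, ∀ u : V, η (ρ (h : H) u) = η u := fun h hh u => by
    have h1 := LinearMap.congr_fun (hηf h⁻¹ (inv_mem hh)) u
    change dualRep ρ ((h⁻¹ : T) : H) η u = η u at h1
    rwa [dualRep_apply, Subgroup.coe_inv, inv_inv] at h1
  obtain ⟨v₀, hv₀, hv₀1⟩ : ∃ v ∈ D, η v = 1 := by
    by_contra hc
    push Not at hc
    refine hη0 (LinearMap.ext fun v => ?_)
    have hall : (⊤ : Submodule F V) ≤ LinearMap.ker η := by
      rw [← Dsp_iSup (ρ := ρ) (K := K)]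
      refine iSup_le fun χ' w hw => LinearMap.mem_ker.mpr ?_
      by_cases e : χ' = χ
      · subst e
        by_contra h0
        exact hc ((η w)⁻¹ • w) (Submodule.smul_mem _ _ hw) (by simp [inv_mul_cancel₀ h0])
      · exact hη _ (Submodule.mem_sup_right
          (Submodule.mem_iSup_of_mem χ' (Submodule.mem_iSup_of_mem e hw)))
    exact LinearMap.mem_ker.mp (hall (Submodule.mem_top (x := v)))
  haveI : Fintype (T ⧸ St) := Fintype.ofFinite _
  obtain ⟨u, hu, hne'⟩ := exists_functional_ne_zero (F := F) hT (ρ.comp T.subtype) St ⊤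
    (fun _ _ _ => Submodule.mem_top) η (fun h hh u _ => hηinv h hh u)
    (fun f => ⟨∑ q, f q • ρ ((Quotient.out q : T) : H) v₀, Submodule.mem_top, fun r => by
      show η (ρ (((Quotient.out r)⁻¹ : T) : H) _) = f r
      rw [map_sum, map_sum, Finset.sum_eq_single r]
      · rw [map_smul, map_smul, ← rho_mul, Subgroup.coe_inv, inv_mul_cancel, map_one,
          Module.End.one_apply, hv₀1, smul_eq_mul, mul_one]
      · intro q _ hq
        rw [map_smul, map_smul, ← rho_mul]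
        rw [hη _ (Submodule.mem_sup_right (hQmove _ ?_ v₀ hv₀)), smul_zero]
        intro hmem
        refine hq ?_
        rw [← QuotientGroup.out_eq' q, ← QuotientGroup.out_eq' r, eq_comm, QuotientGroup.eq]
        exact hmem
      · intro h; exact absurd (Finset.mem_univ r) h⟩)
    (j := j) (fun h => hj fun g hg => by
      obtain ⟨y, hy, rfl⟩ : g ∈ (ser (⊤ : Subgroup T) j).map T.subtype := by
        rw [ser_map, ← MonoidHom.range_eq_map, Subgroup.range_subtype]; exact hg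
      exact h hy)
  rw [chainOn_comp_subtype T (fun _ _ _ _ => Submodule.mem_top)] at hu
  exact hne' (hη u (Submodule.mem_sup_left hu))

/-- The last derived term fixes all summands. -/
theorem le_stabSub_Dsp {T : Subgroup H} (hT : IsPGroup 2 T) [K.Normal] {χ : K → F}
    (hne : Dsp ρ K χ ≠ ⊥) {j : ℕ} (hchain : chainOn ρ T ⊤ (j + 1) = ⊥) :
    ser T j ≤ stabSub ρ (Dsp ρ K χ) := by
  by_contra hj
  have h := chain_sup_eq_top hT hne hj
  rw [hchain, bot_sup_eq] at h
  exact hne ((Dsp_indep (ρ := ρ) (K := K) χ).eq_bot_of_le (le_top.trans h.ge))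

/-- A chain seen on an invariant subspace. -/
theorem chain_restrict_of_eq_bot {S : Submodule F V} {G : Subgroup H} (hGS : G ≤ stabSub ρ S)
    {k : ℕ} (h : chainOn ρ G S k = ⊥) :
    chainOn (restrictHom ρ S) (G.subgroupOf (stabSub ρ S)) ⊤ k = ⊥ := by
  have h1 := map_chainOn (ρ := restrictHom ρ S) (ρ' := ρ) (stabSub ρ S).subtype
    (G := G.subgroupOf (stabSub ρ S)) (U := ⊤) (fun _ _ _ _ => Submodule.mem_top) S.subtype
    (fun g _ u _ => restrictHom_apply g u) k
  rw [Subgroup.map_subgroupOf_eq_of_le hGS, Submodule.map_subtype_top, h] at h1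
  exact Submodule.map_injective_of_injective S.subtype_injective
    (h1.trans (Submodule.map_bot _).symm)

set_option maxHeartbeats 1000000 in
/-- The facts given by the local theorem on a summand moved by the last derived term. -/
theorem local_facts {T : Subgroup H} (hT : IsPGroup 2 T) [hKn : K.Normal]
    (hodd : Odd (Nat.card K)) (hK2 : ∀ a ∈ K, ∀ b ∈ K, ∀ c ∈ K, Commute ⁅a, b⁆ c) {e : ℕ}
    (hser : ser T (e + 2) = ⊥) (hchain : chainOn ρ T ⊤ (e + 2) = ⊥) {χ : K → F}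
    (hne : Dsp ρ K χ ≠ ⊥) {w : H} (hw : w ∈ ser T (e + 1))
    (hwC : w ∉ fixC ρ K (Dsp ρ K χ)) :
    (∀ w' ∈ ser T (e + 1), w' ∉ fixC ρ K (Dsp ρ K χ) → w'⁻¹ * w ∈ fixC ρ K (Dsp ρ K χ)) ∧
      ∀ x ∈ ser T e, ∀ y ∈ ser T e, ⁅x, y⁆ ∉ fixC ρ K (Dsp ρ K χ) →
        ⁅x, y⁆ * (x * x)⁻¹ ∈ fixC ρ K (Dsp ρ K χ) := by
  classical
  set D := Dsp ρ K χ with hD
  have hW : ser T (e + 1) ≤ stabSub ρ D := le_stabSub_Dsp hT hne hchain
  set δ := Nat.find (p := fun i => ser T i ≤ stabSub ρ D) ⟨e + 1, hW⟩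
  have hδ : ser T δ ≤ stabSub ρ D := Nat.find_spec (p := fun i => ser T i ≤ stabSub ρ D) ⟨e + 1, hW⟩
  have hδle : δ ≤ e + 1 := Nat.find_le hW
  set Q := ⨆ χ' ≠ χ, Dsp ρ K χ'
  have hcompl : IsCompl D Q := ⟨Dsp_indep (ρ := ρ) (K := K) χ, codisjoint_iff.mpr (by
    rw [eq_top_iff, ← Dsp_iSup (ρ := ρ) (K := K)]
    refine iSup_le fun χ' => ?_
    by_cases e : χ' = χ
    · subst e; exact le_sup_left
    · exact le_trans (le_iSup₂ (f := fun χ' (_ : χ' ≠ χ) => Dsp ρ K χ') χ' e) le_sup_right)⟩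
  set G := ser T δ
  set p := D.projection Q hcompl
  have hQinv : ∀ g ∈ stabSub ρ D, ∀ v ∈ Q, ρ g v ∈ Q := by
    intro g hg
    show Q ≤ Q.comap (ρ g)
    refine iSup₂_le fun χ' hχ' v hv => Submodule.mem_iSup_of_mem (twist g χ')
      (Submodule.mem_iSup_of_mem (fun e => hχ' ?_) (Dsp_map_le g χ' ⟨v, hv, rfl⟩))
    rw [← twist_one χ', ← inv_mul_cancel g, ← twist_twist, e]
    exact twist_eq_of_mem_stabSub hne (inv_mem hg)
  have hpD : ∀ v ∈ D, p v = v := fun v hv => Submodule.projection_apply_left hcompl ⟨v, hv⟩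
  have hpQ : ∀ v ∈ Q, p v = 0 := fun v hv => Submodule.projection_apply_of_mem_right hcompl hv
  have hpeq : ∀ g ∈ G, ∀ v : V, p (ρ g v) = ρ g (p v) := by
    intro g hg v
    obtain ⟨a, ha, b, hb, rfl⟩ :=
      Submodule.mem_sup.mp (hcompl.sup_eq_top.ge (Submodule.mem_top (x := v)))
    rw [map_add, map_add, map_add, hpD _ (mem_stabSub.mp (hδ hg) a ha),
      hpQ _ (hQinv g (hδ hg) b hb), hpD a ha, hpQ b hb, add_zero, add_zero]
  set U := chainOn ρ T ⊤ δ with hU
  have hUinv : ∀ g ∈ G, ∀ u ∈ U, ρ g u ∈ U := fun g hg =>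
    (chainOn_inv (fun _ _ _ _ => Submodule.mem_top) δ).2 g (ser_le_self T δ hg)
  have hUtop : U ⊔ Q = ⊤ := by
    rcases Nat.eq_zero_or_pos δ with h0 | h0
    · rw [hU, h0, chainOn_zero, top_sup_eq]
    · obtain ⟨i, hi⟩ : ∃ i, δ = i + 1 := ⟨δ - 1, by omega⟩
      rw [hU, hi]
      exact chain_sup_eq_top hT hne (Nat.find_min (p := fun i => ser T i ≤ stabSub ρ D)
        ⟨e + 1, hW⟩ (show i < δ by omega))
  clear_value δ
  have hUp : U.map p = D := by
    refine le_antisymm ?_ fun v hv => ?_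
    · rintro _ ⟨u, -, rfl⟩
      obtain ⟨a, ha, b, hb, rfl⟩ :=
        Submodule.mem_sup.mp (hcompl.sup_eq_top.ge (Submodule.mem_top (x := u)))
      rw [map_add, hpD a ha, hpQ b hb, add_zero]
      exact ha
    · obtain ⟨a, ha, b, hb, hab⟩ := Submodule.mem_sup.mp (hUtop.ge (Submodule.mem_top (x := v)))
      exact ⟨a, ha, by rw [← hpD v hv, ← hab, map_add, hpQ b hb, add_zero]⟩
  set k := e + 2 - δ
  have hchainD : chainOn ρ G D k = ⊥ := by
    have h := map_chainOn (ρ := ρ) (ρ' := ρ) (MonoidHom.id H) (G := G) (U := U) hUinv p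
      (fun g hg u _ => hpeq g hg u) k
    rw [Subgroup.map_id, hUp, chainOn_add, show δ + k = e + 2 by omega, hchain,
      Submodule.map_bot] at h
    exact h.symm
  have hGS : G ≤ stabSub ρ D := hδ
  have hKS : K ≤ stabSub ρ D := fun c hc => mem_stabSub.mpr (Dsp_inv hc χ)
  have hcen : ∀ g : stabSub ρ D, g ∈ Cen (restrictHom ρ D) (K.subgroupOf (stabSub ρ D)) ↔
      (g : H) ∈ fixC ρ K D := by
    intro g
    rw [mem_Cen, mem_fixC]
    constructor
    · intro h
      refine ⟨g.2, fun c hc v hv => ?_⟩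
      exact congrArg Subtype.val
        (LinearMap.congr_fun ((commute_iff_conj _ _).mp (h ⟨c, hKS hc⟩ hc)) ⟨v, hv⟩)
    · intro h c hc
      refine (commute_iff_conj _ _).mpr (LinearMap.ext fun v => Subtype.ext ?_)
      exact h.2 (c : H) hc v v.2
  have hwG : w ∈ G := ser_antitone T hδle hw
  have hGser : ∀ i, ser G i = ser T (δ + i) := fun i => ser_add T δ i
  haveI : Nontrivial D := Submodule.nontrivial_iff_ne_bot.mpr hne
  obtain ⟨hk2, h1, h2⟩ := local_main (ρ := restrictHom ρ D) (E := K.subgroupOf (stabSub ρ D))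
    (G := G.subgroupOf (stabSub ρ D))
    (by rwa [Nat.card_congr (Subgroup.subgroupOfEquivOfLe hKS).toEquiv])
    (fun g _ c hc => hKn.conj_mem (c : H) hc (g : H))
    ((hT.to_le (ser_le_self T δ)).of_equiv (Subgroup.subgroupOfEquivOfLe hGS).symm)
    (heis_Dsp hodd hK2 χ) (k := k)
    (fun g hg => by
      have h0 := (mem_ser_restrict_iff hGS g).mp hg
      rw [hGser, show δ + k = e + 2 by omega, hser, Subgroup.mem_bot] at h0
      rw [show g = 1 from Subtype.ext h0, map_one])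
    (chain_restrict_of_eq_bot hGS hchainD) (w := ⟨w, hGS hwG⟩)
    ((mem_ser_restrict_iff hGS _).mpr (by rw [hGser, show δ + (k - 1) = e + 1 by omega]; exact hw))
    (fun h => hwC ((hcen _).mp h))
  have hδe : ser T e ≤ stabSub ρ D := by
    rw [show e = δ by omega]; exact hδ
  have hGe : ∀ {x}, x ∈ ser T e → x ∈ G := fun {x} hx => by
    show x ∈ ser T δ
    rw [show δ = e by omega]; exact hx
  refine ⟨fun w' hw' hw'C => ?_, fun x hx y hy hxy => ?_⟩
  · exact (hcen (⟨w', hW hw'⟩⁻¹ * ⟨w, hGS hwG⟩)).mp (h1 ⟨w', hW hw'⟩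
      ((mem_ser_restrict_iff hGS _).mpr (by rw [hGser, show δ + 1 = e + 1 by omega]; exact hw')) fun h => hw'C ((hcen _).mp h))
  · set a : stabSub ρ D := ⟨x, hδe hx⟩ with ha
    set b : stabSub ρ D := ⟨y, hδe hy⟩ with hb
    have hcoe : ((⁅a, b⁆ : stabSub ρ D) : H) = ⁅x, y⁆ := by
      rw [commutatorElement_def, commutatorElement_def, Subgroup.coe_mul, Subgroup.coe_mul,
        Subgroup.coe_mul, Subgroup.coe_inv, Subgroup.coe_inv]
    have hab : ⁅a, b⁆ ∉ Cen (restrictHom ρ D) (K.subgroupOf (stabSub ρ D)) := fun h => hxy (by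
      have h3 := (hcen _).mp h
      rwa [hcoe] at h3)
    have h4 := (hcen _).mp (h2 a (Subgroup.mem_subgroupOf.mpr (hGe hx)) b
      (Subgroup.mem_subgroupOf.mpr (hGe hy)) hab)
    rwa [Subgroup.coe_mul, Subgroup.coe_inv, Subgroup.coe_mul, hcoe] at h4

end Cfsg.Agent.TwoLength
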