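/-
A subgroup of exponent four detecting automorphisms of odd order (helper83).

Main results (namespace `Cfsg.Agent.TwoLength`):
* exists_expFour: a normalised subgroup of exponent four with this property
-/
import Cfsg.Agent.Lib.PGroup.Critical
import Cfsg.Agent.Lib.PGroup.Power
import Cfsg.Agent.Lib.Coprime.Basic

set_option autoImplicit false
set_option linter.style.haveILetI false
set_option linter.unusedSectionVars false

open scoped commutatorElement

namespace Cfsg.Agent.TwoLength

/-- An automorphism of odd order fixing the elements of order at most four of a critical subgroup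
of a 2-group is trivial. -/
theorem aut_eq_one_of_fix_four {P : Type*} [Group P] [Finite P] (hP : IsPGroup 2 P) {a : MulAut P}
    (ha : Nat.Coprime (orderOf a) 2) {K : Subgroup P} (hK : PGroup.Critical 2 K)
    (h : ∀ x ∈ K, x ^ 4 = 1 → a x = x) : a = 1 := by
  haveI : Fact (Nat.Prime 2) := ⟨Nat.prime_two⟩
  haveI := hK.char
  refine PGroup.aut_eq_one_of_fix_selfCentralizing hP hK.self_centralizing ha ?_
  have key : ∀ k : ℕ, ∀ x ∈ K, x ^ 2 ^ k = 1 → a x = x := by
    intro k
    induction k with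
    | zero => intro x _ hx; rw [pow_zero, pow_one] at hx; rw [hx, map_one]
    | succ k ih =>
      intro x hxK hx
      have haK : a x ∈ K := (PGroup.aut_mem_iff a x).mpr hxK
      refine PGroup.fixed_of_displacement_fixed hP ha (h _ (mul_mem (inv_mem hxK) haK) ?_)
      have h1 : a (x ^ 2) = x ^ 2 := ih _ (pow_mem hxK 2) (by rw [← pow_mul, ← pow_succ']; exact hx)
      rw [map_pow] at h1
      have hc : ⁅a x, x⁻¹⁆ ∈ K ⊓ Subgroup.centralizer (K : Set P) := hK.comm_mem _ haK _
      have hc1 : Commute x⁻¹ ⁅a x, x⁻¹⁆ := Subgroup.mem_centralizer_iff.mp hc.2 _ (inv_mem hxK)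
      have hc2 : Commute (a x) ⁅a x, x⁻¹⁆ := Subgroup.mem_centralizer_iff.mp hc.2 _ haK
      have hcc : ⁅a x, x⁻¹⁆ ^ 2 = 1 := by
        rw [← PGroup.commutator_pow_left hc2, h1, commutatorElement_eq_one_iff_commute]
        exact (Commute.refl x).inv_right.pow_left 2
      rw [PGroup.mul_pow_eq hc1 hc2, show Nat.choose 4 2 = 2 * 3 from rfl, pow_mul, hcc, one_pow,
        one_mul, inv_pow, show 4 = 2 * 2 from rfl, pow_mul (a x), h1, ← pow_mul, inv_mul_cancel]
  intro x hx
  obtain ⟨k, hk⟩ := hP x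
  exact key k x hx hk

variable {H : Type*} [Group H] [Finite H]

/-- A subgroup of exponent four, normalised by the normaliser of `R`, whose centraliser among the
elements of odd order normalising `R` centralises `R`. -/
theorem exists_expFour {R : Subgroup H} (hR : IsPGroup 2 R) :
    ∃ C : Subgroup H, C ≤ R ∧ (∀ x ∈ C, x ^ 4 = 1) ∧
      Subgroup.normalizer (R : Set H) ≤ Subgroup.normalizer (C : Set H) ∧
      ∀ y ∈ Subgroup.normalizer (R : Set H), ∀ n : ℕ, Odd n → y ^ n = 1 →
        (∀ x ∈ C, y * x * y⁻¹ = x) → ∀ x ∈ R, y * x * y⁻¹ = x := by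
  haveI : Fact (Nat.Prime 2) := ⟨Nat.prime_two⟩
  obtain ⟨K, hK⟩ := PGroup.exists_critical hR
  haveI := hK.char
  let W : Subgroup R :=
    { carrier := {x | x ∈ K ∧ x ^ 4 = 1}
      one_mem' := ⟨one_mem K, one_pow 4⟩
      mul_mem' := fun {x y} hx hy => ⟨mul_mem hx.1 hy.1, by
        have hc := hK.comm_mem y hy.1 x
        have hcx : Commute x ⁅y, x⁆ := Subgroup.mem_centralizer_iff.mp hc.2 x hx.1
        have hcy : Commute y ⁅y, x⁆ := Subgroup.mem_centralizer_iff.mp hc.2 y hy.1
        have h2 : ⁅y, x⁆ ^ 2 = 1 := by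
          rw [← PGroup.commutator_pow_left hcy, commutatorElement_eq_one_iff_commute]
          exact (Subgroup.mem_centralizer_iff.mp (hK.pow_mem y hy.1) x hx.1).symm
        rw [PGroup.mul_pow_eq hcx hcy, show Nat.choose 4 2 = 2 * 3 from rfl, pow_mul, h2, one_pow,
          one_mul, hx.2, hy.2, one_mul]⟩
      inv_mem' := fun {x} hx => ⟨inv_mem hx.1, by rw [inv_pow, hx.2, inv_one]⟩ }
  haveI hWc : W.Characteristic := PGroup.characteristic_of_forall_mem fun φ x hx =>
    ⟨(PGroup.aut_mem_iff φ x).mpr hx.1, by rw [← map_pow, hx.2, map_one]⟩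
  refine ⟨W.map R.subtype, Subgroup.map_subtype_le W, ?_, ?_, ?_⟩
  · rintro _ ⟨x, hx, rfl⟩
    exact congrArg Subtype.val hx.2
  · intro y hy
    refine Coprime.mem_normalizer_of_forall ?_
    rintro _ ⟨x, hx, rfl⟩
    exact ⟨R.normalizerMonoidHom ⟨y, hy⟩ x,
      (PGroup.aut_mem_iff (H := W) _ x).mpr hx, rfl⟩
  · intro y hy n hn hyn hfix x hx
    set a : MulAut R := R.normalizerMonoidHom ⟨y, hy⟩
    have ha : Nat.Coprime (orderOf a) 2 := by
      refine Nat.Coprime.coprime_dvd_left (orderOf_dvd_of_pow_eq_one (n := n) ?_)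
        (Nat.coprime_two_right.mpr hn)
      rw [← map_pow, show (⟨y, hy⟩ : Subgroup.normalizer (R : Set H)) ^ n = 1 from Subtype.ext hyn,
        map_one]
    have h1 : a = 1 := aut_eq_one_of_fix_four hR ha hK fun z hz hz4 =>
      Subtype.ext (hfix z ⟨z, ⟨hz, hz4⟩, rfl⟩)
    exact congrArg Subtype.val (DFunLike.congr_fun h1 (⟨x, hx⟩ : R))

end Cfsg.Agent.TwoLength
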