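/-
Two elements moving planes of a symplectic q-group with a quotient of exponent four (helper83).

Main results (namespace `Cfsg.Agent.TwoLength`):
* commute_or_sq_eq: two plane elements commute or have the same square
* plane_pair: the quotient of the squares is trivial or the square of the quotient
-/
import Cfsg.Agent.Lib.HallHigman.SmallTwo

set_option autoImplicit false
set_option linter.style.haveILetI false
set_option linter.unusedSectionVars false

namespace Cfsg.Agent.TwoLength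

open HallHigman

universe u

variable {A : Type u} [CommGroup A]

theorem moved_mem (g : MulAut A) (a : A) : g a * a⁻¹ ∈ (movedHom g).range := ⟨a, rfl⟩

theorem mulAut_sq_apply (g : MulAut A) (a : A) : (g ^ 2) a = g (g a) := by
  rw [pow_two, MulAut.mul_apply]

/-- Two commuting involutions inverting the same subgroup that contains what they move. -/
theorem eq_of_inverts_moved [Finite A] {q : ℕ} [Fact q.Prime] (hA : IsPGroup q A) (hq2 : q ≠ 2)
    {y z : MulAut A} (hy : y ^ 2 = 1) (hz : z ^ 2 = 1) (hc : Commute y z) {P : Subgroup A}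
    (hyP : ∀ p ∈ P, y p = p⁻¹) (hzP : ∀ p ∈ P, z p = p⁻¹) (hym : ∀ a, y a * a⁻¹ ∈ P)
    (hzm : ∀ a, z a * a⁻¹ ∈ P) : y = z := by
  have hw : (y * z) ^ 2 = 1 := by rw [hc.mul_pow, hy, hz, one_mul]
  have key : ∀ a, (y * z) a = a := by
    intro a
    have hm : (y * z) a * a⁻¹ ∈ P := by
      have h := mul_mem (hym (z a)) (hzm a)
      rw [show (y * z) a * a⁻¹ = y (z a) * (z a)⁻¹ * (z a * a⁻¹) by
        rw [MulAut.mul_apply]; group]
      exact h
    set p := (y * z) a * a⁻¹ with hp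
    have hfix : (y * z) p = p := by rw [MulAut.mul_apply, hzP p hm, map_inv, hyP p hm, inv_inv]
    have ha : (y * z) a = p * a := by rw [hp, inv_mul_cancel_right]
    have h2 : (y * z) ((y * z) a) = a := by rw [← mulAut_sq_apply, hw, MulAut.one_apply]
    rw [ha, map_mul, hfix, ha, ← mul_assoc, mul_eq_right] at h2
    rw [ha, eq_one_of_sq hA hq2 (eq_inv_of_mul_eq_one_left h2), one_mul]
  have h1 : y * z = 1 := MulEquiv.ext fun a => by rw [key a, MulAut.one_apply]
  calc y = y * z ^ 2 := by rw [hz, mul_one]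
    _ = y * z * z := by rw [pow_two, mul_assoc]
    _ = z := by rw [h1, one_mul]

variable [Finite A] {q : ℕ} [hq : Fact q.Prime] {R : Subgroup (MulAut A)}

/-- A plane element stabilises the range it moves, which its square inverts. -/
theorem small_range {h : MulAut A} (hh : ∃ R₀, SmallTwo q R₀ h) {p : A} (hp : p ∈ (movedHom h).range) :
    h p ∈ (movedHom h).range ∧ (h ^ 2) p = p⁻¹ := by
  obtain ⟨R₀, hh⟩ := hh
  obtain ⟨a, rfl⟩ := hp
  refine ⟨⟨h a, ?_⟩, ?_⟩
  · show h (h a) * (h a)⁻¹ = h (h a * a⁻¹)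
    rw [map_mul, map_inv]
  · rw [mulAut_sq_apply]; exact hh.2.2 a

theorem sq_moved_le (h : MulAut A) (a : A) : (h ^ 2) a * a⁻¹ ∈ (movedHom h).range := by
  rw [mulAut_sq_apply, show h (h a) * a⁻¹ = h (h a) * (h a)⁻¹ * (h a * a⁻¹) by group]
  exact mul_mem (moved_mem h _) (moved_mem h a)

theorem range_sq (hA : IsPGroup q A) (hq2 : q ≠ 2) {h : MulAut A} (hh : SmallTwo q R h) :
    (movedHom (h ^ 2)).range = (movedHom h).range := by
  refine le_antisymm (by rintro _ ⟨a, rfl⟩; exact sq_moved_le h a) fun p hp => ?_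
  have hco : (Nat.card A).Coprime 2 := by
    obtain ⟨m, hm⟩ := IsPGroup.iff_card.mp hA
    rw [hm]
    exact ((Nat.coprime_primes hq.out Nat.prime_two).mpr hq2).pow_left m
  obtain ⟨r, hr⟩ := (powCoprime hco).surjective p
  change r ^ 2 = p at hr
  have hrP : r ∈ (movedHom h).range := by
    obtain ⟨i, hi⟩ : r ∈ Subgroup.zpowers p := by
      rw [← hr]
      obtain ⟨m, hm⟩ := IsPGroup.iff_card.mp hA
      have hodd : Odd (Nat.card A) := by rw [hm]; exact (hq.out.odd_of_ne_two hq2).pow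
      obtain ⟨j, hj⟩ := hodd
      refine ⟨((j + 1 : ℕ) : ℤ), ?_⟩
      show (r ^ 2) ^ ((j + 1 : ℕ) : ℤ) = r
      rw [zpow_natCast, ← pow_mul, show 2 * (j + 1) = Nat.card A + 1 by omega, pow_succ,
        pow_card_eq_one', one_mul]
    rw [← hi]
    exact zpow_mem hp i
  refine ⟨r⁻¹, ?_⟩
  show (h ^ 2) r⁻¹ * r⁻¹⁻¹ = p
  rw [map_inv, (small_range ⟨R, hh⟩ hrP).2, inv_inv, ← pow_two, hr]

/-- What commutes with the square stabilises the plane. -/
theorem commute_sq_range (hA : IsPGroup q A) (hq2 : q ≠ 2) {h : MulAut A} (hh : SmallTwo q R h)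
    {g : MulAut A} (hg : Commute g (h ^ 2)) {p : A} (hp : p ∈ (movedHom h).range) :
    g p ∈ (movedHom h).range := by
  rw [← range_sq hA hq2 hh] at hp ⊢
  obtain ⟨a, rfl⟩ := hp
  refine ⟨g a, ?_⟩
  show (h ^ 2) (g a) * (g a)⁻¹ = g ((h ^ 2) a * a⁻¹)
  rw [map_mul, map_inv, ← MulAut.mul_apply, ← hg.eq, MulAut.mul_apply]

/-- The plane is irreducible under the element. -/
theorem plane_cases (hA : IsPGroup q A) (hneg : ∀ s : ℕ, ¬ q ∣ s * s + 1) {h : MulAut A}
    (hh : SmallTwo q R h) {W : Subgroup A} (hW : W ≤ (movedHom h).range)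
    (hinv : ∀ w ∈ W, h w ∈ W) : W = ⊥ ∨ W = (movedHom h).range := by
  obtain ⟨k, hk⟩ := IsPGroup.iff_card.mp (hA.to_subgroup W)
  rcases k with _ | _ | k
  · exact Or.inl (Subgroup.eq_bot_of_card_eq _ (by rw [hk, pow_zero]))
  · exfalso
    rw [zero_add, pow_one] at hk
    obtain ⟨⟨r, hr⟩, hr1⟩ := exists_prime_orderOf_dvd_card' (G := W) q (by rw [hk])
    rw [← Subgroup.orderOf_coe] at hr1
    have hgen : Subgroup.zpowers r = W :=
      Subgroup.eq_of_le_of_card_ge (Subgroup.zpowers_le.mpr hr) (by rw [hk, Nat.card_zpowers, hr1])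
    obtain ⟨s, hs⟩ := (isOfFinOrder_of_finite r).mem_powers_iff_mem_zpowers.mpr
      (hgen ▸ hinv r hr)
    have hs' : r ^ s = h r := hs
    have h2 : h (h r) = r⁻¹ := by
      rw [← mulAut_sq_apply]; exact (small_range ⟨R, hh⟩ (hW hr)).2
    rw [← hs', map_pow, ← hs', ← pow_mul, eq_inv_iff_mul_eq_one, ← pow_succ] at h2
    exact hneg s (hr1 ▸ orderOf_dvd_of_pow_eq_one h2)
  · refine Or.inr (Subgroup.eq_of_le_of_card_ge hW (le_trans hh.2.1 ?_))
    rw [hk]
    exact Nat.pow_le_pow_right hq.out.pos (by omega)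

theorem smallTwo_conj {h t : MulAut A} (hh : SmallTwo q R h) (ht : t ∈ R) :
    SmallTwo q R (t * h * t⁻¹) := by
  have e : ∀ a, (t * h * t⁻¹) a * a⁻¹ = t (h (t⁻¹ a) * (t⁻¹ a)⁻¹) := fun a => by
    rw [map_mul, map_inv, MulAut.mul_apply, MulAut.mul_apply, MulAut.apply_inv_self]
  refine ⟨R.mul_mem (R.mul_mem ht hh.1) (R.inv_mem ht), le_trans ?_ hh.2.1, fun a => ?_⟩
  · have hle : (movedHom (t * h * t⁻¹)).range ≤ (movedHom h).range.map t.toMonoidHom := by
      rintro _ ⟨a, rfl⟩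
      exact ⟨_, moved_mem h (t⁻¹ a), (e a).symm⟩
    refine le_trans (Nat.le_of_dvd Nat.card_pos (Subgroup.card_dvd_of_le hle)) (le_of_eq ?_)
    exact Subgroup.card_map_of_injective t.injective
  · rw [e a]
    simp only [MulAut.mul_apply, MulAut.inv_apply_self]
    rw [hh.2.2, map_inv]

/-- Two plane elements commute or have the same square. -/
theorem commute_or_sq_eq (hA : IsPGroup q A) (hq2 : q ≠ 2) (hneg : ∀ s : ℕ, ¬ q ∣ s * s + 1)
    (hR : IsPGroup 2 R) {h k : MulAut A} (hh : SmallTwo q R h) (hk : SmallTwo q R k) :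
    Commute h k ∨ h ^ 2 = k ^ 2 := by
  have c1 : Commute h (k ^ 2) := commute_sq_of_smallTwo hq2 hneg hA hR hh hk
  have c2 : Commute k (h ^ 2) := commute_sq_of_smallTwo hq2 hneg hA hR hk hh
  set P := (movedHom h).range
  set Q := (movedHom k).range
  have hinv : ∀ w ∈ P ⊓ Q, h w ∈ P ⊓ Q := fun w hw =>
    ⟨(small_range ⟨R, hh⟩ hw.1).1, commute_sq_range hA hq2 hk c1 hw.2⟩
  have hinv' : ∀ w ∈ Q ⊓ P, k w ∈ Q ⊓ P := fun w hw =>
    ⟨(small_range ⟨R, hk⟩ hw.1).1, commute_sq_range hA hq2 hh c2 hw.2⟩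
  rcases plane_cases hA hneg hh inf_le_left hinv with hW | hW
  · left
    have hkP : ∀ p ∈ P, k p = p := fun p hp => by
      have h1 : k p * p⁻¹ ∈ P ⊓ Q :=
        Subgroup.mem_inf.mpr ⟨mul_mem (commute_sq_range hA hq2 hh c2 hp) (inv_mem hp), moved_mem k p⟩
      rw [hW, Subgroup.mem_bot] at h1
      exact mul_inv_eq_one.mp h1
    have hhQ : ∀ p ∈ Q, h p = p := fun p hp => by
      have h1 : h p * p⁻¹ ∈ P ⊓ Q :=
        Subgroup.mem_inf.mpr ⟨moved_mem h p, mul_mem (commute_sq_range hA hq2 hk c1 hp) (inv_mem hp)⟩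
      rw [hW, Subgroup.mem_bot] at h1
      exact mul_inv_eq_one.mp h1
    refine MulEquiv.ext fun a => ?_
    rw [MulAut.mul_apply, MulAut.mul_apply]
    conv_lhs => rw [show k a = k a * a⁻¹ * a by group, map_mul, hhQ _ (moved_mem k a)]
    conv_rhs => rw [show h a = h a * a⁻¹ * a by group, map_mul, hkP _ (moved_mem h a)]
    simp only [mul_comm, mul_left_comm, mul_assoc]
  · rcases plane_cases hA hneg hk inf_le_left hinv' with hW' | hW'
    · left
      rw [inf_comm, hW] at hW'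
      have h1 : h = 1 := MulEquiv.ext fun a => by
        have h2 := moved_mem h a
        rw [show (movedHom h).range = ⊥ from hW', Subgroup.mem_bot] at h2
        rw [mul_inv_eq_one.mp h2, MulAut.one_apply]
      rw [h1]
      exact Commute.one_left k
    · right
      rw [inf_comm, hW] at hW'
      exact eq_of_inverts_moved hA hq2 hh.pow_four hk.pow_four (c1.pow_left 2)
        (P := P) (fun p hp => (small_range ⟨R, hh⟩ hp).2)
        (fun p hp => (small_range ⟨R, hk⟩ (hW' ▸ hp)).2) (sq_moved_le h)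
        (fun a => by rw [show P = Q from hW']; exact sq_moved_le k a)

variable {M : Type*} [Group M]

/-- No involution of a symplectic group reverses an element on its plane. -/
theorem false_of_reversed (hA : IsPGroup q A) (hq2 : q ≠ 2) (hneg : ∀ s : ℕ, ¬ q ∣ s * s + 1)
    {h t : MulAut A} (hh : SmallTwo q R h) (hy : h ^ 2 ≠ 1) (htR : t ∈ R) (ht : t ^ 2 = 1)
    (hrev : t * h * t = h⁻¹) (ω : A → A → M) (hl : ∀ a b c, ω (a * b) c = ω a c * ω b c)
    (hr : ∀ a b c, ω a (b * c) = ω a b * ω a c) (halt : ∀ a, ω a a = 1)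
    (hinv : ∀ r ∈ R, ∀ a b, ω (r a) (r b) = ω a b)
    (hnd : ∀ a, (∀ b, ω a b = 1) → a = 1) : False := by
  set P := (movedHom h).range with hP
  set y := h ^ 2 with hyd
  have hyP : ∀ p ∈ P, y p = p⁻¹ := fun p hp => (small_range ⟨R, hh⟩ hp).2
  have hinvh : h⁻¹ = h * y := inv_eq_of_mul_eq_one_left (by
    rw [hyd, mul_assoc, ← pow_succ, ← pow_succ']
    calc h ^ (2 + 1 + 1) = (h ^ 2) ^ 2 := by rw [← pow_mul]
      _ = 1 := hh.pow_four)
  have htt : t⁻¹ = t := inv_eq_of_mul_eq_one_right (by rw [← pow_two, ht])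
  have htapp : ∀ a, t (t a) = a := fun a => by rw [← mulAut_sq_apply, ht, MulAut.one_apply]
  have hty : Commute t y := by
    have h1 : t * y * t⁻¹ = y := by
      rw [hyd, ← conj_pow, htt, hrev, inv_pow]
      exact inv_eq_of_mul_eq_one_right (by rw [← pow_two]; exact hh.pow_four)
    show t * y = y * t
    conv_rhs => rw [← h1]
    rw [inv_mul_cancel_right]
  have htP : ∀ p ∈ P, t p ∈ P := fun p hp => commute_sq_range hA hq2 hh hty hp
  have hrev' : ∀ a, t (h (t a)) = h⁻¹ a := fun a => by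
    rw [← hrev, MulAut.mul_apply, MulAut.mul_apply]
  obtain ⟨a, haP, hta, ha1⟩ : ∃ a ∈ P, t a = a ∧ a ≠ 1 := by
    by_contra hcon
    push Not at hcon
    have h1 : ∀ p ∈ P, t p = p⁻¹ := fun p hp => eq_inv_of_mul_eq_one_right
      (hcon (p * t p) (mul_mem hp (htP p hp)) (by rw [map_mul, htapp, mul_comm]))
    refine hy (MulEquiv.ext fun a => ?_)
    have hm := sq_moved_le h a
    rw [← hyd] at hm
    rw [MulAut.one_apply, ← mul_inv_eq_one]
    have hp := moved_mem h a
    have h2 : ∀ p ∈ P, p = 1 := fun p hp => by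
      have h3 := hrev' p
      rw [h1 p hp, map_inv, map_inv, h1 _ (small_range ⟨R, hh⟩ hp).1, inv_inv, hinvh,
        MulAut.mul_apply, hyP p hp, map_inv] at h3
      exact eq_one_of_sq hA hq2 (h.injective (h3.trans (map_inv h p).symm))
    exact h2 _ hm
  set b := h a with hb
  have hbP : b ∈ P := (small_range ⟨R, hh⟩ haP).1
  have htb : t b = b⁻¹ := by
    have h3 := hrev' a
    rw [hta] at h3
    rw [h3, hinvh, MulAut.mul_apply, hyP a haP, map_inv]
  let L : A → A →* M := fun c => MonoidHom.mk' (ω c) (hr c)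
  let L' : A → A →* M := fun c => MonoidHom.mk' (fun x => ω x c) (fun x x' => hl x x' c)
  have hodd : Odd (Nat.card A) := by
    obtain ⟨m, hm⟩ := IsPGroup.iff_card.mp hA
    rw [hm]; exact (hq.out.odd_of_ne_two hq2).pow
  have hsq : ∀ c d, L c d = (L c d)⁻¹ → L c d = 1 := fun c d h1 => by
    obtain ⟨j, hj⟩ := hodd
    have h2 : L c d ^ Nat.card A = 1 := by rw [← map_pow, pow_card_eq_one', map_one]
    rw [eq_inv_iff_mul_eq_one, ← pow_two] at h1
    rwa [hj, pow_succ, pow_mul, h1, one_pow, one_mul] at h2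
  have hab : ω a b = 1 := hsq a b (by
    have h1 := hinv t htR a b
    rw [hta, htb] at h1
    conv_lhs => rw [show L a b = ω a b from rfl, ← h1]
    exact map_inv (L a) b)
  have hPa : P ≤ (L a).ker := by
    have hle : Subgroup.zpowers a ⊔ Subgroup.zpowers b ≤ P :=
      sup_le (Subgroup.zpowers_le.mpr haP) (Subgroup.zpowers_le.mpr hbP)
    have hWinv : Subgroup.zpowers a ⊔ Subgroup.zpowers b ≤
        (Subgroup.zpowers a ⊔ Subgroup.zpowers b).comap h.toMonoidHom := by
      refine sup_le (Subgroup.zpowers_le.mpr ?_) (Subgroup.zpowers_le.mpr ?_)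
      · exact Subgroup.mem_sup_right (Subgroup.mem_zpowers b)
      show h b ∈ Subgroup.zpowers a ⊔ Subgroup.zpowers b
      rw [hb, ← mulAut_sq_apply, ← hyd, hyP a haP]
      exact Subgroup.mem_sup_left (inv_mem (Subgroup.mem_zpowers a))
    rcases plane_cases hA hneg hh hle (fun w hw => hWinv hw) with h0 | h0
    · have h1 : a ∈ Subgroup.zpowers a ⊔ Subgroup.zpowers b :=
        Subgroup.mem_sup_left (Subgroup.mem_zpowers a)
      rw [h0, Subgroup.mem_bot] at h1
      exact absurd h1 ha1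
    · rw [hP, ← h0]
      exact sup_le (Subgroup.zpowers_le.mpr (halt a)) (Subgroup.zpowers_le.mpr hab)
  refine ha1 (hnd a fun c => ?_)
  have hyR : y ∈ R := pow_mem hh.1 2
  have hyy : ∀ x, y (y x) = x := fun x => by
    rw [← mulAut_sq_apply, hh.pow_four, MulAut.one_apply]
  have hf : L a (c * y c) = 1 := hsq _ _ (by
    have h1 := hinv y hyR a (c * y c)
    rw [hyP a haP, map_mul, hyy, mul_comm (y c) c] at h1
    conv_lhs => rw [show L a (c * y c) = ω a (c * y c) from rfl, ← h1]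
    exact map_inv (L' (c * y c)) a)
  have hm : L a (y c * c⁻¹) = 1 := hPa (sq_moved_le h c)
  rw [map_mul] at hf
  rw [map_mul, map_inv, mul_inv_eq_one] at hm
  rw [hm] at hf
  exact hsq a c (eq_inv_of_mul_eq_one_left hf)

/-- The quotient of the squares of two plane elements with a quotient of exponent four. -/
theorem plane_pair (hA : IsPGroup q A) (hq2 : q ≠ 2) (hneg : ∀ s : ℕ, ¬ q ∣ s * s + 1)
    (hR : IsPGroup 2 R) {h t : MulAut A} (hhR : h ∈ R) (htR : t ∈ R)
    (hh : h ^ 2 = 1 ∨ SmallTwo q R h) (ht : t ^ 2 = 1 ∨ SmallTwo q R t)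
    (hu : (t * h⁻¹) ^ 4 = 1) (ω : A → A → M) (hl : ∀ a b c, ω (a * b) c = ω a c * ω b c)
    (hr : ∀ a b c, ω a (b * c) = ω a b * ω a c) (halt : ∀ a, ω a a = 1)
    (hinv : ∀ r ∈ R, ∀ a b, ω (r a) (r b) = ω a b)
    (hnd : ∀ a, (∀ b, ω a b = 1) → a = 1) :
    t ^ 2 * (h ^ 2)⁻¹ = 1 ∨ t ^ 2 * (h ^ 2)⁻¹ = (t * h⁻¹) ^ 2 := by
  have key : ∀ {h t : MulAut A}, h ∈ R → t ∈ R → SmallTwo q R h → h ^ 2 ≠ 1 → t ^ 2 = 1 →
      (t * h⁻¹) ^ 4 = 1 → t ^ 2 * (h ^ 2)⁻¹ = (t * h⁻¹) ^ 2 := by
    intro h t hhR htR hh hy ht hu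
    set y := h ^ 2 with hyd
    have htt : t⁻¹ = t := inv_eq_of_mul_eq_one_right (by rw [← pow_two, ht])
    have hy2 : y ^ 2 = 1 := hh.pow_four
    have hyi : y⁻¹ = y := inv_eq_of_mul_eq_one_right (by rw [← pow_two, hy2])
    set h' := t * h * t⁻¹ with hh'
    have hh'S : SmallTwo q R h' := smallTwo_conj hh htR
    set w := (t * h⁻¹) ^ 2 with hwd
    have hw2 : w ^ 2 = 1 := by rw [hwd, ← pow_mul]; exact hu
    have hwe : w = h'⁻¹ * h⁻¹ := by
      rw [hwd, hh', pow_two, mul_inv_rev, mul_inv_rev, inv_inv, htt]; group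
    have hy' : h' ^ 2 = y := by
      rcases commute_or_sq_eq hA hq2 hneg hR hh hh'S with hc | hc
      · have h1 : w ^ 2 = (h' ^ 2)⁻¹ * y⁻¹ := by
          rw [hwe, (hc.symm.inv_inv).mul_pow, inv_pow, inv_pow]
        rw [hw2, eq_comm, mul_eq_one_iff_eq_inv, inv_inv, inv_eq_iff_eq_inv, hyi] at h1
        exact h1
      · exact hc.symm
    have hty : Commute t y := by
      rw [hh', conj_pow] at hy'
      exact mul_inv_eq_iff_eq_mul.mp hy'
    have hhy : Commute h y := Commute.self_pow h 2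
    have huy : Commute (t * h⁻¹) y := hty.mul_left hhy.inv_left
    have hwy : Commute w y := huy.pow_left 2
    have hhu : h * (t * h⁻¹) * h⁻¹ = (t * h⁻¹)⁻¹ * y := by
      rw [mul_inv_rev, inv_inv, htt, mul_assoc h t y, ← hyi, hyd, pow_two]; group
    have hhw : Commute h w := by
      have h1 : h * w * h⁻¹ = w := by
        rw [hwd, ← conj_pow, hhu, huy.inv_left.mul_pow, hy2, mul_one, inv_pow]
        exact inv_eq_of_mul_eq_one_right (by rw [← pow_two]; exact hw2)
      exact mul_inv_eq_iff_eq_mul.mp h1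
    set P := (movedHom h).range with hP
    have hP' : (movedHom h').range = P := by
      rw [hP, ← range_sq hA hq2 hh, ← range_sq hA hq2 hh'S, hy']
    have hwm : ∀ a, w a * a⁻¹ ∈ P := fun a => by
      set b := h⁻¹ a
      have h1 : h'⁻¹ b * b⁻¹ ∈ P := by
        rw [← hP']
        have h2 := inv_mem (moved_mem h' (h'⁻¹ b))
        rwa [MulAut.apply_inv_self, mul_inv_rev, inv_inv] at h2
      have h2 : b * a⁻¹ ∈ P := by
        have h3 := inv_mem (moved_mem h b)
        rwa [MulAut.apply_inv_self, mul_inv_rev, inv_inv] at h3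
      have h4 := mul_mem h1 h2
      rwa [← mul_assoc, inv_mul_cancel_right, ← MulAut.mul_apply, ← hwe] at h4
    have hWinv : ∀ p ∈ (movedHom w).range, h p ∈ (movedHom w).range := by
      rintro _ ⟨a, rfl⟩
      refine ⟨h a, ?_⟩
      show w (h a) * (h a)⁻¹ = h (w a * a⁻¹)
      rw [map_mul, map_inv, ← MulAut.mul_apply, ← hhw.eq, MulAut.mul_apply]
    rcases plane_cases hA hneg hh (W := (movedHom w).range)
      (by rintro _ ⟨a, rfl⟩; exact hwm a) hWinv with hW | hW
    · exfalso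
      have hw1 : w = 1 := MulEquiv.ext fun a => by
        have h2 := moved_mem w a
        rw [hW, Subgroup.mem_bot] at h2
        rw [mul_inv_eq_one.mp h2, MulAut.one_apply]
      rw [hw1, eq_comm, mul_eq_one_iff_eq_inv, inv_inv] at hwe
      refine false_of_reversed hA hq2 hneg hh hy htR ht ?_ ω hl hr halt hinv hnd
      conv_lhs => arg 2; rw [← htt]
      exact inv_injective (hwe.trans (inv_inv h).symm)
    · have hwP : ∀ p ∈ P, w p = p⁻¹ := by
        intro p hp
        rw [hP, ← hW] at hp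
        obtain ⟨a, rfl⟩ := hp
        show w (w a * a⁻¹) = (w a * a⁻¹)⁻¹
        rw [map_mul, map_inv, ← mulAut_sq_apply, hw2, MulAut.one_apply, mul_inv_rev, inv_inv]
      rw [ht, one_mul, hyi]
      exact (eq_of_inverts_moved hA hq2 hw2 hy2 hwy hwP
        (fun p hp => (small_range ⟨R, hh⟩ hp).2) hwm (sq_moved_le h)).symm
  rcases ht with ht | ht <;> rcases hh with hh | hh
  · left; rw [ht, hh, inv_one, one_mul]
  · by_cases hy : h ^ 2 = 1
    · left; rw [ht, hy, inv_one, one_mul]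
    · exact Or.inr (key hhR htR hh hy ht hu)
  · by_cases hy : t ^ 2 = 1
    · left; rw [hy, hh, inv_one, one_mul]
    · have e : h * t⁻¹ = (t * h⁻¹)⁻¹ := by group
      have h1 := key htR hhR ht hy hh (by rw [e, inv_pow, hu, inv_one])
      rw [e, inv_pow, hh, one_mul, inv_inj] at h1
      exact Or.inr (by rw [hh, inv_one, mul_one, h1])
  · rcases commute_or_sq_eq hA hq2 hneg hR ht hh with hc | hc
    · exact Or.inr (by rw [hc.inv_right.mul_pow, inv_pow])
    · exact Or.inl (by rw [hc, mul_inv_cancel])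

end Cfsg.Agent.TwoLength
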