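/-
The squares of deficient elements on one summand of a class two q-group (helper83).

Main results (namespace `Cfsg.Agent.TwoLength`):
* pow_mem_stab_of_deficient
* local_exp: two deficient elements with a quotient of exponent four
-/
import Cfsg.Agent.Lib.TwoLength.SmallPlane
import Cfsg.Agent.Lib.TwoLength.Decomp
import Cfsg.Agent.Lib.HallHigman.SmallTwoBound
import Mathlib.Dynamics.PeriodicPts.Lemmas

set_option autoImplicit false
set_option linter.style.haveILetI false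
set_option linter.unusedSectionVars false

open scoped commutatorElement

namespace Cfsg.Agent.TwoLength

open HallHigman

variable {H : Type*} [Group H] [Finite H] {F : Type*} [Field F]
  {V : Type*} [AddCommGroup V] [Module F V] {ρ : H →* Module.End F V} {K : Subgroup H}

theorem twist_iterate [K.Normal] (g : H) (χ : K → F) :
    ∀ i : ℕ, (twist g)^[i] χ = twist (g ^ i) χ
  | 0 => by rw [Function.iterate_zero_apply, pow_zero, twist_one]
  | i + 1 => by rw [Function.iterate_succ_apply', twist_iterate g χ i, twist_twist, pow_succ']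

theorem twist_pow_ne [K.Normal] {g : H} {χ : K → F} {n j : ℕ} (hg : g ^ 2 ^ n = 1)
    (hne : twist (g ^ 2 ^ j) χ ≠ χ) {i : ℕ} (hi : 0 < i) (hij : i < 2 ^ (j + 1)) :
    twist (g ^ i) χ ≠ χ := by
  intro hfix
  have h1 : Function.IsPeriodicPt (twist g) (2 ^ n) χ :=
    (twist_iterate g χ _).trans (by rw [hg, twist_one])
  obtain ⟨a, -, ha⟩ := (Nat.dvd_prime_pow Nat.prime_two).mp h1.minimalPeriod_dvd
  have h2 : Function.IsPeriodicPt (twist g) i χ := (twist_iterate g χ _).trans hfix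
  have h3 : 2 ^ a ≤ i := Nat.le_of_dvd hi (ha ▸ h2.minimalPeriod_dvd)
  have haj : a ≤ j := by
    by_contra hcon
    have := Nat.pow_le_pow_right (show 0 < 2 by norm_num) (show j + 1 ≤ a by omega)
    omega
  refine hne ((twist_iterate g χ _).symm.trans ?_)
  refine (Function.isPeriodicPt_iff_minimalPeriod_dvd).mpr ?_
  rw [ha]
  exact pow_dvd_pow 2 haj

/-- A sum over an orbit of summands vanishes only at zero. -/
theorem eq_zero_of_sum_orbit [K.Normal] {g : H} {χ : K → F} {M : ℕ} (hM : 0 < M)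
    (hne : ∀ i, 0 < i → i < M → twist (g ^ i) χ ≠ χ) {v : V} (hv : v ∈ Dsp ρ K χ)
    (h : (∑ i ∈ Finset.range M, ρ g ^ i) v = 0) : v = 0 := by
  obtain ⟨m, rfl⟩ : ∃ m, M = m + 1 := ⟨M - 1, by omega⟩
  rw [Finset.sum_range_succ', pow_zero, LinearMap.add_apply, Module.End.one_apply,
    add_eq_zero_iff_neg_eq, LinearMap.sum_apply] at h
  have h1 : v ∈ ⨆ χ' ≠ χ, Dsp ρ K χ' := by
    rw [← h]
    refine Submodule.neg_mem _ (Submodule.sum_mem _ fun i hi => ?_)
    rw [← map_pow]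
    exact Submodule.mem_iSup_of_mem (twist (g ^ (i + 1)) χ) (Submodule.mem_iSup_of_mem
      (hne (i + 1) (by omega) (by have := Finset.mem_range.mp hi; omega))
      (Dsp_map_le _ χ ⟨v, hv, rfl⟩))
  exact Submodule.disjoint_def.mp (Dsp_indep (ρ := ρ) (K := K) χ) v hv h1

variable [CharP F 2] [IsAlgClosed F] [FiniteDimensional F V]

theorem pow_mem_stab_of_deficient [K.Normal] {χ : K → F} (hne : Dsp ρ K χ ≠ ⊥) {g : H} {e : ℕ}
    (hd : Deficient ρ 2 e g) : g ^ 2 ^ e ∈ stabSub ρ (Dsp ρ K χ) := by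
  haveI : Fact (Nat.Prime 2) := ⟨Nat.prime_two⟩
  refine mem_stabSub_Dsp_of_twist (by_contra fun hcon => ?_)
  obtain ⟨v, hv, hv0⟩ := Submodule.exists_mem_ne_zero_of_ne_bot hne
  refine hv0 (eq_zero_of_sum_orbit (pow_pos two_pos (e + 1))
    (fun i hi hij => twist_pow_ne hd.1 hcon hi hij) hv ?_)
  rw [← sub_one_pow_eq_geom, hd.2, LinearMap.zero_apply]

theorem mem_fixC_of_fix [hK : K.Normal] {χ : K → F} {y : H}
    (hy : ∀ v ∈ Dsp ρ K χ, ρ y v = v) : y ∈ fixC ρ K (Dsp ρ K χ) := by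
  have hi : ∀ v ∈ Dsp ρ K χ, ρ y⁻¹ v = v := fun v hv => by
    conv_lhs => rw [← hy v hv]
    exact rho_inv_rho y v
  refine ⟨mem_stabSub.mpr fun v hv => by rw [hy v hv]; exact hv, fun c hc v hv => ?_⟩
  rw [rho_mul, rho_mul, hi v hv, hy _ (Dsp_inv hc χ v hv)]

theorem pow_mem_fixC_of_move [K.Normal] {χ : K → F} (hne : Dsp ρ K χ ≠ ⊥) {g : H} {e : ℕ}
    (hd : Deficient ρ 2 (e + 1) g) (hmove : g ^ 2 ^ e ∉ stabSub ρ (Dsp ρ K χ)) :
    g ^ 2 ^ (e + 1) ∈ fixC ρ K (Dsp ρ K χ) := by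
  haveI : Fact (Nat.Prime 2) := ⟨Nat.prime_two⟩
  refine mem_fixC_of_fix fun v hv => sub_eq_zero.mp ?_
  refine eq_zero_of_sum_orbit (pow_pos two_pos (e + 1))
    (fun i hi hij => twist_pow_ne hd.1 (fun h => hmove (mem_stabSub_Dsp_of_twist h)) hi hij)
    (Submodule.sub_mem _ (mem_stabSub.mp (pow_mem_stab_of_deficient hne hd) v hv) hv) ?_
  have h1 : (∑ i ∈ Finset.range (2 ^ (e + 1)), ρ g ^ i) * (ρ g ^ 2 ^ (e + 1) - 1) = 0 := by
    rw [← sub_one_pow_eq_geom, ← sub_one_pow_prime_pow, ← pow_add,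
      show 2 ^ (e + 1) - 1 + 2 ^ (e + 1) = 2 ^ (e + 1 + 1) - 1 by
        have := pow_pos (two_pos (α := ℕ)) (e + 1); rw [pow_succ 2 (e + 1)]; omega]
    exact hd.2
  have h2 := LinearMap.congr_fun h1 v
  rwa [Module.End.mul_apply, LinearMap.zero_apply, LinearMap.sub_apply, Module.End.one_apply,
    ← map_pow] at h2

set_option maxHeartbeats 800000 in
/-- Two deficient elements with a quotient of exponent four on a summand. -/
theorem local_exp (hρ : Function.Injective ρ) [hKn : K.Normal] {q : ℕ} [hq : Fact q.Prime]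
    (hq2 : q ≠ 2) (hKq : IsPGroup q K) (hC : ∀ a ∈ K, ∀ b ∈ K, ∀ c ∈ K, Commute ⁅a, b⁆ c)
    {χ : K → F} (hne : Dsp ρ K χ ≠ ⊥) {T : Subgroup H} (hT : IsPGroup 2 T) {e : ℕ}
    {g g' : H} (hg : g ∈ T) (hg' : g' ∈ T) (hd : Deficient ρ 2 (e + 1) g)
    (hd' : Deficient ρ 2 (e + 1) g')
    (hus : g' ^ 2 ^ e * (g ^ 2 ^ e)⁻¹ ∈ stabSub ρ (Dsp ρ K χ))
    (hu4 : (g' ^ 2 ^ e * (g ^ 2 ^ e)⁻¹) ^ 4 = 1) :
    g' ^ 2 ^ (e + 1) * (g ^ 2 ^ (e + 1))⁻¹ ∈ fixC ρ K (Dsp ρ K χ) ∨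
      g' ^ 2 ^ (e + 1) * (g ^ 2 ^ (e + 1))⁻¹ *
        (g' ^ 2 ^ e * (g ^ 2 ^ e)⁻¹ * (g' ^ 2 ^ e * (g ^ 2 ^ e)⁻¹))⁻¹ ∈ fixC ρ K (Dsp ρ K χ) := by
  classical
  haveI : Fact (Nat.Prime 2) := ⟨Nat.prime_two⟩
  set D := Dsp ρ K χ with hDdef
  set h := g ^ 2 ^ e with hh
  set t := g' ^ 2 ^ e with ht
  have hh2 : h ^ 2 = g ^ 2 ^ (e + 1) := by rw [hh, ← pow_mul, ← pow_succ]
  have ht2 : t ^ 2 = g' ^ 2 ^ (e + 1) := by rw [ht, ← pow_mul, ← pow_succ]
  rw [← hh2, ← ht2]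
  by_cases hhs : h ∈ stabSub ρ D
  swap
  · refine Or.inl (mul_mem ?_ (inv_mem ?_))
    · rw [ht2]
      refine pow_mem_fixC_of_move hne hd' fun hts => hhs ?_
      have h1 := mul_mem (inv_mem hus) hts
      rwa [mul_inv_rev, inv_inv, ← ht, inv_mul_cancel_right] at h1
    · rw [hh2]
      exact pow_mem_fixC_of_move hne hd hhs
  have hts : t ∈ stabSub ρ D := by
    have h1 := mul_mem hus hhs
    rwa [inv_mul_cancel_right] at h1
  have hKS : K ≤ stabSub ρ D := fun c hc => mem_stabSub.mpr (Dsp_inv hc χ)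
  have hnorm : ∀ x : H, x ∈ Subgroup.normalizer (K : Set H) := fun x => by
    rw [Subgroup.normalizer_eq_top_iff.mpr hKn]; exact Subgroup.mem_top x
  set KD := centralMod ρ K hC D with hKD
  -- the representation on the summand
  set σ := restrictHom ρ D with hσ
  haveI : Nontrivial D := Submodule.nontrivial_iff_ne_bot.mpr hne
  have hKodd : Odd (Nat.card K) := by
    obtain ⟨m, hm⟩ := IsPGroup.iff_card.mp hKq
    rw [hm]; exact (hq.out.odd_of_ne_two hq2).pow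
  have hHeis := heis_Dsp (ρ := ρ) hKodd hC χ
  have hmemK : ∀ a ∈ K, ∀ b ∈ K, ⁅a, b⁆ ∈ K := fun a ha b hb => by
    rw [commutatorElement_def]
    exact mul_mem (mul_mem (mul_mem ha hb) (inv_mem ha)) (inv_mem hb)
  let cm : (a b : K) → stabSub ρ D := fun a b =>
    ⟨⁅(a : H), (b : H)⁆, hKS (hmemK a a.2 b b.2)⟩
  have hcm : ∀ a b : K, IsScal σ (cm a b) := fun a b => by
    have h1 := hHeis.comm ⟨a, hKS a.2⟩ a.2 ⟨b, hKS b.2⟩ b.2
    have h2 : ⁅(⟨a, hKS a.2⟩ : stabSub ρ D), ⟨b, hKS b.2⟩⁆ = cm a b := Subtype.ext (by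
      simp only [cm, commutatorElement_def, Subgroup.coe_mul, Subgroup.coe_inv])
    rwa [h2] at h1
  have hKDmem : ∀ {c : H} (hc : c ∈ K), c ∈ KD ↔ ∀ d : K, σ (cm ⟨c, hc⟩ d) = 1 := by
    intro c hc
    rw [hKD, mem_centralMod]
    constructor
    · intro h1 d
      exact LinearMap.ext fun v => Subtype.ext (h1.2 d d.2 v v.2)
    · intro h1
      exact ⟨hc, fun d hd' u hu => congrArg Subtype.val (LinearMap.congr_fun (h1 ⟨d, hd'⟩) ⟨u, hu⟩)⟩
  -- trivial on the quotient means centralising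
  have hker : ∀ r ∈ T, r ∈ stabSub ρ D → (∀ c ∈ K, r * c * r⁻¹ * c⁻¹ ∈ KD) →
      r ∈ fixC ρ K D := by
    intro r hrT hrs hr
    refine ⟨hrs, fun c hc v hv => ?_⟩
    have hk := hr c hc
    set k := r * c * r⁻¹ * c⁻¹ with hkd
    have hkK : k ∈ K := mul_mem (hKn.conj_mem c hc r) (inv_mem hc)
    obtain ⟨s, hs⟩ : IsScal σ ⟨k, hKS hkK⟩ := by
      refine hHeis.cent _ hkK fun b hb => (commute_iff_conj _ _).mpr ?_
      have h1 := (hKDmem hkK).mp hk ⟨b, hb⟩
      have h2 : ⟨k, hKS hkK⟩ * b * (⟨k, hKS hkK⟩ : stabSub ρ D)⁻¹ = cm ⟨k, hkK⟩ ⟨b, hb⟩ * b :=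
        Subtype.ext (by
          simp only [cm, commutatorElement_def, Subgroup.coe_mul, Subgroup.coe_inv,
            inv_mul_cancel_right])
      rw [h2, map_mul, h1, one_mul]
    set R' : stabSub ρ D := ⟨r, hrs⟩
    set c' : stabSub ρ D := ⟨c, hKS hc⟩
    have hstep : σ R' * σ c' * σ R'⁻¹ = s • σ c' := by
      rw [← map_mul, ← map_mul, show R' * c' * R'⁻¹ = ⟨k, hKS hkK⟩ * c' from Subtype.ext (by
        simp only [R', c', hkd, Subgroup.coe_mul, Subgroup.coe_inv, inv_mul_cancel_right]),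
        map_mul, hs, smul_mul_assoc, one_mul]
    have hiter : ∀ j : ℕ, σ (R' ^ j) * σ c' * σ (R' ^ j)⁻¹ = s ^ j • σ c' := by
      intro j
      induction j with
      | zero => simp
      | succ j ih =>
        rw [pow_succ', mul_inv_rev, map_mul, map_mul,
          show σ R' * σ (R' ^ j) * σ c' * (σ (R' ^ j)⁻¹ * σ R'⁻¹) =
            σ R' * (σ (R' ^ j) * σ c' * σ (R' ^ j)⁻¹) * σ R'⁻¹ by simp only [mul_assoc],
          ih, mul_smul_comm, smul_mul_assoc, hstep, smul_smul, ← pow_succ]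
    obtain ⟨m, hm⟩ := exists_pow_eq_one hT hrT
    have h1 := hiter (2 ^ m)
    rw [show R' ^ 2 ^ m = 1 from Subtype.ext (by rw [SubgroupClass.coe_pow]; exact hm), inv_one,
      map_one, one_mul, mul_one] at h1
    have hs1 : s ^ 2 ^ m = 1 := by
      have h2 := congrArg (fun X => X * σ c'⁻¹) h1
      simp only [smul_mul_assoc, ← map_mul, mul_inv_cancel, map_one] at h2
      obtain ⟨w, hw⟩ := exists_ne (0 : D)
      have h3 := LinearMap.congr_fun h2 w
      rw [LinearMap.smul_apply, Module.End.one_apply] at h3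
      have h4 : (s ^ 2 ^ m - 1) • w = 0 := by rw [sub_smul, one_smul, ← h3, sub_self]
      exact sub_eq_zero.mp ((smul_eq_zero.mp h4).resolve_right hw)
    rw [eq_one_of_pow_two_pow hs1, one_smul] at hstep
    rw [← map_mul, ← map_mul] at hstep
    exact congrArg Subtype.val (LinearMap.congr_fun hstep ⟨v, hv⟩)
  -- the quotient
  set K' := KD.subgroupOf K with hK'
  have hcommK : ∀ a ∈ K, ∀ a' ∈ K, ⁅a, a'⁆ ∈ KD := fun a ha a' ha' =>
    ⟨hmemK a ha a' ha', fun d hd' u _ => by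
      rw [commutatorElement_eq_one_iff_commute.mpr (hC a ha a' ha' d hd')]; simp⟩
  haveI hK'n : K'.Normal := ⟨fun a ha a' => by
    have h1 := KD.mul_mem (hcommK a' a'.2 a a.2) ha
    show (a' : H) * a * (a' : H)⁻¹ ∈ KD
    simpa [commutatorElement_def, mul_assoc] using h1⟩
  letI : CommGroup (K ⧸ K') :=
    { (inferInstance : Group (K ⧸ K')) with
      mul_comm := fun a a' => by
        induction a using QuotientGroup.induction_on with | _ a => ?_
        induction a' using QuotientGroup.induction_on with | _ a' => ?_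
        rw [← QuotientGroup.mk_mul, ← QuotientGroup.mk_mul, QuotientGroup.eq]
        show ((a * a' : K) : H)⁻¹ * ((a' * a : K) : H) ∈ KD
        have h1 := hcommK (a' : H)⁻¹ (K.inv_mem a'.2) (a : H)⁻¹ (K.inv_mem a.2)
        simpa [commutatorElement_def, mul_assoc] using h1 }
  set R₀ := T ⊓ stabSub ρ D with hR₀
  let f : R₀ →* MulAut K :=
    K.normalizerMonoidHom.comp (Subgroup.inclusion fun r _ => hnorm r)
  have hf : ∀ (r : R₀) (a : K), ((f r a : K) : H) = (r : H) * a * (r : H)⁻¹ := fun r a => rfl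
  have hKDn : ∀ r : R₀, (r : H) ∈ Subgroup.normalizer (KD : Set H) := fun r =>
    mem_normalizer_centralMod (hnorm r) (Or.inr r.2.2)
  have hfK : ∀ r : R₀, K'.map (f r).toMonoidHom = K' := fun r => by
    refine le_antisymm ?_ fun a ha => ⟨f r⁻¹ a, ?_, ?_⟩
    · rintro _ ⟨a, ha, rfl⟩
      exact (Subgroup.mem_normalizer_iff.mp (hKDn r) (a : H)).mp ha
    · exact (Subgroup.mem_normalizer_iff.mp (hKDn r⁻¹) (a : H)).mp ha
    · show f r (f r⁻¹ a) = a
      rw [← MulAut.mul_apply, ← map_mul, mul_inv_cancel, map_one, MulAut.one_apply]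
  let φ : R₀ →* MulAut (K ⧸ K') :=
    { toFun := fun r => QuotientGroup.congr _ _ (f r) (hfK r)
      map_one' := MulEquiv.ext fun a => by
        induction a using QuotientGroup.induction_on with | _ a => ?_
        show ((f 1 a : K) : K ⧸ K') = (a : K ⧸ K')
        rw [map_one, MulAut.one_apply]
      map_mul' := fun r s => MulEquiv.ext fun a => by
        induction a using QuotientGroup.induction_on with | _ a => ?_
        show ((f (r * s) a : K) : K ⧸ K') = ((f r (f s a) : K) : K ⧸ K')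
        rw [map_mul, MulAut.mul_apply] }
  have hφ1 : ∀ r : R₀, φ r = 1 → (r : H) ∈ fixC ρ K D := fun r hr =>
    hker r r.2.1 r.2.2 fun c hc => by
      have h1 := congrArg (fun m : MulAut (K ⧸ K') => m ((⟨c, hc⟩ : K) : K ⧸ K')) hr
      simp only [MulAut.one_apply] at h1
      have h2 : f r ⟨c, hc⟩ * (⟨c, hc⟩ : K)⁻¹ ∈ K' := by
        rw [← QuotientGroup.eq_one_iff, QuotientGroup.mk_mul, QuotientGroup.mk_inv]
        exact mul_inv_eq_one.mpr h1
      exact h2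
  -- the pairing
  let w0 : K → K → (Module.End F D)ˣ := fun a b => σ.toHomUnits (cm a b)
  have hw0 : ∀ a b, ((w0 a b : (Module.End F D)ˣ) : Module.End F D) = σ (cm a b) := fun a b => rfl
  have hwl : ∀ a a' b, w0 (a * a') b = w0 a b * w0 a' b := fun a a' b => by
    refine Units.ext ?_
    rw [Units.val_mul, hw0, hw0, hw0, ← map_mul]
    congr 1
    refine Subtype.ext ?_
    show ⁅(a : H) * a', (b : H)⁆ = ⁅(a : H), (b : H)⁆ * ⁅(a' : H), (b : H)⁆
    rw [commutatorElement_mul_left_eq_conj_mul, (hC a' a'.2 b b.2 a a.2).symm.eq,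
      mul_inv_cancel_right, (hC a' a'.2 b b.2 _ (hmemK a a.2 b b.2)).eq]
  have hwr : ∀ a b b', w0 a (b * b') = w0 a b * w0 a b' := fun a b b' => by
    refine Units.ext ?_
    rw [Units.val_mul, hw0, hw0, hw0, ← map_mul]
    congr 1
    refine Subtype.ext ?_
    show ⁅(a : H), (b : H) * b'⁆ = ⁅(a : H), (b : H)⁆ * ⁅(a : H), (b' : H)⁆
    exact PGroup.commutator_mul_right (hC a a.2 b' b'.2 b b.2).symm
  have hwk : ∀ a b : K, a ∈ K' → w0 a b = 1 := fun a b ha =>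
    Units.ext ((hKDmem a.2).mp ha b)
  have hwk' : ∀ a b : K, b ∈ K' → w0 a b = 1 := fun a b hb => by
    have h1 : cm a b = (cm b a)⁻¹ := Subtype.ext (by
      simp only [cm, Subgroup.coe_inv, commutatorElement_inv])
    show σ.toHomUnits (cm a b) = 1
    rw [h1, map_inv, show σ.toHomUnits (cm b a) = 1 from hwk b a hb, inv_one]
  have hout : ∀ a : K, ∃ k ∈ K', ((a : K ⧸ K')).out = a * k := fun a => by
    obtain ⟨k, hk⟩ := QuotientGroup.mk_out_eq_mul K' a
    exact ⟨k, k.2, hk⟩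
  let ω : K ⧸ K' → K ⧸ K' → (Module.End F D)ˣ := fun x y => w0 x.out y.out
  have hωmk : ∀ a b : K, ω a b = w0 a b := fun a b => by
    obtain ⟨k, hk, e1⟩ := hout a
    obtain ⟨k', hk', e2⟩ := hout b
    show w0 _ _ = _
    rw [e1, e2, hwl, hwr, hwr, hwk k b hk, hwk k k' hk, hwk' a k' hk', mul_one, mul_one, mul_one]
  have hl : ∀ x y z, ω (x * y) z = ω x z * ω y z := fun x y z => by
    induction x using QuotientGroup.induction_on with | _ a => ?_
    induction y using QuotientGroup.induction_on with | _ b => ?_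
    induction z using QuotientGroup.induction_on with | _ c => ?_
    rw [← QuotientGroup.mk_mul, hωmk, hωmk, hωmk, hwl]
  have hr' : ∀ x y z, ω x (y * z) = ω x y * ω x z := fun x y z => by
    induction x using QuotientGroup.induction_on with | _ a => ?_
    induction y using QuotientGroup.induction_on with | _ b => ?_
    induction z using QuotientGroup.induction_on with | _ c => ?_
    rw [← QuotientGroup.mk_mul, hωmk, hωmk, hωmk, hwr]
  have halt : ∀ x, ω x x = 1 := fun x => by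
    induction x using QuotientGroup.induction_on with | _ a => ?_
    rw [hωmk]
    refine Units.ext ?_
    rw [hw0, show cm a a = 1 from Subtype.ext (commutatorElement_self _), map_one, Units.val_one]
  have hinv : ∀ r ∈ φ.range, ∀ x y, ω (r x) (r y) = ω x y := by
    rintro _ ⟨r, rfl⟩ x y
    induction x using QuotientGroup.induction_on with | _ a => ?_
    induction y using QuotientGroup.induction_on with | _ b => ?_
    show ω ((f r a : K) : K ⧸ K') ((f r b : K) : K ⧸ K') = _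
    rw [hωmk, hωmk]
    refine Units.ext ?_
    rw [hw0, hw0, ← (hcm a b).conj ⟨r, r.2.2⟩]
    congr 1
    refine Subtype.ext ?_
    show ⁅((f r a : K) : H), ((f r b : K) : H)⁆ = (r : H) * ⁅(a : H), (b : H)⁆ * (r : H)⁻¹
    rw [hf, hf, conjugate_commutatorElement]
  have hnd : ∀ x, (∀ y, ω x y = 1) → x = 1 := fun x hx => by
    induction x using QuotientGroup.induction_on with | _ a => ?_
    refine (QuotientGroup.eq_one_iff a).mpr ((hKDmem a.2).mpr fun d => ?_)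
    have h1 := hx d
    rw [hωmk] at h1
    exact congrArg Units.val h1
  -- the elements are plane elements
  obtain ⟨U, hUle, hUs⟩ := exists_simple_le (ρ := ρ) (Q := K) (U := D) hne
    fun c hc => Dsp_inv hc χ
  have hKU : centralMod ρ K hC U = KD := by
    ext c
    rw [mem_centralMod, hKD, mem_centralMod]
    refine ⟨fun h1 => ⟨h1.1, fun d hd' v hv => ?_⟩,
      fun h1 => ⟨h1.1, fun d hd' u hu => h1.2 d hd' u (hUle hu)⟩⟩
    obtain ⟨s, hs⟩ := hcm ⟨c, h1.1⟩ ⟨d, hd'⟩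
    have hsv : ∀ v ∈ D, ρ ⁅c, d⁆ v = s • v := fun v hv =>
      congrArg Subtype.val (LinearMap.congr_fun hs ⟨v, hv⟩)
    obtain ⟨u, hu, hu0⟩ := Submodule.exists_mem_ne_zero_of_ne_bot hUs.1
    have h2 := h1.2 d hd' u hu
    rw [hsv u (hUle hu)] at h2
    have h3 : (s - 1) • u = 0 := by rw [sub_smul, one_smul, h2, sub_self]
    rw [hsv v hv, sub_eq_zero.mp ((smul_eq_zero.mp h3).resolve_right hu0), one_smul]
  have hsmall : ∀ (a : H), a ∈ T → Deficient ρ 2 (e + 1) a → ∀ (ha : a ^ 2 ^ e ∈ R₀),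
      φ ⟨a ^ 2 ^ e, ha⟩ ^ 2 = 1 ∨
        (q % 4 = 3 ∧ SmallTwo q φ.range (φ ⟨a ^ 2 ^ e, ha⟩)) := by
    intro a _ had ha
    set w := a ^ 2 ^ e with hw
    have hw2 : w ^ 2 = a ^ 2 ^ (e + 1) := by rw [hw, ← pow_mul, ← pow_succ]
    by_cases hy : ∃ c ∈ K, a ^ 2 ^ (e + 1) * c * (a ^ 2 ^ (e + 1))⁻¹ * c⁻¹ ∉ centralMod ρ K hC U
    swap
    · push Not at hy
      left
      rw [← map_pow]
      refine MulEquiv.ext fun x => ?_
      induction x using QuotientGroup.induction_on with | _ c => ?_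
      show ((f (⟨w, ha⟩ ^ 2) c : K) : K ⧸ K') = (c : K ⧸ K')
      rw [eq_comm, QuotientGroup.eq]
      show ((c : H))⁻¹ * ((f (⟨w, ha⟩ ^ 2) c : K) : H) ∈ KD
      rw [hf, SubgroupClass.coe_pow, hw2]
      have h1 := hy c c.2
      rw [hKU] at h1
      exact hK'n.mem_comm (a := (⟨_, hKn.conj_mem c c.2 (a ^ 2 ^ (e + 1))⟩ : K)) (b := c⁻¹) h1
    obtain ⟨-, hq4, Q, hQC, hQi, hQm, hQy⟩ :=
      exists_smallTwo_of_deficient hρ had hq2 hKq (hnorm a) hUs hy
    rw [hKU, ← hw] at hQm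
    rw [hKU] at hQi hQy
    rw [← hw2] at hQy
    have hmod' : ∀ c : K, ∃ a' : K, (a' : H) ∈ Q ∧
        movedHom (φ ⟨w, ha⟩) (c : K ⧸ K') = (a' : K ⧸ K') := fun c => by
      obtain ⟨a', ha', h1⟩ := hQm c c.2
      refine ⟨⟨a', hQC ha'⟩, ha', ?_⟩
      show ((f ⟨w, ha⟩ c * c⁻¹ : K) : K ⧸ K') = _
      rw [eq_comm, QuotientGroup.eq]
      exact h1
    refine Or.inr ⟨hq4, ⟨_, rfl⟩, ?_, fun x => ?_⟩
    · have h1 : KD.relIndex Q = Nat.card ((Q.subgroupOf K).map (QuotientGroup.mk' K')) := by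
        rw [← Subgroup.relIndex_ker, QuotientGroup.ker_mk']
        exact (Subgroup.relIndex_subgroupOf hQC).symm
      refine le_trans ?_ (h1 ▸ hQi)
      refine Nat.le_of_dvd Nat.card_pos (Subgroup.card_dvd_of_le ?_)
      rintro _ ⟨x, rfl⟩
      induction x using QuotientGroup.induction_on with | _ c => ?_
      obtain ⟨a', ha', h2⟩ := hmod' c
      exact ⟨a', ha', h2.symm⟩
    · induction x using QuotientGroup.induction_on with | _ c => ?_
      obtain ⟨a', ha', h2⟩ := hmod' c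
      show φ ⟨w, ha⟩ (φ ⟨w, ha⟩ (movedHom (φ ⟨w, ha⟩) (c : K ⧸ K'))) =
        (movedHom (φ ⟨w, ha⟩) (c : K ⧸ K'))⁻¹
      rw [h2]
      show ((f ⟨w, ha⟩ (f ⟨w, ha⟩ a') : K) : K ⧸ K') = ((a'⁻¹ : K) : K ⧸ K')
      rw [eq_comm, QuotientGroup.eq, inv_inv]
      show (a' : H) * ((f ⟨w, ha⟩ (f ⟨w, ha⟩ a') : K) : H) ∈ KD
      rw [hf, hf]
      have h4 := (hK'n.mem_comm (a := (⟨_, hKn.conj_mem a' a'.2 (w ^ 2)⟩ : K)) (b := a'))
        (show (⟨_, hKn.conj_mem a' a'.2 (w ^ 2)⟩ : K) * a' ∈ K' from hQy a' ha')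
      have h5 : (a' : H) * (w ^ 2 * a' * (w ^ 2)⁻¹) ∈ KD := h4
      convert h5 using 1
      rw [sq]; group
  have hhR : h ∈ R₀ := ⟨pow_mem hg _, hhs⟩
  have htR : t ∈ R₀ := ⟨pow_mem hg' _, hts⟩
  set h₀ : R₀ := ⟨h, hhR⟩
  set t₀ : R₀ := ⟨t, htR⟩
  have hz : ((t₀ ^ 2 * (h₀ ^ 2)⁻¹ : R₀) : H) = t ^ 2 * (h ^ 2)⁻¹ := by
    simp [h₀, t₀]
  have hres : φ (t₀ ^ 2 * (h₀ ^ 2)⁻¹) = 1 ∨
      φ (t₀ ^ 2 * (h₀ ^ 2)⁻¹) = φ ((t₀ * h₀⁻¹) ^ 2) := by
    simp only [map_mul, map_inv, map_pow]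
    have hneg : ∀ {w : MulAut (K ⧸ K')}, (q % 4 = 3 ∧ SmallTwo q φ.range w) →
        ∀ s : ℕ, ¬ q ∣ s * s + 1 := fun hw => not_dvd_sq_add_one hw.1
    have hR : IsPGroup 2 φ.range :=
      (hT.to_le (inf_le_left : R₀ ≤ T)).of_surjective _ φ.rangeRestrict_surjective
    have hu : (φ t₀ * (φ h₀)⁻¹) ^ 4 = 1 := by
      rw [← map_inv, ← map_mul, ← map_pow,
        show (t₀ * h₀⁻¹) ^ 4 = 1 from Subtype.ext (by simpa [h₀, t₀] using hu4), map_one]
    rcases hsmall g hg hd hhR with h1 | h1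
    · rcases hsmall g' hg' hd' htR with h2 | h2
      · exact Or.inl (by rw [show φ t₀ ^ 2 = 1 from h2, show φ h₀ ^ 2 = 1 from h1, inv_one, one_mul])
      · exact plane_pair (hKq.to_quotient K') hq2 (hneg h2) hR ⟨_, rfl⟩ ⟨_, rfl⟩ (Or.inl h1)
          (Or.inr h2.2) hu ω hl hr' halt hinv hnd
    · exact plane_pair (hKq.to_quotient K') hq2 (hneg h1) hR ⟨_, rfl⟩ ⟨_, rfl⟩ (Or.inr h1.2)
        ((hsmall g' hg' hd' htR).imp id And.right) hu ω hl hr' halt hinv hnd
  rcases hres with h1 | h1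
  · exact Or.inl (hz ▸ hφ1 _ h1)
  · refine Or.inr ?_
    have h2 := hφ1 (t₀ ^ 2 * (h₀ ^ 2)⁻¹ * ((t₀ * h₀⁻¹) ^ 2)⁻¹)
      (by rw [map_mul, map_inv, h1, mul_inv_cancel])
    simpa [h₀, t₀, pow_two, mul_assoc] using h2

end Cfsg.Agent.TwoLength
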