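/-
Group theoretic facts about sections of a 2-group and about normal subgroups of class two (helper83).

Main results (namespace `Cfsg.Agent.TwoLength`):
* sqCl, le_of_le_sqCl_sup, secR, IsSec
* commutes_of_trivial_on_sections
* eq_one_of_centralizes_primary, eq_one_of_centralizes_classTwo
-/
import Cfsg.Agent.Lib.TwoLength.Chain
import Cfsg.Agent.Lib.Coprime.PQ
import Cfsg.Agent.Lib.PGroup.Critical
import Cfsg.Agent.Lib.Solvable.Fitting
import Cfsg.Agent.Lib.Cores.Fitting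
import Cfsg.Agent.Lib.Cores.Frattini

set_option autoImplicit false
set_option linter.style.haveILetI false
set_option linter.unusedSectionVars false

open scoped commutatorElement

namespace Cfsg.Agent.TwoLength

variable {H : Type*} [Group H]

/-- The subgroup generated by the squares. -/
def sqCl (X : Subgroup H) : Subgroup H := Subgroup.closure ((fun x => x * x) '' (X : Set H))

theorem sq_mem_sqCl {X : Subgroup H} {x : H} (hx : x ∈ X) : x * x ∈ sqCl X :=
  Subgroup.subset_closure ⟨x, hx, rfl⟩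

theorem sqCl_le (X : Subgroup H) : sqCl X ≤ X :=
  (Subgroup.closure_le _).mpr fun _ ⟨_, hx, e⟩ => e ▸ mul_mem hx hx

theorem commutator_mem_sqCl {X : Subgroup H} {x y : H} (hx : x ∈ X) (hy : y ∈ X) :
    x * y * x⁻¹ * y⁻¹ ∈ sqCl X := by
  have h := mul_mem (mul_mem (sq_mem_sqCl hx) (sq_mem_sqCl (mul_mem (inv_mem hx) hy)))
    (sq_mem_sqCl (inv_mem hy))
  convert h using 1
  group

theorem conj_mem_sqCl {X : Subgroup H} {k : H} (hk : k ∈ Subgroup.normalizer (X : Set H)) {z : H}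
    (hz : z ∈ sqCl X) : k * z * k⁻¹ ∈ sqCl X := by
  have h : sqCl X ≤ (sqCl X).comap (MulAut.conj k).toMonoidHom := by
    refine (Subgroup.closure_le _).mpr ?_
    rintro _ ⟨x, hx, rfl⟩
    show k * (x * x) * k⁻¹ ∈ sqCl X
    rw [show k * (x * x) * k⁻¹ = k * x * k⁻¹ * (k * x * k⁻¹) by group]
    exact sq_mem_sqCl ((Subgroup.mem_normalizer_iff.mp hk x).mp hx)
  exact h hz

/-- The squares do not help to generate a 2-group. -/
theorem le_of_le_sqCl_sup [Finite H] {X : Subgroup H} (hX : IsPGroup 2 X) {C : Subgroup H}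
    (h : X ≤ sqCl X ⊔ (X ⊓ C)) : X ≤ C := by
  haveI : Fact (Nat.Prime 2) := ⟨Nat.prime_two⟩
  have h1 : (X ⊓ C).subgroupOf X ⊔ frattini X = ⊤ := by
    refine eq_top_iff.mpr fun x _ => ?_
    have h2 : sqCl X ⊔ (X ⊓ C) ≤ ((X ⊓ C).subgroupOf X ⊔ frattini X).map X.subtype := by
      refine sup_le ((Subgroup.closure_le _).mpr ?_) fun z hz =>
        ⟨⟨z, hz.1⟩, Subgroup.mem_sup_left hz, rfl⟩
      rintro _ ⟨z, hz, rfl⟩
      refine ⟨(⟨z, hz⟩ : X) * ⟨z, hz⟩, Subgroup.mem_sup_right ?_, rfl⟩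
      rw [← pow_two]
      exact Cores.pow_mem_frattini hX _
    obtain ⟨y, hy, e⟩ := h2 (h x.2)
    rwa [← Subtype.ext e]
  have h3 := frattini_nongenerating h1
  intro x hx
  have h4 : (⟨x, hx⟩ : X) ∈ (X ⊓ C).subgroupOf X := h3 ▸ Subgroup.mem_top _
  exact h4.2

theorem sqCl_ne [Finite H] {X : Subgroup H} (hX : IsPGroup 2 X) (hne : X ≠ ⊥) : ¬ X ≤ sqCl X := by
  intro h
  exact hne (le_bot_iff.mp (le_of_le_sqCl_sup hX (C := ⊥) (h.trans le_sup_left)))

/-- The join of the proper subgroups of `X` normalised by `N`. -/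
def secR (N X : Subgroup H) : Subgroup H :=
  sSup {Y | N ≤ Subgroup.normalizer (Y : Set H) ∧ Y < X}

theorem secR_le (N X : Subgroup H) : secR N X ≤ X := sSup_le fun _ hY => hY.2.le

theorem le_secR {N X Y : Subgroup H} (hY : N ≤ Subgroup.normalizer (Y : Set H)) (h : Y < X) :
    Y ≤ secR N X := le_sSup ⟨hY, h⟩

variable [Finite H]

theorem secR_conj {N X : Subgroup H} {k : H} (hk : k ∈ N) {z : H} (hz : z ∈ secR N X) :
    k * z * k⁻¹ ∈ secR N X := by
  have h : secR N X ≤ (secR N X).comap (MulAut.conj k).toMonoidHom :=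
    sSup_le fun Y hY z hz => le_secR hY.1 hY.2
      ((Subgroup.mem_normalizer_iff.mp (hY.1 hk) z).mp hz)
  exact h hz

/-- `X` has a largest proper subgroup normalised by `N`. -/
structure IsSec (R N X : Subgroup H) : Prop where
  le : X ≤ R
  norm : N ≤ Subgroup.normalizer (X : Set H)
  ne : secR N X ≠ X

theorem IsSec.lt {R N X : Subgroup H} (h : IsSec R N X) : secR N X < X :=
  lt_of_le_of_ne (secR_le N X) h.ne

theorem IsSec.ne_bot {R N X : Subgroup H} (h : IsSec R N X) : X ≠ ⊥ := fun e => by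
  have := h.lt
  rw [e] at this
  exact not_lt_bot this

theorem IsSec.sqCl_le_secR {R N X : Subgroup H} (h : IsSec R N X) (hR : IsPGroup 2 R) :
    sqCl X ≤ secR N X := by
  refine le_secR (fun k hk => Coprime.mem_normalizer_of_forall fun z hz =>
    conj_mem_sqCl (h.norm hk) hz) (lt_of_le_of_ne (sqCl_le X) fun e => ?_)
  exact sqCl_ne (hR.to_le h.le) h.ne_bot e.ge

/-- The whole group acts trivially on the section. -/
theorem IsSec.commutator_le_secR {R N X : Subgroup H} (h : IsSec R N X) (hR : IsPGroup 2 R)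
    (hRN : R ≤ N) (hNR : N ≤ Subgroup.normalizer (R : Set H)) : ⁅X, R⁆ ≤ secR N X := by
  have hle : ⁅X, R⁆ ≤ X := Subgroup.commutator_le.mpr fun x hx r hr => by
    rw [commutatorElement_def, mul_assoc, mul_assoc, ← mul_assoc r]
    exact mul_mem hx ((Subgroup.mem_normalizer_iff.mp (h.norm (hRN hr)) _).mp (inv_mem hx))
  refine le_secR (fun k hk => ?_) (lt_of_le_of_ne hle fun e => h.ne_bot ?_)
  · have h1 := Subgroup.mem_normalizer_iff_map_conj_eq.mp (h.norm hk)
    have h2 := Subgroup.mem_normalizer_iff_map_conj_eq.mp (hNR hk)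
    rw [Subgroup.mem_normalizer_iff_map_conj_eq, Subgroup.map_commutator, h1, h2]
  · haveI : Fact (Nat.Prime 2) := ⟨Nat.prime_two⟩
    exact Coprime.eq_bot_of_le_commutator h.le hR.isNilpotent e.ge

/-- An element of odd order acting trivially on all sections centralises `R`. -/
theorem commutes_of_trivial_on_sections {R N : Subgroup H} (hR : IsPGroup 2 R)
    (hNR : N ≤ Subgroup.normalizer (R : Set H)) {y : H} {n : ℕ} (hn : Odd n) (hy : y ^ n = 1)
    (h : ∀ X, IsSec R N X → ∀ x ∈ X, y * x * y⁻¹ * x⁻¹ ∈ secR N X) :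
    ∀ x ∈ R, y * x * y⁻¹ = x := by
  classical
  by_contra hcon
  push Not at hcon
  obtain ⟨X, ⟨hXR, hXn, x, hx, hxy⟩, hmin⟩ := Set.Finite.exists_minimal
    (s := {X : Subgroup H | X ≤ R ∧ N ≤ Subgroup.normalizer (X : Set H) ∧ ∃ x ∈ X, y * x * y⁻¹ ≠ x})
    (Set.toFinite _) ⟨R, le_rfl, hNR, hcon⟩
  have hfix : ∀ z ∈ secR N X, y * z * y⁻¹ = z := by
    let Cy : Subgroup H :=
      { carrier := {z | y * z * y⁻¹ = z}
        one_mem' := by simp
        mul_mem' := fun {a b} ha hb => by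
          show y * (a * b) * y⁻¹ = a * b
          rw [show y * (a * b) * y⁻¹ = y * a * y⁻¹ * (y * b * y⁻¹) by group, ha, hb]
        inv_mem' := fun {a} ha => by
          show y * a⁻¹ * y⁻¹ = a⁻¹
          rw [show y * a⁻¹ * y⁻¹ = (y * a * y⁻¹)⁻¹ by group, ha] }
    intro z hz
    refine (sSup_le fun Y hY z hz => ?_ : secR N X ≤ Cy) hz
    show y * z * y⁻¹ = z
    by_contra hne
    exact hY.2.not_ge (hmin ⟨hY.2.le.trans hXR, hY.1, z, hz, hne⟩ hY.2.le)
  have hsec : IsSec R N X := ⟨hXR, hXn, fun e => hxy (hfix x (by rw [e]; exact hx))⟩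
  set r := y * x * y⁻¹ * x⁻¹ with hr
  have hrm := h X hsec x hx
  have hyr := hfix r hrm
  have hiter : ∀ i : ℕ, y ^ i * x * (y ^ i)⁻¹ = r ^ i * x := by
    intro i
    induction i with
    | zero => simp
    | succ i ih =>
      have hyri : y * r ^ i * y⁻¹ = r ^ i := by rw [← conj_pow, hyr]
      rw [show y ^ (i + 1) * x * (y ^ (i + 1))⁻¹ = y * (y ^ i * x * (y ^ i)⁻¹) * y⁻¹ by
        rw [pow_succ']; group, ih, show y * (r ^ i * x) * y⁻¹ = y * r ^ i * y⁻¹ * (r * x) by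
        rw [hr]; group, hyri, ← mul_assoc, ← pow_succ]
  have h1 := hiter n
  rw [hy, inv_one, one_mul, mul_one, right_eq_mul] at h1
  obtain ⟨m, hm⟩ := hR ⟨r, hXR (secR_le N X hrm)⟩
  have hco : (2 ^ m).Coprime n := (Nat.coprime_two_left.mpr hn).pow_left m
  have h2 : r = 1 := by
    refine orderOf_eq_one_iff.mp (Nat.eq_one_of_dvd_coprimes hco
      (orderOf_dvd_of_pow_eq_one (congrArg Subtype.val hm)) (orderOf_dvd_of_pow_eq_one h1))
  exact hxy (mul_inv_eq_one.mp h2)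

theorem eq_one_of_centralizes_primary [Group.IsSolvable H] (hO : Cfsg.pCore 2 H = ⊥) {t : H}
    (ht : ∃ k : ℕ, t ^ 2 ^ k = 1)
    (h : ∀ K : Subgroup H, K.Normal → ∀ q : ℕ, q.Prime → q ≠ 2 → IsPGroup q K →
      (∀ a ∈ K, ∀ b ∈ K, ∀ c ∈ K, Commute ⁅a, b⁆ c) → ∀ e ∈ K, t * e * t⁻¹ = e) : t = 1 := by
  classical
  obtain ⟨k, hk⟩ := ht
  have hq : ∀ q : Nat.Primes, Cfsg.pCore (q : ℕ) H ≤ Subgroup.centralizer {t} := by
    intro q
    haveI : Fact (q : ℕ).Prime := ⟨q.2⟩
    by_cases h2 : (q : ℕ) = 2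
    · rw [h2, hO]; exact bot_le
    set P := Cfsg.pCore (q : ℕ) H with hP
    have hPg : IsPGroup q P := Cores.isPGroup_pCore q H
    obtain ⟨C, hC⟩ := PGroup.exists_critical hPg
    haveI := hC.char
    haveI : (C.map P.subtype).Normal := inferInstance
    have hfix : ∀ x ∈ C, (MulAut.conjNormal t : MulAut P) x = x := by
      intro x hx
      refine Subtype.ext ?_
      rw [MulAut.conjNormal_apply]
      refine h (C.map P.subtype) inferInstance q q.2 h2 ((hPg.to_subgroup C).map P.subtype) ?_ _ ⟨x, hx, rfl⟩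
      rintro _ ⟨a, ha, rfl⟩ _ ⟨b, -, rfl⟩ _ ⟨c, hc, rfl⟩
      rw [← map_commutatorElement]
      exact (congrArg P.subtype (Subgroup.mem_centralizer_iff.mp (hC.comm_mem a ha b).2 c hc)).symm
    have ha : Nat.Coprime (orderOf (MulAut.conjNormal t : MulAut P)) q := by
      refine Nat.Coprime.coprime_dvd_left (orderOf_dvd_of_pow_eq_one (n := 2 ^ k) ?_)
        (((Nat.coprime_primes Nat.prime_two q.2).mpr (Ne.symm h2)).pow_left k)
      rw [← map_pow, hk, map_one]
    have h1 := PGroup.aut_eq_one_of_fix_selfCentralizing hPg hC.self_centralizing ha hfix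
    intro x hx
    rw [Subgroup.mem_centralizer_singleton_iff]
    have h3 := congrArg Subtype.val (DFunLike.congr_fun h1 (⟨x, hx⟩ : P))
    rw [MulAut.conjNormal_apply, MulAut.one_apply] at h3
    exact (mul_inv_eq_iff_eq_mul.mp h3).symm
  have hF : Cfsg.fittingSubgroup H ≤ Subgroup.centralizer {t} := by
    rw [Cores.fittingSubgroup_eq_iSup_pCore]; exact iSup_le hq
  have htF : t ∈ Cfsg.fittingSubgroup H := Solvable.centralizer_fitting_le H
    (Subgroup.mem_centralizer_iff.mpr fun x hx =>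
      (Subgroup.mem_centralizer_singleton_iff.mp (hF hx)))
  -- the 2-elements of the centre of the Fitting subgroup form a normal 2-group
  haveI hFn : (Cfsg.fittingSubgroup H).Normal := Subgroup.sSup_normal _ fun _ h => h.1
  set Z := Cfsg.fittingSubgroup H ⊓ Subgroup.centralizer (Cfsg.fittingSubgroup H : Set H) with hZ
  haveI : Z.Normal := inferInstanceAs (Cfsg.fittingSubgroup H ⊓ _).Normal
  have hcomm : ∀ a ∈ Z, ∀ b ∈ Z, Commute a b := fun a ha b hb =>
    (Subgroup.mem_centralizer_iff.mp hb.2 a ha.1)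
  let S : Subgroup H :=
    { carrier := {z | z ∈ Z ∧ ∃ m : ℕ, z ^ 2 ^ m = 1}
      one_mem' := ⟨one_mem Z, 0, by simp⟩
      mul_mem' := fun {a b} ⟨ha, i, hi⟩ ⟨hb, j, hj⟩ => ⟨mul_mem ha hb, i + j, by
        rw [(hcomm a ha b hb).mul_pow]
        conv_lhs => arg 1; rw [pow_add, pow_mul, hi, one_pow]
        rw [one_mul, pow_add, mul_comm, pow_mul, hj, one_pow]⟩
      inv_mem' := fun {a} ⟨ha, i, hi⟩ => ⟨inv_mem ha, i, by rw [inv_pow, hi, inv_one]⟩ }
  have hSn : S.Normal := ⟨fun z hz g => ⟨(inferInstance : Z.Normal).conj_mem z hz.1 g, by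
    obtain ⟨m, hm⟩ := hz.2
    exact ⟨m, by rw [conj_pow, hm]; group⟩⟩⟩
  have hSp : IsPGroup 2 S := by
    rintro ⟨z, hz⟩
    obtain ⟨m, hm⟩ := hz.2
    exact ⟨m, Subtype.ext hm⟩
  have htS : t ∈ S := ⟨⟨htF, Subgroup.mem_centralizer_iff.mpr fun x hx =>
    Subgroup.mem_centralizer_singleton_iff.mp (hF hx)⟩, k, hk⟩
  have := Cores.le_pCore hSn hSp htS
  rwa [hO, Subgroup.mem_bot] at this

theorem eq_one_of_centralizes_classTwo [Group.IsSolvable H] (hO : Cfsg.pCore 2 H = ⊥) {t : H}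
    (ht : ∃ k : ℕ, t ^ 2 ^ k = 1)
    (h : ∀ K : Subgroup H, K.Normal → Odd (Nat.card K) →
      (∀ a ∈ K, ∀ b ∈ K, ∀ c ∈ K, Commute ⁅a, b⁆ c) → ∀ e ∈ K, t * e * t⁻¹ = e) : t = 1 :=
  eq_one_of_centralizes_primary hO ht fun K hK q hq hq2 hKq => h K hK (by
    haveI : Fact q.Prime := ⟨hq⟩
    obtain ⟨m, hm⟩ := IsPGroup.iff_card.mp hKq
    rw [hm]
    exact (hq.odd_of_ne_two hq2).pow)

end Cfsg.Agent.TwoLength
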