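/-
The module formed by all sections of a normalised 2-group (helper83).

Main results (namespace `Cfsg.Agent.TwoLength`):
* exists_section_rep
-/
import Cfsg.Agent.Lib.TwoLength.Sections
import Cfsg.Agent.Lib.HallHigman.FrattiniModule

set_option autoImplicit false
set_option linter.style.haveILetI false
set_option linter.unusedSectionVars false

open scoped commutatorElement

namespace Cfsg.Agent.TwoLength

universe u

attribute [local irreducible] secR sqCl

variable {H : Type u} [Group H] [Finite H]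

/-- The product of all sections' tops. -/
abbrev SecProd (R N : Subgroup H) : Type u := ∀ i : {X : Subgroup H // IsSec R N X}, ↥i.1

theorem exists_section_rep {T R N : Subgroup H} (hR : IsPGroup 2 R) (hRT : R ≤ T) (hRN : R ≤ N)
    (hTN : T ≤ N) {e : ℕ}
    (hlast : ∀ X, IsSec R N X → ∀ g ∈ ser T e, ∀ x ∈ X, x ∈ ser T e →
      g * x * g⁻¹ * x⁻¹ ∈ secR N X) :
    ∃ (V : Type u) (_ : AddCommGroup V) (_ : Module (ZMod 2) V) (_ : Finite V)
      (σ : N →* Module.End (ZMod 2) V),
      (∀ k : N, σ k = 1 ↔ ∀ X, IsSec R N X → ∀ x ∈ X, (k : H) * x * (k : H)⁻¹ * x⁻¹ ∈ secR N X) ∧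
      chainOn σ (T.subgroupOf N) ⊤ (e + 1) = ⊥ := by
  classical
  let Nsub : Subgroup (SecProd R N) :=
    { carrier := {f | ∀ i, (f i : H) ∈ secR N i.1}
      one_mem' := fun i => one_mem _
      mul_mem' := fun {a b} ha hb i => by
        show (a i : H) * (b i : H) ∈ secR N i.1
        exact mul_mem (ha i) (hb i)
      inv_mem' := fun {a} ha i => by
        show (a i : H)⁻¹ ∈ secR N i.1
        exact inv_mem (ha i) }
  have hXN : ∀ {X : Subgroup H}, IsSec R N X → X ≤ N := fun h => h.le.trans hRN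
  haveI hNn : Nsub.Normal := ⟨fun f hf g i => by
    show (g i : H) * (f i : H) * (g i : H)⁻¹ ∈ secR N i.1
    exact secR_conj (hXN i.2 (g i).2) (hf i)⟩
  have hsq : ∀ f : (SecProd R N), f * f ∈ Nsub := fun f i => i.2.sqCl_le_secR hR (sq_mem_sqCl (f i).2)
  have hcomm : ∀ a b : (SecProd R N) ⧸ Nsub, a * b = b * a := by
    intro a b
    induction a using QuotientGroup.induction_on with | _ a => ?_
    induction b using QuotientGroup.induction_on with | _ b => ?_
    rw [← QuotientGroup.mk_mul, ← QuotientGroup.mk_mul, eq_comm, QuotientGroup.eq]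
    intro i
    have h1 := i.2.sqCl_le_secR hR
      (commutator_mem_sqCl (inv_mem (a i).2) (inv_mem (b i).2))
    simpa [mul_assoc] using h1
  let instC : CommGroup ((SecProd R N) ⧸ Nsub) :=
    { (inferInstance : Group ((SecProd R N) ⧸ Nsub)) with mul_comm := hcomm }
  have hpQ : ∀ x : (SecProd R N) ⧸ Nsub, x ^ 2 = 1 := fun x => by
    induction x using QuotientGroup.induction_on with | _ x => ?_
    rw [← QuotientGroup.mk_pow, pow_two, (QuotientGroup.eq_one_iff _).mpr (hsq x)]
  let cj : N → (SecProd R N) → (SecProd R N) := fun k f i => ⟨(k : H) * f i * (k : H)⁻¹,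
    (Subgroup.mem_normalizer_iff.mp (i.2.norm k.2) _).mp (f i).2⟩
  have hcjmul : ∀ a b f, cj (a * b) f = cj a (cj b f) := fun a b f => funext fun i => Subtype.ext (by
    show ((a * b : N) : H) * f i * ((a * b : N) : H)⁻¹ = a * (b * f i * (b : H)⁻¹) * (a : H)⁻¹
    rw [Subgroup.coe_mul]
    group)
  have hcj1 : ∀ f, cj 1 f = f := fun f => funext fun i => Subtype.ext (by simp [cj])
  let conjP : N → MulAut (SecProd R N) := fun k =>
    { toFun := cj k
      invFun := cj k⁻¹
      left_inv := fun f => by rw [← hcjmul, inv_mul_cancel, hcj1]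
      right_inv := fun f => by rw [← hcjmul, mul_inv_cancel, hcj1]
      map_mul' := fun f f' => funext fun i => Subtype.ext (by simp [cj]) }
  have hmap : ∀ k : N, Nsub.map (conjP k).toMonoidHom = Nsub := by
    intro k
    ext f
    constructor
    · rintro ⟨f', hf', rfl⟩ i
      exact secR_conj k.2 (hf' i)
    · intro hf
      exact ⟨cj k⁻¹ f, fun i => secR_conj (inv_mem k.2) (hf i),
        (hcjmul k k⁻¹ f).symm.trans (by rw [mul_inv_cancel, hcj1])⟩
  let c : N →* MulAut ((SecProd R N) ⧸ Nsub) :=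
    { toFun := fun k => QuotientGroup.congr _ _ (conjP k) (hmap k)
      map_one' := MulEquiv.ext fun x => by
        induction x using QuotientGroup.induction_on with | _ x => ?_
        show ((cj 1 x : (SecProd R N)) : (SecProd R N) ⧸ Nsub) = (x : (SecProd R N) ⧸ Nsub)
        rw [hcj1]
      map_mul' := fun a b => MulEquiv.ext fun x => by
        induction x using QuotientGroup.induction_on with | _ x => ?_
        show ((cj (a * b) x : (SecProd R N)) : (SecProd R N) ⧸ Nsub) = ((cj a (cj b x) : (SecProd R N)) : (SecProd R N) ⧸ Nsub)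
        rw [hcjmul] }
  obtain ⟨instM, σ, hσ⟩ := HallHigman.exists_linear_rep hpQ c
  let pi : (SecProd R N) → Additive ((SecProd R N) ⧸ Nsub) := fun f => Additive.ofMul (f : (SecProd R N) ⧸ Nsub)
  have hsurj : ∀ x, ∃ f, pi f = x := fun x => by
    obtain ⟨f, hf⟩ := QuotientGroup.mk_surjective (Additive.toMul x)
    exact ⟨f, congrArg Additive.ofMul hf⟩
  have hact : ∀ (k : N) (f : (SecProd R N)), σ k (pi f) = pi (cj k f) := fun k f => hσ k _
  have hpieq : ∀ f f' : (SecProd R N), pi f = pi f' ↔ f⁻¹ * f' ∈ Nsub := fun f f' =>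
    ⟨fun h => QuotientGroup.eq.mp (Additive.ofMul.injective h),
      fun h => congrArg Additive.ofMul (QuotientGroup.eq.mpr h)⟩
  have hpisub : ∀ f f' : (SecProd R N), pi f' - pi f = pi (f' * f⁻¹) := fun f f' => by
    show Additive.ofMul (f' : (SecProd R N) ⧸ Nsub) - Additive.ofMul (f : (SecProd R N) ⧸ Nsub) = Additive.ofMul _
    rw [← ofMul_div, div_eq_mul_inv, QuotientGroup.mk_mul, QuotientGroup.mk_inv]
  refine ⟨Additive ((SecProd R N) ⧸ Nsub), inferInstance, instM, inferInstance, σ, fun k => ⟨?_, ?_⟩, ?_⟩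
  · intro hk X hX x hx
    set f : (SecProd R N) := Pi.mulSingle (M := fun i : {X : Subgroup H // IsSec R N X} => ↥i.1) ⟨X, hX⟩ ⟨x, hx⟩
    have h1 : pi (cj k f) = pi f := by rw [← hact, hk, Module.End.one_apply]
    have h2 := (hpieq f (cj k f)).mp h1.symm ⟨X, hX⟩
    have h3 : (x : H)⁻¹ * ((k : H) * x * (k : H)⁻¹) ∈ secR N X := by
      simpa [f, cj] using h2
    have h4 := secR_conj (hXN hX hx) h3
    convert h4 using 1
    group
  · intro hk
    refine LinearMap.ext fun v => ?_
    obtain ⟨f, rfl⟩ := hsurj v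
    rw [hact, Module.End.one_apply]
    refine ((hpieq f (cj k f)).mpr fun i => ?_).symm
    have h1 := secR_conj (hXN i.2 (inv_mem (f i).2)) (hk i.1 i.2 _ (f i).2)
    show ((f i)⁻¹ : ↥i.1).1 * ((k : H) * f i * (k : H)⁻¹) ∈ secR N i.1
    convert h1 using 1
    push_cast
    group
  · let Xs : ℕ → Submodule (ZMod 2) (Additive ((SecProd R N) ⧸ Nsub)) := fun n =>
      AddSubgroup.toZModSubmodule 2
        (Subgroup.toAddSubgroup
          (({ carrier := {f : (SecProd R N) | ∀ i, (f i : H) ∈ ser T n}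
              one_mem' := fun i => one_mem _
              mul_mem' := fun {a b} ha hb i => mul_mem (ha i) (hb i)
              inv_mem' := fun {a} ha i => inv_mem (ha i) } : Subgroup (SecProd R N)).map
            (QuotientGroup.mk' Nsub)))
    have hXs : ∀ n v, v ∈ Xs n ↔ ∃ f : (SecProd R N), (∀ i, (f i : H) ∈ ser T n) ∧ pi f = v := fun n v =>
      ⟨fun ⟨f, hf, hfv⟩ => ⟨f, hf, congrArg Additive.ofMul hfv⟩,
        fun ⟨f, hf, hfv⟩ => ⟨f, hf, by rw [← hfv]; rfl⟩⟩
    have hser : ∀ n (g : N), g ∈ ser (T.subgroupOf N) n → (g : H) ∈ ser T n := by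
      intro n g hg
      have h := ser_map N.subtype (T.subgroupOf N) n
      rw [Subgroup.map_subgroupOf_eq_of_le hTN] at h
      exact h.le ⟨g, hg, rfl⟩
    have hle : ∀ n, n ≤ e → chainOn σ (T.subgroupOf N) ⊤ n ≤ Xs n := by
      intro n
      induction n with
      | zero =>
        intro _ v _
        obtain ⟨f, rfl⟩ := hsurj v
        exact (hXs 0 _).mpr ⟨f, fun i => hRT (i.2.le (f i).2), rfl⟩
      | succ n ih =>
        intro hn
        refine chainOn_succ_le fun g hg v hv => ?_
        obtain ⟨f, hf, rfl⟩ := (hXs n v).mp (ih (by omega) hv)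
        rw [hact, hpisub]
        refine (hXs (n + 1) _).mpr ⟨_, fun i => ?_, rfl⟩
        show (g : H) * f i * (g : H)⁻¹ * ((f i)⁻¹ : ↥i.1).1 ∈ _
        rw [Subgroup.coe_inv, ← commutatorElement_def]
        exact commutator_mem_ser (hser n g hg) (hf i)
    refine le_bot_iff.mp (chainOn_succ_le fun g hg v hv => ?_)
    obtain ⟨f, hf, rfl⟩ := (hXs e v).mp (hle e le_rfl hv)
    rw [Submodule.mem_bot, hact, sub_eq_zero, eq_comm, hpieq]
    intro i
    have h1 := secR_conj (hXN i.2 (inv_mem (f i).2))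
      (hlast i.1 i.2 _ (hser e g hg) _ (f i).2 (hf i))
    show ((f i)⁻¹ : ↥i.1).1 * ((g : H) * f i * (g : H)⁻¹) ∈ secR N i.1
    convert h1 using 1
    push_cast
    group

end Cfsg.Agent.TwoLength
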