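/-
The 2-length is bounded by the derived length of a Sylow 2-subgroup (helper83).

Main results (namespace `Cfsg.Agent.TwoLength`):
* main: the module form
* pLengthLE_two_of_derived
-/
import Cfsg.Agent.Lib.TwoLength.Decomp
import Cfsg.Agent.Lib.TwoLength.BaseChange
import Cfsg.Agent.Lib.TwoLength.SectionRep
import Cfsg.Agent.Lib.HallHigman.PLength
import Cfsg.Agent.Lib.HallHigman.PLengthBasic
import Cfsg.Agent.Lib.OddOrderTheorem.Basic
import Mathlib.FieldTheory.IsAlgClosed.AlgebraicClosure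

set_option autoImplicit false
set_option linter.style.haveILetI false
set_option linter.unusedSectionVars false

open scoped commutatorElement

namespace Cfsg.Agent.TwoLength

open HallHigman

universe u

variable {H : Type u} [Group H] [Finite H]

attribute [local irreducible] secR sqCl

/-- The last derived term acts trivially on every section. -/
theorem section_facts [Group.IsSolvable H] (hO : Cfsg.pCore 2 H = ⊥) {F : Type*} [Field F]
    [IsAlgClosed F] [CharP F 2] {V : Type*} [AddCommGroup V] [Module F V] [FiniteDimensional F V]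
    {ρ : H →* Module.End F V} (hρ : Function.Injective ρ) {T R N : Subgroup H} (hT : IsPGroup 2 T)
    (hRT : R ≤ T) (hRN : R ≤ N) (hTN : T ≤ N) {e : ℕ} (hser : ser T (e + 2) = ⊥)
    (hchain : chainOn ρ T ⊤ (e + 2) = ⊥) {X : Subgroup H} (hX : IsSec R N X) :
    (∀ w ∈ ser T (e + 1), ∀ x ∈ X, w * x * w⁻¹ * x⁻¹ ∈ secR N X) ∧
      ∀ g ∈ ser T e, ∀ x ∈ X, x ∈ ser T e → g * x * g⁻¹ * x⁻¹ ∈ secR N X := by
  classical
  have hXT : X ≤ T := hX.le.trans hRT
  have hXp : IsPGroup 2 X := hT.to_le hXT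
  have hnormX : ∀ g ∈ T, ∀ x ∈ X, g * x * g⁻¹ * x⁻¹ ∈ X := fun g hg x hx =>
    mul_mem ((Subgroup.mem_normalizer_iff.mp (hX.norm (hTN hg)) x).mp hx) (inv_mem hx)
  -- fixing all summands
  set All : Subgroup H := ⨅ (K : Subgroup H) (_ : K.Normal) (χ : K → F) (_ : Dsp ρ K χ ≠ ⊥),
    stabSub ρ (Dsp ρ K χ) with hAll
  have hmemAll : ∀ g, g ∈ All ↔ ∀ (K : Subgroup H) (_ : K.Normal) (χ : K → F),
      Dsp ρ K χ ≠ ⊥ → g ∈ stabSub ρ (Dsp ρ K χ) := fun g => by
    simp only [hAll, Subgroup.mem_iInf]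
  have hback : ∀ (K : Subgroup H) [K.Normal] (χ : K → F) (k : H),
      (Dsp ρ K (twist k⁻¹ χ)).map (ρ k) = Dsp ρ K χ := fun K _ χ k => by
    rw [Dsp_map, twist_twist, mul_inv_cancel, twist_one]
  have hbackne : ∀ (K : Subgroup H) [K.Normal] (χ : K → F) (k : H), Dsp ρ K χ ≠ ⊥ →
      Dsp ρ K (twist k⁻¹ χ) ≠ ⊥ := fun K _ χ k h e => h (by
    rw [← hback K χ k, e, Submodule.map_bot])
  have hAllconj : ∀ k g, g ∈ All → k * g * k⁻¹ ∈ All := fun k g hg =>
    (hmemAll _).mpr fun K hK χ hne => by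
      have h := conj_mem_stabSub (ρ := ρ) ((hmemAll g).mp hg K hK _ (hbackne K χ k hne)) k
      rwa [hback] at h
  have hW : ser T (e + 1) ≤ All := fun w hw =>
    (hmemAll w).mpr fun K hK χ hne => le_stabSub_Dsp hT hne hchain hw
  have hsw : ∀ w ∈ All, ∀ x, w * x * w⁻¹ * x⁻¹ ∈ All := fun w hw x => by
    rw [show w * x * w⁻¹ * x⁻¹ = w * (x * w⁻¹ * x⁻¹) by group]
    exact mul_mem hw (hAllconj x _ (inv_mem hw))
  by_cases hXA : X ≤ All
  swap
  · have hR0 : X ⊓ All ≤ secR N X := le_secR (fun k hk => Coprime.mem_normalizer_of_forall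
      fun z hz => ⟨(Subgroup.mem_normalizer_iff.mp (hX.norm hk) z).mp hz.1, hAllconj k z hz.2⟩)
      (lt_of_le_of_ne inf_le_left fun h => hXA (inf_eq_left.mp h))
    exact ⟨fun w hw x hx => hR0 ⟨hnormX w (ser_le_self T _ hw) x hx, hsw w (hW hw) x⟩,
      fun g hg x hx hxe => hR0 ⟨hnormX g (ser_le_self T _ hg) x hx,
        hW (by rw [← commutatorElement_def]; exact commutator_mem_ser hg hxe)⟩⟩
  -- the good subgroup
  set R3 : Subgroup H := X ⊓ ⨅ (K : Subgroup H) (_ : K.Normal) (_ : Odd (Nat.card K))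
    (_ : ∀ a ∈ K, ∀ b ∈ K, ∀ c ∈ K, Commute ⁅a, b⁆ c) (χ : K → F) (_ : Dsp ρ K χ ≠ ⊥),
    sqCl X ⊔ (X ⊓ fixC ρ K (Dsp ρ K χ)) with hR3
  have hmem3 : ∀ g, g ∈ R3 ↔ g ∈ X ∧ ∀ (K : Subgroup H) (_ : K.Normal), Odd (Nat.card K) →
      (∀ a ∈ K, ∀ b ∈ K, ∀ c ∈ K, Commute ⁅a, b⁆ c) → ∀ χ : K → F, Dsp ρ K χ ≠ ⊥ →
      g ∈ sqCl X ⊔ (X ⊓ fixC ρ K (Dsp ρ K χ)) := fun g => by
    simp only [hR3, Subgroup.mem_inf, Subgroup.mem_iInf]
  have h3 : R3 ≤ secR N X := by
    refine le_secR (fun k hk => Coprime.mem_normalizer_of_forall fun z hz => ?_)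
      (lt_of_le_of_ne inf_le_left fun h => ?_)
    · have hz' := (hmem3 z).mp hz
      refine (hmem3 _).mpr ⟨(Subgroup.mem_normalizer_iff.mp (hX.norm hk) z).mp hz'.1,
        fun K hK ho hc χ hne => ?_⟩
      have hsub : sqCl X ⊔ (X ⊓ fixC ρ K (Dsp ρ K (twist k⁻¹ χ))) ≤
          (sqCl X ⊔ (X ⊓ fixC ρ K (Dsp ρ K χ))).comap (MulAut.conj k).toMonoidHom := by
        refine sup_le (fun y hy => Subgroup.mem_sup_left (conj_mem_sqCl (hX.norm hk) hy))
          fun y hy => Subgroup.mem_sup_right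
            ⟨(Subgroup.mem_normalizer_iff.mp (hX.norm hk) y).mp hy.1, ?_⟩
        have h := conj_mem_fixC hy.2 k
        rwa [hback] at h
      exact hsub (hz'.2 K hK ho hc _ (hbackne K χ k hne))
    · refine hX.ne_bot (eq_bot_iff.mpr fun x hx => Subgroup.mem_bot.mpr ?_)
      obtain ⟨m, hm⟩ := exists_pow_eq_one hXp hx
      refine eq_one_of_centralizes_classTwo hO ⟨m, hm⟩ fun K hK ho hc c hc' => hρ ?_
      refine rho_eq_of_forall_fixC (fun χ hne => ?_) hc'
      refine le_of_le_sqCl_sup hXp (C := fixC ρ K (Dsp ρ K χ)) (fun y hy => ?_) hx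
      exact ((hmem3 y).mp (h.ge hy)).2 K hK ho hc χ hne
  refine ⟨fun w hw x hx => h3 ((hmem3 _).mpr ⟨hnormX w (ser_le_self T _ hw) x hx,
    fun K hK ho hc χ hne => Subgroup.mem_sup_right
      (Subgroup.mem_inf.mpr ⟨hnormX w (ser_le_self T _ hw) x hx, ?_⟩)⟩),
    fun g hg x hx hxe => h3 ((hmem3 _).mpr ⟨hnormX g (ser_le_self T _ hg) x hx,
    fun K hK ho hc χ hne => ?_⟩)⟩
  · have hxs : x ∈ stabSub ρ (Dsp ρ K χ) := (hmemAll x).mp (hXA hx) K hK χ hne
    by_cases hwC : w ∈ fixC ρ K (Dsp ρ K χ)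
    · rw [show w * x * w⁻¹ * x⁻¹ = w * (x * w⁻¹ * x⁻¹) by group]
      exact mul_mem hwC (conj_mem_fixC_of_stab (inv_mem hwC) hxs)
    · set w' := x * w * x⁻¹ with hw'
      have hw'm : w' ∈ ser T (e + 1) := conj_mem_ser_of_mem (hXT hx) hw
      have hw'C : w' ∉ fixC ρ K (Dsp ρ K χ) := fun h => hwC (by
        have h1 := conj_mem_fixC_of_stab h (inv_mem hxs)
        rw [hw'] at h1
        convert h1 using 1
        group)
      have h1 := (local_facts hT ho hc hser hchain hne hw hwC).1 w' hw'm hw'C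
      have hw's : w' ∈ stabSub ρ (Dsp ρ K χ) := le_stabSub_Dsp hT hne hchain hw'm
      have h2 := conj_mem_fixC_of_stab h1 hw's
      rw [hw'] at h2
      convert h2 using 1
      group
  · have hxg : g * x * g⁻¹ * x⁻¹ = ⁅x, g⁆⁻¹ := by rw [commutatorElement_def]; group
    by_cases hC : ⁅x, g⁆ ∈ fixC ρ K (Dsp ρ K χ)
    · refine Subgroup.mem_sup_right (Subgroup.mem_inf.mpr ⟨hnormX g (ser_le_self T _ hg) x hx, ?_⟩)
      rw [hxg]
      exact inv_mem hC
    · have h1 := (local_facts hT ho hc hser hchain hne (w := ⁅x, g⁆)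
        (commutator_mem_ser hxe hg) hC).2 x hxe g hg hC
      have hm : ⁅x, g⁆ ∈ X := by
        have h := inv_mem (hnormX g (ser_le_self T _ hg) x hx)
        rwa [hxg, inv_inv] at h
      have h2 : ⁅x, g⁆ * (x * x)⁻¹ ∈ X ⊓ fixC ρ K (Dsp ρ K χ) :=
        Subgroup.mem_inf.mpr ⟨mul_mem hm (inv_mem (mul_mem hx hx)), h1⟩
      have h4 : ⁅x, g⁆ ∈ sqCl X ⊔ (X ⊓ fixC ρ K (Dsp ρ K χ)) := by
        have h := mul_mem (Subgroup.mem_sup_right (S := sqCl X) h2)
          (Subgroup.mem_sup_left (T := X ⊓ fixC ρ K (Dsp ρ K χ)) (sq_mem_sqCl hx))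
        rwa [inv_mul_cancel_right] at h
      rw [hxg]
      exact inv_mem h4

/-- A homomorphism killing the kernel of a surjection factors through it. -/
theorem exists_lift_of_surjective {A B M : Type*} [Group A] [Group B] [Monoid M] (φ : A →* B)
    (hφ : Function.Surjective φ) (τ : A →* M) (h : φ.ker ≤ τ.ker) :
    ∃ τ' : B →* M, ∀ a, τ' (φ a) = τ a :=
  ⟨(QuotientGroup.lift φ.ker τ h).comp (QuotientGroup.quotientKerEquivOfSurjective φ hφ).symm.toMonoidHom,
    fun a => by
      have e : (QuotientGroup.quotientKerEquivOfSurjective φ hφ).symm (φ a) = (a : A ⧸ φ.ker) :=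
        (MulEquiv.symm_apply_eq _).mpr rfl
      rw [MonoidHom.comp_apply, MulEquiv.coe_toMonoidHom, e]
      rfl⟩

/-- The module form of the theorem. -/
theorem main : ∀ (e : ℕ) (H : Type u) [Group H] [Finite H], Group.IsSolvable H →
    Cfsg.pCore 2 H = ⊥ → ∀ (V : Type u) [AddCommGroup V] [Module (ZMod 2) V] [Finite V]
    (σ : H →* Module.End (ZMod 2) V), Function.Injective σ → ∀ T : Sylow 2 H,
    ser (T : Subgroup H) (e + 1) = ⊥ → chainOn σ (T : Subgroup H) ⊤ (e + 1) = ⊥ →
    Cfsg.PLengthLE 2 e H := by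
  intro e
  induction e with
  | zero =>
    intro H _ _ _ _ V _ _ _ σ hσ T hser hchain
    haveI : Fact (Nat.Prime 2) := ⟨Nat.prime_two⟩
    have hT : (T : Subgroup H) = ⊥ := eq_bot_iff.mpr fun t ht => Subgroup.mem_bot.mpr (hσ (by
      refine LinearMap.ext fun v => ?_
      have h1 := sub_mem_chainOn (ρ := σ) (G := (T : Subgroup H)) (i := 0) ht
        (Submodule.mem_top (x := v))
      rw [hchain, Submodule.mem_bot, sub_eq_zero] at h1
      rw [h1, map_one, Module.End.one_apply]))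
    refine pLengthLE_zero fun g hg => ?_
    obtain ⟨k, hk⟩ := hg
    have hpg : IsPGroup 2 (Subgroup.zpowers g) := by
      rintro ⟨z, hz⟩
      obtain ⟨i, rfl⟩ := Subgroup.mem_zpowers_iff.mp hz
      exact ⟨k, Subtype.ext (show (g ^ i) ^ 2 ^ k = 1 by
        rw [← zpow_natCast, ← zpow_mul, mul_comm, zpow_mul, zpow_natCast, hk, one_zpow])⟩
    obtain ⟨P, hP⟩ := hpg.exists_le_sylow
    obtain ⟨c, hc⟩ := MulAction.exists_smul_eq H T P
    have h1 : g ∈ (P : Subgroup H) := hP (Subgroup.mem_zpowers g)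
    rw [← hc, Sylow.coe_subgroup_smul, hT] at h1
    rw [pow_zero, pow_one]
    simpa using h1
  | succ e ih =>
    intro H _ _ hsol hO V _ _ _ σ hσ T hser hchain
    classical
    haveI : Fact (Nat.Prime 2) := ⟨Nat.prime_two⟩
    haveI := hsol
    -- scalars
    haveI : CharP (AlgebraicClosure (ZMod 2)) 2 :=
      charP_of_injective_algebraMap (algebraMap (ZMod 2) (AlgebraicClosure (ZMod 2))).injective 2
    haveI : Module.Finite (ZMod 2) V := Module.Finite.of_finite
    have hρ := extendRep_injective (AlgebraicClosure (ZMod 2)) hσ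
    have hρc := chain_extendRep (AlgebraicClosure (ZMod 2)) (σ := σ) hchain
    -- the Sylow subgroup of `O_{2',2}`
    set U1 := Cfsg.pPrimeCore 2 H
    set U2 := (Cfsg.upperPSeries 2 H 2).1 with hU2
    haveI : U2.Normal := (Cfsg.upperPSeries 2 H 2).2
    set a := QuotientGroup.mk' U1
    have has : Function.Surjective a := QuotientGroup.mk'_surjective _
    set B := Cfsg.pCore 2 (H ⧸ U1)
    haveI : B.Normal := Cores.pCore_normal 2 _
    have hU2a : U2 = B.comap a := PSeries.upperPSeries_two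
    have hU12 : U1 ≤ U2 := fun x hx => by
      rw [hU2a, Subgroup.mem_comap, show a x = 1 from (QuotientGroup.eq_one_iff x).mpr hx]
      exact one_mem _
    set R := (T : Subgroup H) ⊓ U2 with hR
    have hRp : IsPGroup 2 R := T.isPGroup'.to_le inf_le_left
    have hBT : ∀ b ∈ B, ∃ r ∈ R, a r = b := fun b hb => by
      obtain ⟨t, ht, e⟩ := Cores.pCore_le_sylow (T.mapSurjective has) hb
      exact ⟨t, Subgroup.mem_inf.mpr ⟨ht, by rw [hU2a, Subgroup.mem_comap, e]; exact hb⟩, e⟩
    have hUR : ∀ x ∈ U2, ∃ r ∈ R, r⁻¹ * x ∈ U1 := fun x hx => by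
      rw [hU2a, Subgroup.mem_comap] at hx
      obtain ⟨r, hr, e⟩ := hBT _ hx
      exact ⟨r, hr, QuotientGroup.eq.mp e⟩
    have hsup : U1 ⊔ R = U2 := le_antisymm (sup_le hU12 inf_le_right) fun x hx => by
      obtain ⟨r, hr, h⟩ := hUR x hx
      rw [← mul_inv_cancel_left r x]
      exact mul_mem (Subgroup.mem_sup_right hr) (Subgroup.mem_sup_left h)
    set N := Subgroup.normalizer (R : Set H) with hN
    have hRN : R ≤ N := Subgroup.le_normalizer
    have hTN : (T : Subgroup H) ≤ N := fun t ht => Coprime.mem_normalizer_of_forall fun r hr =>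
      Subgroup.mem_inf.mpr ⟨mul_mem (mul_mem ht hr.1) (inv_mem ht),
        (inferInstance : U2.Normal).conj_mem r hr.2 t⟩
    set φ : N →* H ⧸ U2 := (QuotientGroup.mk' U2).comp N.subtype with hφ
    have hφker : ∀ n : N, φ n = 1 ↔ (n : H) ∈ U2 := fun n => QuotientGroup.eq_one_iff _
    have hφs : Function.Surjective φ := by
      intro q
      obtain ⟨g, rfl⟩ := QuotientGroup.mk'_surjective U2 q
      obtain ⟨n, hn, u, hu, rfl⟩ := PSeries.exists_normalizer_mul U1 R
        (Cores.coprime_card_pPrimeCore 2) hRp (by rw [hsup]; infer_instance) g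
      refine ⟨⟨n, hn⟩, (QuotientGroup.eq (s := U2)).mpr ?_⟩
      show n⁻¹ * (n * u) ∈ U2
      rw [inv_mul_cancel_left]
      exact hU12 hu
    -- the sections
    have hfacts := fun X (hX : IsSec R N X) => section_facts hO hρ T.isPGroup'
      inf_le_left hRN hTN hser hρc hX
    obtain ⟨V', _, _, _, τ, hτker, hτchain⟩ := exists_section_rep hRp (inf_le_left : R ≤ _) hRN hTN
      (fun X hX => (hfacts X hX).2)
    -- `O_{2',2}` acts trivially
    have hker : φ.ker ≤ τ.ker := fun n hn => by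
      rw [MonoidHom.mem_ker, hφker] at hn
      obtain ⟨r, hr, hu⟩ := hUR n hn
      rw [MonoidHom.mem_ker, hτker]
      intro X hX x hx
      set v := r⁻¹ * (n : H) with hv
      have hvN : v ∈ N := mul_mem (inv_mem (hRN hr)) n.2
      have hvc : v ∈ Subgroup.centralizer (R : Set H) :=
        PSeries.mem_centralizer_of_commutator_mem (V := U1) (Cores.coprime_card_pPrimeCore 2) hRp
          hvN fun y _ => by
          rw [show v * y * v⁻¹ * y⁻¹ = v * (y * v⁻¹ * y⁻¹) by group]
          exact mul_mem hu ((inferInstance : U1.Normal).conj_mem _ (inv_mem hu) y)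
      have hvx : v * x * v⁻¹ = x :=
        mul_inv_eq_iff_eq_mul.mpr (Subgroup.mem_centralizer_iff.mp hvc x (hX.le hx)).symm
      rw [show (n : H) * x * (n : H)⁻¹ * x⁻¹ = r * (v * x * v⁻¹) * r⁻¹ * x⁻¹ by rw [hv]; group, hvx,
        show r * x * r⁻¹ * x⁻¹ = ⁅x, r⁆⁻¹ by rw [commutatorElement_def]; group]
      exact inv_mem (hX.commutator_le_secR hRp hRN le_rfl
        (Subgroup.commutator_mem_commutator hx hr))
    obtain ⟨τ', hτeq⟩ := exists_lift_of_surjective φ hφs τ hker
    -- properties of the quotient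
    have hO' : Cfsg.pCore 2 (H ⧸ U2) = ⊥ := by
      set M := (Cfsg.pCore 2 (H ⧸ U2)).comap (QuotientGroup.mk' U2)
      have hMn : (M.map a).Normal := Subgroup.Normal.map inferInstance a has
      have hMp : IsPGroup 2 (M.map a) := by
        rintro ⟨_, x, hx, rfl⟩
        obtain ⟨i, hi⟩ := Cores.isPGroup_pCore 2 _ ⟨_, hx⟩
        have hx2 : x ^ 2 ^ i ∈ U2 := by
          rw [← QuotientGroup.eq_one_iff]
          exact congrArg Subtype.val hi
        rw [hU2a, Subgroup.mem_comap, map_pow] at hx2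
        obtain ⟨j, hj⟩ := Cores.isPGroup_pCore 2 _ ⟨_, hx2⟩
        refine ⟨i + j, Subtype.ext ?_⟩
        have h := congrArg Subtype.val hj
        rw [SubgroupClass.coe_pow, ← pow_mul, ← pow_add] at h
        rw [SubgroupClass.coe_pow]
        exact h
      have hMU : M ≤ U2 := fun x hx => by
        rw [hU2a]; exact Cores.le_pCore hMn hMp ⟨x, hx, rfl⟩
      rw [eq_bot_iff]
      intro q hq
      obtain ⟨x, rfl⟩ := QuotientGroup.mk'_surjective U2 q
      exact Subgroup.mem_bot.mpr ((QuotientGroup.eq_one_iff x).mpr (hMU hq))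
    have hcen : ∀ y : H, (∀ r ∈ R, y * r = r * y) → y ∈ U2 := fun y hy => by
      rw [hU2a, Subgroup.mem_comap]
      refine centralizer_pCore_quotient_le (Solvable.isPiSeparable_of_isSolvable _) ?_
      refine Subgroup.mem_centralizer_iff.mpr fun b hb => ?_
      obtain ⟨r, hr, rfl⟩ := hBT b hb
      rw [← map_mul, ← map_mul, hy r hr]
    have hinj : Function.Injective τ' := by
      rw [← MonoidHom.ker_eq_bot_iff]
      by_contra hne
      haveI : Group.IsSolvable (H ⧸ U2) := solvable_of_surjective (QuotientGroup.mk'_surjective _)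
      obtain ⟨q, hq, M, hMn, hM0, hMk, -, hMp, -, -⟩ :=
        Solvable.exists_minimal_normal_pGroup hne
      haveI : Fact q.Prime := ⟨hq⟩
      have hq2 : q ≠ 2 := fun e => hM0 (le_bot_iff.mp (hO' ▸ Cores.le_pCore hMn (e ▸ hMp)))
      obtain ⟨⟨z, hz⟩, hz1⟩ := (Subgroup.ne_bot_iff_exists_ne_one).mp hM0
      obtain ⟨i, hi⟩ := hMp ⟨z, hz⟩
      obtain ⟨y, hyz, j, hj⟩ := exists_pElement_preimage φ hφs (x := z)
        ⟨i, congrArg Subtype.val hi⟩
      have hy1 : τ y = 1 := by rw [← hτeq, hyz]; exact MonoidHom.mem_ker.mp (hMk hz)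
      refine hz1 (Subtype.ext ?_)
      show z = 1
      rw [← hyz, hφker]
      refine hcen _ fun r hr => ?_
      have h := commutes_of_trivial_on_sections hRp (le_refl N) (y := (y : H)) (n := q ^ j)
        (hq.odd_of_ne_two hq2).pow (by rw [← SubgroupClass.coe_pow, hj]; rfl)
        ((hτker y).mp hy1) r hr
      exact mul_inv_eq_iff_eq_mul.mp h
    set T' : Sylow 2 (H ⧸ U2) := T.mapSurjective (QuotientGroup.mk'_surjective U2)
    have hT' : (T' : Subgroup (H ⧸ U2)) = ((T : Subgroup H).subgroupOf N).map φ := by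
      rw [hφ, ← Subgroup.map_map, Subgroup.map_subgroupOf_eq_of_le hTN]
      rfl
    refine pLengthLE_succ_of_quotient (QuotientGroup.mk' U2) (QuotientGroup.mk'_surjective _)
      (QuotientGroup.ker_mk' _) (ih (H ⧸ U2) (solvable_of_surjective
        (QuotientGroup.mk'_surjective _)) hO' V' τ' hinj T' ?_ ?_)
    · rw [eq_bot_iff]
      intro q hq
      rw [Sylow.coe_mapSurjective, ← ser_map] at hq
      obtain ⟨w, hw, rfl⟩ := hq
      have hwN : w ∈ N := hTN (ser_le_self _ _ hw)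
      have h1 : τ ⟨w, hwN⟩ = 1 := (hτker ⟨w, hwN⟩).mpr fun X hX x hx => (hfacts X hX).1 w hw x hx
      exact Subgroup.mem_bot.mpr (hinj (by
        rw [map_one]; exact (hτeq ⟨w, hwN⟩).trans h1))
    · have h := map_chainOn (ρ := τ) (ρ' := τ') φ (G := (T : Subgroup H).subgroupOf N) (U := ⊤)
        (fun _ _ _ _ => Submodule.mem_top) LinearMap.id
        (fun g _ u _ => by rw [hτeq]; rfl) (e + 1)
      rw [Submodule.map_id, Submodule.map_id, hτchain, ← hT'] at h
      exact h.symm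

/-- A 2-separable group is solvable. -/
theorem isSolvable_of_isPiSeparable_two : ∀ (n : ℕ) (G : Type u) [Group G] [Finite G],
    Nat.card G ≤ n → Solvable.IsPiSeparable {2} G → Group.IsSolvable G := by
  intro n
  induction n with
  | zero => intro G _ _ hn _; exact absurd (Nat.card_pos (α := G)) (by omega)
  | succ n ih =>
    intro G _ _ hn hsep
    rcases subsingleton_or_nontrivial G with h | h
    · infer_instance
    obtain ⟨M, hMn, hM0, hM⟩ := hsep.exists_normal_ne_bot
    haveI := hMn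
    haveI : Group.IsSolvable M := by
      rcases hM with hM | hM
      · haveI : Fact (Nat.Prime 2) := ⟨Nat.prime_two⟩
        haveI : Group.IsNilpotent M := (IsPGroup.of_card (p := 2) (n := (Nat.card M).primeFactorsList.length)
          (Nat.eq_prime_pow_of_unique_prime_dvd Nat.card_pos.ne' fun hd hdvd => hM _ hd hdvd)).isNilpotent
        infer_instance
      · refine OddOrderTheorem.solvable ?_
        rw [Nat.odd_iff]
        by_contra hc
        exact hM 2 Nat.prime_two (by omega) rfl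
    haveI : Group.IsSolvable (G ⧸ M) := ih _ (by
      have := Solvable.card_quotient_lt hM0
      omega) (hsep.quotient M)
    exact Group.isSolvable_of_ker_le_range M.subtype (QuotientGroup.mk' M)
      (by rw [QuotientGroup.ker_mk', Subgroup.range_subtype])

/-- The 2-length of a 2-soluble group is at most the derived length of a Sylow 2-subgroup. -/
theorem pLengthLE_two_of_derived {G : Type u} [Group G] [Finite G]
    (hG : Cfsg.IsPSolvable 2 G) (d : ℕ)
    (hd : ∀ P : Sylow 2 G, derivedSeries (P : Subgroup G) d = ⊥) : Cfsg.PLengthLE 2 d G := by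
  classical
  haveI : Fact (Nat.Prime 2) := ⟨Nat.prime_two⟩
  haveI hsol : Group.IsSolvable G :=
    isSolvable_of_isPiSeparable_two _ G le_rfl (Solvable.isPiSeparable_of_isPSolvable hG)
  rcases d with _ | d
  · refine pLengthLE_zero fun g hg => ?_
    obtain ⟨k, hk⟩ := hg
    have hpg : IsPGroup 2 (Subgroup.zpowers g) := by
      rintro ⟨z, hz⟩
      obtain ⟨i, rfl⟩ := Subgroup.mem_zpowers_iff.mp hz
      exact ⟨k, Subtype.ext (show (g ^ i) ^ 2 ^ k = 1 by
        rw [← zpow_natCast, ← zpow_mul, mul_comm, zpow_mul, zpow_natCast, hk, one_zpow])⟩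
    obtain ⟨P, hP⟩ := hpg.exists_le_sylow
    have h1 := ser_eq_bot_iff.mp (hd P)
    rw [ser_zero] at h1
    have h2 := hP (Subgroup.mem_zpowers g)
    rw [h1, Subgroup.mem_bot] at h2
    rw [pow_zero, pow_one, h2]
  set A := G ⧸ Cfsg.pPrimeCore 2 G
  haveI : Group.IsSolvable A := solvable_of_surjective (QuotientGroup.mk'_surjective _)
  haveI hBn : (Cfsg.pCore 2 A).Normal := Cores.pCore_normal 2 _
  obtain ⟨D⟩ := exists_frattiniData (p := 2) (A := A) (Solvable.centralizer_pCore_le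
    (Solvable.isPiSeparable_of_isSolvable _) (Cores.pPrimeCore_quotient_self 2))
  obtain ⟨S⟩ := (inferInstance : Nonempty (Sylow 2 A))
  have hS : ser (S : Subgroup A) (d + 1) = ⊥ := ser_eq_bot_iff.mp
    (sylow_derivedSeries_of_surjective _ (QuotientGroup.mk'_surjective _) hd S)
  set b := QuotientGroup.mk' (Cfsg.pCore 2 A)
  have hbs : Function.Surjective b := QuotientGroup.mk'_surjective _
  refine pLengthLE_step G (main d _ (solvable_of_surjective hbs) (Cores.pCore_quotient_self 2 A)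
    D.V D.ρ D.injective (S.mapSurjective hbs) ?_ ?_)
  · rw [Sylow.coe_mapSurjective, ← ser_map, hS, Subgroup.map_bot]
  · rw [Sylow.coe_mapSurjective]
    have key : ∀ i, ∀ v ∈ chainOn D.ρ ((S : Subgroup A).map b) ⊤ i,
        ∃ y : Cfsg.pCore 2 A, (y : A) ∈ ser (S : Subgroup A) i ∧ D.pi y = v := by
      intro i
      induction i with
      | zero =>
        intro v _
        obtain ⟨y, rfl⟩ := D.pi_surjective v
        exact ⟨y, Cores.pCore_le_sylow S y.2, rfl⟩
      | succ i ih =>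
        let Xi : AddSubgroup D.V :=
          { carrier := {v | ∃ y : Cfsg.pCore 2 A, (y : A) ∈ ser (S : Subgroup A) (i + 1) ∧ D.pi y = v}
            zero_mem' := ⟨1, one_mem _, D.pi_one⟩
            add_mem' := fun {v w} ⟨y, hy, hyv⟩ ⟨z, hz, hzw⟩ =>
              ⟨y * z, mul_mem hy hz, by rw [D.pi_mul, hyv, hzw]⟩
            neg_mem' := fun {v} ⟨y, hy, hyv⟩ => ⟨y⁻¹, inv_mem hy, by
              have h := D.pi_mul y⁻¹ y
              rw [inv_mul_cancel, D.pi_one, hyv] at h
              exact eq_neg_of_add_eq_zero_left h.symm⟩ }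
        intro v hv
        refine (chainOn_succ_le (X := AddSubgroup.toZModSubmodule 2 Xi) fun g hg u hu => ?_) hv
        obtain ⟨s, hs, rfl⟩ := (ser_map b (S : Subgroup A) i).ge hg
        obtain ⟨y, hy, rfl⟩ := ih u hu
        refine ⟨⟨s * y * s⁻¹, hBn.conj_mem y y.2 s⟩ * y⁻¹, ?_, ?_⟩
        · show s * (y : A) * s⁻¹ * (y : A)⁻¹ ∈ _
          rw [← commutatorElement_def]
          exact commutator_mem_ser hs hy
        · show _ = D.ρ (s : A ⧸ Cfsg.pCore 2 A) (D.pi y) - D.pi y
          rw [D.pi_conj s y, eq_sub_iff_add_eq, ← D.pi_mul, inv_mul_cancel_right]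
    refine (Submodule.eq_bot_iff _).mpr fun v hv => ?_
    obtain ⟨y, hy, rfl⟩ := key _ v hv
    rw [hS, Subgroup.mem_bot] at hy
    rw [show y = 1 from Subtype.ext hy, D.pi_one]

end Cfsg.Agent.TwoLength
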