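/-
The 2-length is bounded by the exponent of a Sylow 2-subgroup (helper83).

Main results (namespace `Cfsg.Agent.TwoLength`):
* main_exp: the module form
* pLengthLE_two_of_exponent
-/
import Cfsg.Agent.Lib.TwoLength.Main
import Cfsg.Agent.Lib.TwoLength.ExpLocal
import Cfsg.Agent.Lib.TwoLength.ExpFour
import Cfsg.Agent.Lib.TwoLength.SectionExp

set_option autoImplicit false
set_option linter.style.haveILetI false
set_option linter.unusedSectionVars false

open scoped commutatorElement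

namespace Cfsg.Agent.TwoLength

open HallHigman

universe u

variable {H : Type u} [Group H] [Finite H]

attribute [local irreducible] secR sqCl

/-- The two powers differ in the kernel of each section of exponent four. -/
theorem section_facts_exp [Group.IsSolvable H] (hO : Cfsg.pCore 2 H = ⊥) {F : Type*} [Field F]
    [IsAlgClosed F] [CharP F 2] {V : Type*} [AddCommGroup V] [Module F V] [FiniteDimensional F V]
    {ρ : H →* Module.End F V} (hρ : Function.Injective ρ) {T C N : Subgroup H} (hT : IsPGroup 2 T)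
    (hCT : C ≤ T) (hC4 : ∀ x ∈ C, x ^ 4 = 1) (hTN : T ≤ N) {e : ℕ}
    (hd : ∀ g ∈ T, Deficient ρ 2 (e + 1) g) {X : Subgroup H} (hX : IsSec C N X) :
    ∀ g ∈ T, ∀ x ∈ X, (x * g) ^ 2 ^ (e + 1) * (g ^ 2 ^ (e + 1))⁻¹ ∈ secR N X := by
  classical
  intro g hg x hx
  have hXT : X ≤ T := hX.le.trans hCT
  have hXp : IsPGroup 2 X := hT.to_le hXT
  have hxg : x * g ∈ T := mul_mem (hXT hx) hg
  have hquot : ∀ i : ℕ, (x * g) ^ i * (g ^ i)⁻¹ ∈ X := by
    intro i
    induction i with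
    | zero => simp
    | succ i ih =>
      rw [pow_succ', pow_succ' g, mul_inv_rev]
      rw [show x * g * (x * g) ^ i * ((g ^ i)⁻¹ * g⁻¹) =
        x * (g * ((x * g) ^ i * (g ^ i)⁻¹) * g⁻¹) by simp only [mul_assoc]]
      exact mul_mem hx ((Subgroup.mem_normalizer_iff.mp (hX.norm (hTN hg)) _).mp ih)
  set All : Subgroup H := ⨅ (K : Subgroup H) (_ : K.Normal) (χ : K → F) (_ : Dsp ρ K χ ≠ ⊥),
    stabSub ρ (Dsp ρ K χ) with hAll
  have hmemAll : ∀ g, g ∈ All ↔ ∀ (K : Subgroup H) (_ : K.Normal) (χ : K → F),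
      Dsp ρ K χ ≠ ⊥ → g ∈ stabSub ρ (Dsp ρ K χ) := fun g => by
    simp only [hAll, Subgroup.mem_iInf]
  have hback : ∀ (K : Subgroup H) [K.Normal] (χ : K → F) (k : H),
      (Dsp ρ K (twist k⁻¹ χ)).map (ρ k) = Dsp ρ K χ := fun K _ χ k => by
    rw [Dsp_map, twist_twist, mul_inv_cancel, twist_one]
  have hbackne : ∀ (K : Subgroup H) [K.Normal] (χ : K → F) (k : H), Dsp ρ K χ ≠ ⊥ →
      Dsp ρ K (twist k⁻¹ χ) ≠ ⊥ := fun K _ χ k h e => h (by
    rw [← hback K χ k, e, Submodule.map_bot])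
  have hAllconj : ∀ k g, g ∈ All → k * g * k⁻¹ ∈ All := fun k g hg =>
    (hmemAll _).mpr fun K hK χ hne => by
      have h := conj_mem_stabSub (ρ := ρ) ((hmemAll g).mp hg K hK _ (hbackne K χ k hne)) k
      rwa [hback] at h
  by_cases hXA : X ≤ All
  swap
  · refine le_secR (Y := X ⊓ All) (fun k hk => Coprime.mem_normalizer_of_forall
      fun z hz => ⟨(Subgroup.mem_normalizer_iff.mp (hX.norm hk) z).mp hz.1, hAllconj k z hz.2⟩)
      (lt_of_le_of_ne inf_le_left fun h => hXA (inf_eq_left.mp h)) ⟨hquot _, ?_⟩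
    exact (hmemAll _).mpr fun K hK χ hne => mul_mem (pow_mem_stab_of_deficient hne (hd _ hxg))
      (inv_mem (pow_mem_stab_of_deficient hne (hd g hg)))
  set R3 : Subgroup H := X ⊓ ⨅ (K : Subgroup H) (_ : K.Normal)
    (_ : ∃ q : ℕ, q.Prime ∧ q ≠ 2 ∧ IsPGroup q K)
    (_ : ∀ a ∈ K, ∀ b ∈ K, ∀ c ∈ K, Commute ⁅a, b⁆ c) (χ : K → F) (_ : Dsp ρ K χ ≠ ⊥),
    sqCl X ⊔ (X ⊓ fixC ρ K (Dsp ρ K χ)) with hR3
  have hmem3 : ∀ g, g ∈ R3 ↔ g ∈ X ∧ ∀ (K : Subgroup H) (_ : K.Normal),
      (∃ q : ℕ, q.Prime ∧ q ≠ 2 ∧ IsPGroup q K) →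
      (∀ a ∈ K, ∀ b ∈ K, ∀ c ∈ K, Commute ⁅a, b⁆ c) → ∀ χ : K → F, Dsp ρ K χ ≠ ⊥ →
      g ∈ sqCl X ⊔ (X ⊓ fixC ρ K (Dsp ρ K χ)) := fun g => by
    simp only [hR3, Subgroup.mem_inf, Subgroup.mem_iInf]
  have h3 : R3 ≤ secR N X := by
    refine le_secR (fun k hk => Coprime.mem_normalizer_of_forall fun z hz => ?_)
      (lt_of_le_of_ne inf_le_left fun h => ?_)
    · have hz' := (hmem3 z).mp hz
      refine (hmem3 _).mpr ⟨(Subgroup.mem_normalizer_iff.mp (hX.norm hk) z).mp hz'.1,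
        fun K hK hq hc χ hne => ?_⟩
      have hsub : sqCl X ⊔ (X ⊓ fixC ρ K (Dsp ρ K (twist k⁻¹ χ))) ≤
          (sqCl X ⊔ (X ⊓ fixC ρ K (Dsp ρ K χ))).comap (MulAut.conj k).toMonoidHom := by
        refine sup_le (fun y hy => Subgroup.mem_sup_left (conj_mem_sqCl (hX.norm hk) hy))
          fun y hy => Subgroup.mem_sup_right
            ⟨(Subgroup.mem_normalizer_iff.mp (hX.norm hk) y).mp hy.1, ?_⟩
        have h := conj_mem_fixC hy.2 k
        rwa [hback] at h
      exact hsub (hz'.2 K hK hq hc _ (hbackne K χ k hne))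
    · refine hX.ne_bot (eq_bot_iff.mpr fun x hx => Subgroup.mem_bot.mpr ?_)
      obtain ⟨m, hm⟩ := exists_pow_eq_one hXp hx
      refine eq_one_of_centralizes_primary hO ⟨m, hm⟩ fun K hK q hq hq2 hKq hc c hc' => hρ ?_
      refine rho_eq_of_forall_fixC (fun χ hne => ?_) hc'
      refine le_of_le_sqCl_sup hXp (C := fixC ρ K (Dsp ρ K χ)) (fun y hy => ?_) hx
      exact ((hmem3 y).mp (h.ge hy)).2 K hK ⟨q, hq, hq2, hKq⟩ hc χ hne
  refine h3 ((hmem3 _).mpr ⟨hquot _, fun K hK ⟨q, hq, hq2, hKq⟩ hc χ hne => ?_⟩)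
  haveI : Fact q.Prime := ⟨hq⟩
  have huX := hquot (2 ^ e)
  rcases local_exp hρ hq2 hKq hc hne hT hg hxg (hd g hg) (hd _ hxg)
    ((hmemAll _).mp (hXA huX) K hK χ hne) (hC4 _ (hX.le huX)) with h1 | h1
  · exact Subgroup.mem_sup_right (Subgroup.mem_inf.mpr ⟨hquot _, h1⟩)
  · have h2 := mul_mem
      (Subgroup.mem_sup_right (S := sqCl X) (Subgroup.mem_inf.mpr
        ⟨mul_mem (hquot (2 ^ (e + 1))) (inv_mem (mul_mem huX huX)), h1⟩))
      (Subgroup.mem_sup_left (T := X ⊓ fixC ρ K (Dsp ρ K χ)) (sq_mem_sqCl huX))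
    rwa [inv_mul_cancel_right] at h2

/-- The module form of the theorem. -/
theorem main_exp : ∀ (e : ℕ) (H : Type u) [Group H] [Finite H], Group.IsSolvable H →
    Cfsg.pCore 2 H = ⊥ → ∀ (V : Type u) [AddCommGroup V] [Module (ZMod 2) V] [Finite V]
    (σ : H →* Module.End (ZMod 2) V), Function.Injective σ → ∀ T : Sylow 2 H,
    (∀ g ∈ (T : Subgroup H), Deficient σ 2 e g) → Cfsg.PLengthLE 2 e H := by
  intro e
  induction e with
  | zero =>
    intro H _ _ _ _ V _ _ _ σ hσ T hd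
    haveI : Fact (Nat.Prime 2) := ⟨Nat.prime_two⟩
    have hT : (T : Subgroup H) = ⊥ := eq_bot_iff.mpr fun t ht => Subgroup.mem_bot.mpr (hσ (by
      have h1 := (hd t ht).2
      rw [show 2 ^ (0 + 1) - 1 = 1 from rfl, pow_one, sub_eq_zero] at h1
      rw [h1, map_one]))
    refine pLengthLE_zero fun g hg => ?_
    obtain ⟨k, hk⟩ := hg
    have hpg : IsPGroup 2 (Subgroup.zpowers g) := by
      rintro ⟨z, hz⟩
      obtain ⟨i, rfl⟩ := Subgroup.mem_zpowers_iff.mp hz
      exact ⟨k, Subtype.ext (show (g ^ i) ^ 2 ^ k = 1 by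
        rw [← zpow_natCast, ← zpow_mul, mul_comm, zpow_mul, zpow_natCast, hk, one_zpow])⟩
    obtain ⟨P, hP⟩ := hpg.exists_le_sylow
    obtain ⟨c, hc⟩ := MulAction.exists_smul_eq H T P
    have h1 : g ∈ (P : Subgroup H) := hP (Subgroup.mem_zpowers g)
    rw [← hc, Sylow.coe_subgroup_smul, hT] at h1
    rw [pow_zero, pow_one]
    simpa using h1
  | succ e ih =>
    intro H _ _ hsol hO V _ _ _ σ hσ T hd
    classical
    haveI : Fact (Nat.Prime 2) := ⟨Nat.prime_two⟩
    haveI := hsol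
    -- scalars
    haveI : CharP (AlgebraicClosure (ZMod 2)) 2 :=
      charP_of_injective_algebraMap (algebraMap (ZMod 2) (AlgebraicClosure (ZMod 2))).injective 2
    haveI : Module.Finite (ZMod 2) V := Module.Finite.of_finite
    have hρ := extendRep_injective (AlgebraicClosure (ZMod 2)) hσ
    have hdρ : ∀ g ∈ (T : Subgroup H),
        Deficient (extendRep (AlgebraicClosure (ZMod 2)) σ) 2 (e + 1) g := fun g hg => by
      refine ⟨(hd g hg).1, ?_⟩
      have key : ∀ {S S' : Type u} [Ring S] [Ring S'] (f : S →+* S') (a : S) (n : ℕ),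
          (a - 1) ^ n = 0 → (f a - 1) ^ n = 0 := fun f a n h => by
        rw [← map_one f, ← map_sub, ← map_pow, h, map_zero]
      exact key (S := Module.End (ZMod 2) V) (S' := Module.End (AlgebraicClosure (ZMod 2))
        (TensorProduct (ZMod 2) (AlgebraicClosure (ZMod 2)) V)) (Module.End.baseChangeHom (ZMod 2) (AlgebraicClosure (ZMod 2)) V).toRingHom _ _
        (hd g hg).2
    -- the Sylow subgroup of `O_{2',2}`
    set U1 := Cfsg.pPrimeCore 2 H
    set U2 := (Cfsg.upperPSeries 2 H 2).1 with hU2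
    haveI : U2.Normal := (Cfsg.upperPSeries 2 H 2).2
    set a := QuotientGroup.mk' U1
    have has : Function.Surjective a := QuotientGroup.mk'_surjective _
    set B := Cfsg.pCore 2 (H ⧸ U1)
    haveI : B.Normal := Cores.pCore_normal 2 _
    have hU2a : U2 = B.comap a := PSeries.upperPSeries_two
    have hU12 : U1 ≤ U2 := fun x hx => by
      rw [hU2a, Subgroup.mem_comap, show a x = 1 from (QuotientGroup.eq_one_iff x).mpr hx]
      exact one_mem _
    set R := (T : Subgroup H) ⊓ U2 with hR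
    have hRp : IsPGroup 2 R := T.isPGroup'.to_le inf_le_left
    have hBT : ∀ b ∈ B, ∃ r ∈ R, a r = b := fun b hb => by
      obtain ⟨t, ht, e⟩ := Cores.pCore_le_sylow (T.mapSurjective has) hb
      exact ⟨t, Subgroup.mem_inf.mpr ⟨ht, by rw [hU2a, Subgroup.mem_comap, e]; exact hb⟩, e⟩
    have hUR : ∀ x ∈ U2, ∃ r ∈ R, r⁻¹ * x ∈ U1 := fun x hx => by
      rw [hU2a, Subgroup.mem_comap] at hx
      obtain ⟨r, hr, e⟩ := hBT _ hx
      exact ⟨r, hr, QuotientGroup.eq.mp e⟩
    have hsup : U1 ⊔ R = U2 := le_antisymm (sup_le hU12 inf_le_right) fun x hx => by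
      obtain ⟨r, hr, h⟩ := hUR x hx
      rw [← mul_inv_cancel_left r x]
      exact mul_mem (Subgroup.mem_sup_right hr) (Subgroup.mem_sup_left h)
    set N := Subgroup.normalizer (R : Set H) with hN
    have hRN : R ≤ N := Subgroup.le_normalizer
    have hTN : (T : Subgroup H) ≤ N := fun t ht => Coprime.mem_normalizer_of_forall fun r hr =>
      Subgroup.mem_inf.mpr ⟨mul_mem (mul_mem ht hr.1) (inv_mem ht),
        (inferInstance : U2.Normal).conj_mem r hr.2 t⟩
    set φ : N →* H ⧸ U2 := (QuotientGroup.mk' U2).comp N.subtype with hφ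
    have hφker : ∀ n : N, φ n = 1 ↔ (n : H) ∈ U2 := fun n => QuotientGroup.eq_one_iff _
    have hφs : Function.Surjective φ := by
      intro q
      obtain ⟨g, rfl⟩ := QuotientGroup.mk'_surjective U2 q
      obtain ⟨n, hn, u, hu, rfl⟩ := PSeries.exists_normalizer_mul U1 R
        (Cores.coprime_card_pPrimeCore 2) hRp (by rw [hsup]; infer_instance) g
      refine ⟨⟨n, hn⟩, (QuotientGroup.eq (s := U2)).mpr ?_⟩
      show n⁻¹ * (n * u) ∈ U2
      rw [inv_mul_cancel_left]
      exact hU12 hu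
    -- the sections
    obtain ⟨C, hCR, hC4, hCn, hCfix⟩ := exists_expFour hRp
    have hCp : IsPGroup 2 C := hRp.to_le hCR
    have hNC : N ≤ Subgroup.normalizer (C : Set H) := hCn
    have hfacts := fun X (hX : IsSec C N X) => section_facts_exp hO hρ T.isPGroup'
      (hCR.trans inf_le_left) hC4 hTN hdρ hX
    obtain ⟨V', _, _, _, τ, hτker, hτnil⟩ := exists_section_rep_exp hCp (hCR.trans hRN)
    -- `O_{2',2}` acts trivially
    have hker : φ.ker ≤ τ.ker := fun n hn => by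
      rw [MonoidHom.mem_ker, hφker] at hn
      obtain ⟨r, hr, hu⟩ := hUR n hn
      rw [MonoidHom.mem_ker, hτker]
      intro X hX x hx
      have hX' : IsSec R N X := ⟨hX.le.trans hCR, hX.norm, hX.ne⟩
      set v := r⁻¹ * (n : H) with hv
      have hvN : v ∈ N := mul_mem (inv_mem (hRN hr)) n.2
      have hvc : v ∈ Subgroup.centralizer (R : Set H) :=
        PSeries.mem_centralizer_of_commutator_mem (V := U1) (Cores.coprime_card_pPrimeCore 2) hRp
          hvN fun y _ => by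
          rw [show v * y * v⁻¹ * y⁻¹ = v * (y * v⁻¹ * y⁻¹) by group]
          exact mul_mem hu ((inferInstance : U1.Normal).conj_mem _ (inv_mem hu) y)
      have hvx : v * x * v⁻¹ = x :=
        mul_inv_eq_iff_eq_mul.mpr (Subgroup.mem_centralizer_iff.mp hvc x (hX'.le hx)).symm
      rw [show (n : H) * x * (n : H)⁻¹ * x⁻¹ = r * (v * x * v⁻¹) * r⁻¹ * x⁻¹ by rw [hv]; group, hvx,
        show r * x * r⁻¹ * x⁻¹ = ⁅x, r⁆⁻¹ by rw [commutatorElement_def]; group]
      exact inv_mem (hX'.commutator_le_secR hRp hRN le_rfl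
        (Subgroup.commutator_mem_commutator hx hr))
    obtain ⟨τ', hτeq⟩ := exists_lift_of_surjective φ hφs τ hker
    -- properties of the quotient
    have hO' : Cfsg.pCore 2 (H ⧸ U2) = ⊥ := by
      set M := (Cfsg.pCore 2 (H ⧸ U2)).comap (QuotientGroup.mk' U2)
      have hMn : (M.map a).Normal := Subgroup.Normal.map inferInstance a has
      have hMp : IsPGroup 2 (M.map a) := by
        rintro ⟨_, x, hx, rfl⟩
        obtain ⟨i, hi⟩ := Cores.isPGroup_pCore 2 _ ⟨_, hx⟩
        have hx2 : x ^ 2 ^ i ∈ U2 := by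
          rw [← QuotientGroup.eq_one_iff]
          exact congrArg Subtype.val hi
        rw [hU2a, Subgroup.mem_comap, map_pow] at hx2
        obtain ⟨j, hj⟩ := Cores.isPGroup_pCore 2 _ ⟨_, hx2⟩
        refine ⟨i + j, Subtype.ext ?_⟩
        have h := congrArg Subtype.val hj
        rw [SubgroupClass.coe_pow, ← pow_mul, ← pow_add] at h
        rw [SubgroupClass.coe_pow]
        exact h
      have hMU : M ≤ U2 := fun x hx => by
        rw [hU2a]; exact Cores.le_pCore hMn hMp ⟨x, hx, rfl⟩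
      rw [eq_bot_iff]
      intro q hq
      obtain ⟨x, rfl⟩ := QuotientGroup.mk'_surjective U2 q
      exact Subgroup.mem_bot.mpr ((QuotientGroup.eq_one_iff x).mpr (hMU hq))
    have hcen : ∀ y : H, (∀ r ∈ R, y * r = r * y) → y ∈ U2 := fun y hy => by
      rw [hU2a, Subgroup.mem_comap]
      refine centralizer_pCore_quotient_le (Solvable.isPiSeparable_of_isSolvable _) ?_
      refine Subgroup.mem_centralizer_iff.mpr fun b hb => ?_
      obtain ⟨r, hr, rfl⟩ := hBT b hb
      rw [← map_mul, ← map_mul, hy r hr]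
    have hinj : Function.Injective τ' := by
      rw [← MonoidHom.ker_eq_bot_iff]
      by_contra hne
      haveI : Group.IsSolvable (H ⧸ U2) := solvable_of_surjective (QuotientGroup.mk'_surjective _)
      obtain ⟨q, hq, M, hMn, hM0, hMk, -, hMp, -, -⟩ :=
        Solvable.exists_minimal_normal_pGroup hne
      haveI : Fact q.Prime := ⟨hq⟩
      have hq2 : q ≠ 2 := fun e => hM0 (le_bot_iff.mp (hO' ▸ Cores.le_pCore hMn (e ▸ hMp)))
      obtain ⟨⟨z, hz⟩, hz1⟩ := (Subgroup.ne_bot_iff_exists_ne_one).mp hM0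
      obtain ⟨i, hi⟩ := hMp ⟨z, hz⟩
      obtain ⟨y, hyz, j, hj⟩ := exists_pElement_preimage φ hφs (x := z)
        ⟨i, congrArg Subtype.val hi⟩
      have hy1 : τ y = 1 := by rw [← hτeq, hyz]; exact MonoidHom.mem_ker.mp (hMk hz)
      refine hz1 (Subtype.ext ?_)
      show z = 1
      rw [← hyz, hφker]
      refine hcen _ fun r hr => ?_
      have hjodd : Odd (q ^ j) := (hq.odd_of_ne_two hq2).pow
      have hjy : (y : H) ^ q ^ j = 1 := by rw [← SubgroupClass.coe_pow, hj]; rfl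
      have h := hCfix _ y.2 (q ^ j) hjodd hjy
        (commutes_of_trivial_on_sections hCp hNC hjodd hjy ((hτker y).mp hy1)) r hr
      exact mul_inv_eq_iff_eq_mul.mp h
    set T' : Sylow 2 (H ⧸ U2) := T.mapSurjective (QuotientGroup.mk'_surjective U2)
    refine pLengthLE_succ_of_quotient (QuotientGroup.mk' U2) (QuotientGroup.mk'_surjective _)
      (QuotientGroup.ker_mk' _) (ih (H ⧸ U2) (solvable_of_surjective
        (QuotientGroup.mk'_surjective _)) hO' V' τ' hinj T' ?_)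
    intro b hb
    rw [Sylow.coe_mapSurjective] at hb
    obtain ⟨w, hw, rfl⟩ := hb
    set k : N := ⟨w, hTN hw⟩
    have hwk : φ k = QuotientGroup.mk' U2 w := rfl
    rw [← hwk]
    have h0 : (τ' (φ k) - 1) ^ (2 ^ (e + 1) - 1) = 0 := by
      rw [hτeq]
      exact hτnil k (e + 1) fun X hX x hx => hfacts X hX w hw x hx
    refine ⟨hinj ?_, h0⟩
    rw [map_pow, map_one, ← sub_eq_zero, ← sub_one_pow_prime_pow,
      ← Nat.sub_add_cancel (Nat.one_le_pow (e + 1) 2 two_pos), pow_succ, h0, zero_mul]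

/-- The 2-length of a 2-soluble group is at most `e` if the exponent of a Sylow 2-subgroup divides
`2 ^ e`. -/
theorem pLengthLE_two_of_exponent {G : Type u} [Group G] [Finite G]
    (hG : Cfsg.IsPSolvable 2 G) (e : ℕ) (hexp : PExpDvd 2 e G) : Cfsg.PLengthLE 2 e G := by
  classical
  haveI : Fact (Nat.Prime 2) := ⟨Nat.prime_two⟩
  haveI hsol : Group.IsSolvable G :=
    isSolvable_of_isPiSeparable_two _ G le_rfl (Solvable.isPiSeparable_of_isPSolvable hG)
  rcases e with _ | d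
  · exact pLengthLE_zero hexp
  set A := G ⧸ Cfsg.pPrimeCore 2 G
  haveI : Group.IsSolvable A := solvable_of_surjective (QuotientGroup.mk'_surjective _)
  haveI hBn : (Cfsg.pCore 2 A).Normal := Cores.pCore_normal 2 _
  have hexpA : PExpDvd 2 (d + 1) A := hexp.of_surjective _ (QuotientGroup.mk'_surjective _)
  obtain ⟨D⟩ := exists_frattiniData (p := 2) (A := A) (Solvable.centralizer_pCore_le
    (Solvable.isPiSeparable_of_isSolvable _) (Cores.pPrimeCore_quotient_self 2))
  obtain ⟨S⟩ := (inferInstance : Nonempty (Sylow 2 A))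
  set b := QuotientGroup.mk' (Cfsg.pCore 2 A)
  have hbs : Function.Surjective b := QuotientGroup.mk'_surjective _
  refine pLengthLE_step G (main_exp d _ (solvable_of_surjective hbs)
    (Cores.pCore_quotient_self 2 A) D.V D.ρ D.injective (S.mapSurjective hbs) ?_)
  intro g hg
  rw [Sylow.coe_mapSurjective] at hg
  obtain ⟨s, hs, rfl⟩ := hg
  have hs2 : ∃ k : ℕ, s ^ 2 ^ k = 1 := exists_pow_eq_one S.isPGroup' hs
  exact ⟨by rw [← map_pow, hexpA s hs2, map_one], D.sub_one_pow_eq_zero hexpA hs2⟩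

end Cfsg.Agent.TwoLength
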